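import Cfsg.Agent.Lib.SolvableSignalizer.Linear.BadTwoAbelian

/-!
An involution of `T` moving only a small part of `V`: the nonabelian case.
-/

set_option autoImplicit false
set_option linter.style.haveILetI false
set_option linter.unusedSectionVars false

namespace Cfsg.Agent.SolvableSignalizer.Linear

open Subgroup
open Cfsg.Agent.Components
open scoped commutatorElement Pointwise

variable [hp : Fact (Nat.Prime 2)] {G : Type*} [Group G] [Finite G]
variable {r q : ℕ} {V F T A B Z : Subgroup G} {x : G}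

/-- An element commuting with a fixed point free element of order three of a subgroup of order four
acts as a power of it. -/
lemma exists_pow_on {P : Subgroup G} (hP : Nat.card P = 4) {z k : G}
    (hz : z ∈ normalizer (P : Set G)) (hk : k ∈ normalizer (P : Set G)) (hzk : Commute k z)
    (hz3 : z ^ 3 = 1) (hfree : P ⊓ centralizer {z} = ⊥) :
    ∃ j : Fin 3, ∀ v ∈ P, k * v * k⁻¹ = z ^ (j : ℕ) * v * (z ^ (j : ℕ))⁻¹ := by
  classical
  haveI := Fintype.ofFinite P
  obtain ⟨w, hw, hw1⟩ : ∃ w ∈ P, w ≠ 1 := by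
    by_contra h
    push Not at h
    rw [(eq_bot_iff_forall P).mpr h, card_bot] at hP
    omega
  set g : ℕ → G := fun n => z ^ n * w * (z ^ n)⁻¹ with hg
  have hgP : ∀ n, g n ∈ P := fun n => conj_mem_of_normalizer (pow_mem hz n) hw
  have hg1 : ∀ n, g n ≠ 1 := fun n h => hw1 (conj_eq_one_iff.mp h)
  have hnot : ¬ Commute z w := fun h => hw1 (mem_bot.mp (hfree ▸
    ⟨hw, mem_centralizer_singleton_iff.mpr h.eq.symm⟩))
  have h01 : g 0 ≠ g 1 := fun h => hnot (mem_centralizer_conj.mp (by simpa [hg] using h.symm))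
  have h02 : g 0 ≠ g 2 := fun h => by
    have h2 : Commute (z ^ 2) w := mem_centralizer_conj.mp (by simpa [hg] using h.symm)
    have h4 := h2.mul_left h2
    rw [← pow_add, show 2 + 2 = 3 + 1 from rfl, pow_add, hz3, one_mul, pow_one] at h4
    exact hnot h4
  have h12 : g 1 ≠ g 2 := fun h => by
    have h2 : z * w * z⁻¹ = z * (z * w * z⁻¹) * z⁻¹ := by
      simp only [hg, pow_one] at h
      calc z * w * z⁻¹ = z ^ 2 * w * (z ^ 2)⁻¹ := h
        _ = _ := by rw [sq]; group
    exact hnot (mem_centralizer_conj.mp ((mul_left_cancel (mul_right_cancel h2)).symm))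
  have hall : ∀ v ∈ P, v ≠ 1 → v = g 0 ∨ v = g 1 ∨ v = g 2 := by
    intro v hv hv1
    by_contra hc
    push Not at hc
    have hne : ∀ {a b : G} {ha : a ∈ P} {hb : b ∈ P}, a ≠ b → (⟨a, ha⟩ : P) ≠ ⟨b, hb⟩ :=
      fun h e => h (congrArg Subtype.val e)
    have : ({⟨1, P.one_mem⟩, ⟨v, hv⟩, ⟨g 0, hgP 0⟩, ⟨g 1, hgP 1⟩, ⟨g 2, hgP 2⟩} :
        Finset P).card = 5 := by
      simp [Finset.card_insert_of_notMem, hne hv1.symm, hne (hg1 0).symm, hne (hg1 1).symm,
        hne (hg1 2).symm, hne hc.1, hne hc.2.1, hne hc.2.2, hne h01, hne h02, hne h12]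
    have h5 := Finset.card_le_univ ({⟨1, P.one_mem⟩, ⟨v, hv⟩, ⟨g 0, hgP 0⟩, ⟨g 1, hgP 1⟩,
      ⟨g 2, hgP 2⟩} : Finset P)
    rw [this, ← Nat.card_eq_fintype_card, hP] at h5
    omega
  obtain ⟨j, hj⟩ : ∃ j : Fin 3, k * w * k⁻¹ = g j := by
    rcases hall _ (conj_mem_of_normalizer hk hw) (fun h => hw1 (conj_eq_one_iff.mp h)) with h | h | h
    · exact ⟨0, h⟩
    · exact ⟨1, h⟩
    · exact ⟨2, h⟩
  refine ⟨j, fun v hv => ?_⟩
  by_cases hv1 : v = 1
  · subst hv1; simp
  have hmove : ∀ n, k * g n * k⁻¹ = z ^ (j : ℕ) * g n * (z ^ (j : ℕ))⁻¹ := fun n => by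
    have hc : Commute k (z ^ n) := hzk.pow_right n
    have hc' : Commute (z ^ n) (z ^ (j : ℕ)) := (Commute.refl z).pow_pow n j
    calc k * g n * k⁻¹ = k * z ^ n * w * (k * z ^ n)⁻¹ := by simp only [hg]; group
      _ = z ^ n * k * w * (z ^ n * k)⁻¹ := by rw [hc.eq]
      _ = z ^ n * (k * w * k⁻¹) * (z ^ n)⁻¹ := by group
      _ = z ^ n * z ^ (j : ℕ) * w * (z ^ n * z ^ (j : ℕ))⁻¹ := by rw [hj]; simp only [hg]; group
      _ = z ^ (j : ℕ) * z ^ n * w * (z ^ (j : ℕ) * z ^ n)⁻¹ := by rw [hc'.eq]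
      _ = z ^ (j : ℕ) * g n * (z ^ (j : ℕ))⁻¹ := by simp only [hg]; group
  rcases hall v hv hv1 with h | h | h <;> rw [h] <;> exact hmove _

namespace Frame

variable (f : Frame r 2 V F T A)
include f

/-- The nonabelian case. -/
theorem bad_two_class (c : Core q F T A B Z x) (hx : x ∈ T) (hsq : Sq V x)
    (hI : Nat.card (mv V x) ≤ 4) (hab : ¬ IsMulCommutative B) : False := by
  haveI := Fact.mk c.prime
  haveI := Fact.mk f.primeR
  have hBV := c.le.trans f.normF
  have hxV := f.normT hx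
  have hZB : ∀ k ∈ Z, ∀ b ∈ B, Commute b k := fun k hk b hb =>
    mem_centralizer_iff.mp (c.zcentral hk) b hb
  obtain ⟨e, he, hxe⟩ : ∃ e ∈ B, ¬ Commute x e := by
    by_contra hc
    push Not at hc
    exact c.moved (mem_centralizer_iff.mpr fun b hb => (hc b hb).eq.symm)
  obtain ⟨d, i⟩ : ∃ d, Inverted q V B x e d := ⟨_, f.inverted c hx hsq hI he hxe⟩
  have hdV := hBV i.mem
  set W := mv V d with hW
  have hmvW : mv V x ≤ W := hW ▸ i.eq ▸ le_sup_left
  -- `d` is not central
  obtain ⟨e', he', hde⟩ : ∃ e' ∈ B, ¬ Commute d e' := by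
    by_contra hc
    push Not at hc
    let U : Subgroup G :=
      { carrier := {b | b ∈ B ∧ (∀ v ∈ B, Commute b v) ∧ b ^ q = 1}
        one_mem' := ⟨one_mem _, fun v _ => Commute.one_left v, one_pow q⟩
        mul_mem' := fun {u v} hu hv => ⟨B.mul_mem hu.1 hv.1,
          fun w hw => (hu.2.1 w hw).mul_left (hv.2.1 w hw), by
          rw [(hu.2.1 v hv.1).mul_pow, hu.2.2, hv.2.2, one_mul]⟩
        inv_mem' := fun {u} hu => ⟨B.inv_mem hu.1, fun w hw => (hu.2.1 w hw).inv_left,
          by rw [inv_pow, hu.2.2, inv_one]⟩ }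
    have hU : ∀ g ∈ normalizer (B : Set G), g ∈ normalizer (U : Set G) := by
      have key : ∀ g ∈ normalizer (B : Set G), ∀ u ∈ U, g * u * g⁻¹ ∈ U := fun g hg u hu =>
        ⟨conj_mem_of_normalizer hg hu.1, fun v hv => by
          have h := hu.2.1 _ (conj_mem_of_normalizer' hg hv)
          show g * u * g⁻¹ * v = v * (g * u * g⁻¹)
          calc g * u * g⁻¹ * v = g * (u * (g⁻¹ * v * g)) * g⁻¹ := by group
            _ = g * (g⁻¹ * v * g * u) * g⁻¹ := by rw [h.eq]
            _ = v * (g * u * g⁻¹) := by group,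
          by rw [conj_pow, hu.2.2, mul_one, mul_inv_cancel]⟩
      exact fun g hg => mem_normalizer_iff.mpr fun u => ⟨key g hg u, fun hu => by
        simpa [mul_assoc] using key g⁻¹ (inv_mem hg) _ hu⟩
    have hne : U ≠ B := fun h => hab ⟨⟨fun u v => Subtype.ext ((h.ge u.2).2.1 v v.2)⟩⟩
    have hfix := c.small U (fun _ h => h.1) hne (fun g hg => hU g (c.normA hg))
      (fun g hg => hU g (c.normT hg))
    exact f.inverted_moved c i
      (mem_centralizer_iff.mp hfix d ⟨i.mem, fun v hv => hc v hv, i.order⟩).symm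
  set z := ⁅d, e'⁆ with hz
  have hzZ : z ∈ Z := c.comm d i.mem e' he'
  have hzB : z ∈ B := c.zle hzZ
  have hzF : z ∈ F := c.le hzB
  have hzV := hBV hzB
  have hzd : Commute d z := hZB z hzZ d i.mem
  have hxz : Commute x z := (mem_centralizer_iff.mp c.zfix z hzZ).symm
  have hconj1 : e' * d * e'⁻¹ = z⁻¹ * d := by rw [hz, commutatorElement_def]; group
  have hzq : z ^ q = 1 := by
    have h1 : (z⁻¹ * d) ^ q = 1 := by
      rw [← hconj1, conj_pow, i.order, mul_one, mul_inv_cancel]
    rw [hzd.symm.inv_left.mul_pow, i.order, mul_one, inv_pow, inv_eq_one] at h1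
    exact h1
  have hz1 : z ≠ 1 := fun h => hde (commutatorElement_eq_one_iff_mul_comm.mp h)
  have hzo : orderOf z = q := orderOf_eq_prime hzq hz1
  set Wz := mv V z with hWz
  set Cz := V ⊓ centralizer {z} with hCz
  have hWzV : Wz ≤ V := mv_le_self hzV
  have hWze := elem_le f.elemV hWzV
  have hNW : ∀ g ∈ normalizer (V : Set G), Commute g z → g ∈ normalizer (Wz : Set G) := by
    intro g hg hgz
    rw [hWz, ← commutator_zpowers_eq hzV]
    exact le_normalizer_commutator' hg (le_normalizer_of_comm hgz.eq)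
  have hNC : ∀ g ∈ normalizer (V : Set G), Commute g z → g ∈ normalizer (Cz : Set G) := by
    intro g hg hgz
    rw [hCz, ← centralizer_zpowers]
    exact le_normalizer_centralizer_inf hg (le_normalizer_of_comm hgz.eq)
  have hBW : ∀ b ∈ B, b ∈ normalizer (Wz : Set G) := fun b hb => hNW b (hBV hb) (hZB z hzZ b hb)
  have hBC : ∀ b ∈ B, b ∈ normalizer (Cz : Set G) := fun b hb => hNC b (hBV hb) (hZB z hzZ b hb)
  have hsZ := f.splitV (zpowers_le.mpr hzF)
  rw [commutator_zpowers_eq hzV, centralizer_zpowers] at hsZ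
  have hfreeZ : Wz ⊓ centralizer {z} = ⊥ := le_bot_iff.mp (hsZ.2.1 ▸
    le_inf inf_le_left (le_inf (inf_le_left.trans hWzV) inf_le_right))
  -- the pieces of `Wz`
  set P : ℤ → Subgroup G := fun k => Wz ⊓ centralizer {d * z ^ k} with hP
  have hPW : ∀ k, P k ≤ Wz := fun k => inf_le_left
  have hPn : ∀ k, ∀ g ∈ B, Commute g d → g ∈ normalizer (P k : Set G) := fun k g hg hgd =>
    inf_normalizer_le_normalizer_inf ⟨hBW g hg, le_normalizer (mem_centralizer_singleton_iff.mpr
      (hgd.mul_right ((hZB z hzZ g hg).zpow_right k)).eq)⟩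
  have hePk : ∀ k, MulAut.conj e' • P (k + 1) = P k := by
    intro k
    simp only [hP, smul_inf, Coprime.conj_smul_eq_self_iff.mpr (hBW e' he')]
    congr 1
    have h1 : e' * (d * z ^ (k + 1)) * e'⁻¹ = d * z ^ k := by
      calc e' * (d * z ^ (k + 1)) * e'⁻¹ = (e' * d * e'⁻¹) * (e' * z ^ (k + 1) * e'⁻¹) := by group
        _ = z⁻¹ * d * z ^ (k + 1) := by
          rw [hconj1, conj_eq_self ((hZB z hzZ e' he').zpow_right _)]
        _ = d * (z⁻¹ * z ^ (k + 1)) := by rw [← mul_assoc, (hzd.inv_right).eq]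
        _ = d * z ^ k := by group
    ext v
    rw [Coprime.mem_conj_smul, mem_centralizer_singleton_iff, mem_centralizer_singleton_iff, ← h1]
    constructor
    · intro h
      calc v * (e' * (d * z ^ (k + 1)) * e'⁻¹) = e' * (e'⁻¹ * v * e' * (d * z ^ (k + 1))) * e'⁻¹ := by
            group
        _ = e' * (d * z ^ (k + 1) * (e'⁻¹ * v * e')) * e'⁻¹ := by rw [h]
        _ = e' * (d * z ^ (k + 1)) * e'⁻¹ * v := by group
    · intro h
      calc e'⁻¹ * v * e' * (d * z ^ (k + 1)) = e'⁻¹ * (v * (e' * (d * z ^ (k + 1)) * e'⁻¹)) * e' := by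
            group
        _ = e'⁻¹ * (e' * (d * z ^ (k + 1)) * e'⁻¹ * v) * e' := by rw [h]
        _ = d * z ^ (k + 1) * (e'⁻¹ * v * e') := by group
  have hPc : ∀ k, Nat.card (P k) = Nat.card (P 0) := by
    intro k
    induction k using Int.induction_on with
    | zero => rfl
    | succ n ih => rw [← ih, ← hePk n, Coprime.card_conj_smul]
    | pred n ih =>
      rw [← hePk (-(n : ℤ) - 1), Coprime.card_conj_smul, show -(n : ℤ) - 1 + 1 = -(n : ℤ) by ring, ih]
  have hfreeP : ∀ k, P k ⊓ centralizer {z} = ⊥ := fun k =>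
    le_bot_iff.mp (hfreeZ ▸ inf_le_inf_right _ (hPW k))
  -- some piece is nontrivial
  have hWz1 : Wz ≠ ⊥ := fun h => hz1 (f.faith hzF (mv_eq_bot (hWz ▸ h)))
  have hP0 : P 0 ≠ ⊥ := by
    intro h0
    have hall : ∀ k, P k = ⊥ := fun k => eq_bot_of_card_eq _ (by rw [hPc k, h0, card_bot])
    set E := zpowers d ⊔ zpowers z
    have hcl : E = closure {d, z} := by
      rw [show ({d, z} : Set G) = {d} ∪ {z} from rfl, Subgroup.closure_union, ← zpowers_eq_closure,
        ← zpowers_eq_closure]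
    haveI hEc : IsMulCommutative E := by
      rw [hcl]
      refine isMulCommutative_closure ?_
      rintro u (rfl | rfl) v (rfl | rfl)
      exacts [rfl, hzd.eq, hzd.eq.symm, rfl]
    have hnE : zpowers z ≤ normalizer ((zpowers d : Subgroup G) : Set G) :=
      zpowers_le.mpr (le_normalizer_of_comm hzd.eq.symm)
    have hEn : E ≤ normalizer (Wz : Set G) :=
      sup_le (zpowers_le.mpr (hBW d i.mem)) (zpowers_le.mpr (hBW z hzB))
    have hEV : ¬ 2 ∣ Nat.card E :=
      f.not_dvd (sup_le (zpowers_le.mpr (c.le i.mem)) (zpowers_le.mpr hzF))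
    have hdo : orderOf d = q := orderOf_eq_prime i.order i.ne
    have hncyc : ¬ IsCyclic E := by
      intro hcyc
      obtain ⟨g, hg⟩ := IsCyclic.exists_generator (α := E)
      obtain ⟨a, ha, b, hb, hab'⟩ := (Coprime.mem_sup_of_le_normalizer hnE).mp g.2
      have hgq : (g : G) ^ q = 1 := by
        obtain ⟨m, rfl⟩ := mem_zpowers_iff.mp ha
        obtain ⟨n, rfl⟩ := mem_zpowers_iff.mp hb
        rw [← hab', (hzd.zpow_zpow m n).mul_pow, ← zpow_natCast (d ^ m), ← zpow_natCast (z ^ n),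
          ← zpow_mul, ← zpow_mul, mul_comm m, mul_comm n, zpow_mul, zpow_mul, zpow_natCast,
          zpow_natCast, i.order, hzq, one_zpow, one_zpow, one_mul]
      have hEq : Nat.card E ≤ q := by
        rw [← orderOf_eq_card_of_forall_mem_zpowers hg, ← orderOf_coe]
        exact Nat.le_of_dvd c.prime.pos (orderOf_dvd_of_pow_eq_one hgq)
      have h1 : zpowers d = E :=
        eq_of_le_of_card_ge le_sup_left (by rw [Nat.card_zpowers, hdo]; exact hEq)
      have h2 : zpowers z = E :=
        eq_of_le_of_card_ge le_sup_right (by rw [Nat.card_zpowers, hzo]; exact hEq)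
      obtain ⟨m, hm⟩ := mem_zpowers_iff.mp (h2.ge (h1.le (mem_zpowers d)))
      exact hde (hm ▸ ((hZB z hzZ e' he').zpow_right m).symm)
    refine hWz1 ?_
    rw [← Coprime.fixedGen_eq hncyc hEn (coprime_card hWze hEV)]
    refine le_bot_iff.mp (iSup₂_le fun a ha => le_of_eq ?_)
    obtain ⟨u, hu, v, hv, rfl⟩ := (Coprime.mem_sup_of_le_normalizer hnE).mp ha.1
    obtain ⟨m, rfl⟩ := mem_zpowers_iff.mp hu
    obtain ⟨n, rfl⟩ := mem_zpowers_iff.mp hv
    by_cases hm : (q : ℤ) ∣ m
    · have hd1 : d ^ m = 1 := by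
        obtain ⟨s, rfl⟩ := hm
        rw [zpow_mul, zpow_natCast, i.order, one_zpow]
      rw [hd1, one_mul] at ha ⊢
      have hn : ¬ (q : ℤ) ∣ n := fun ⟨s, hs⟩ => ha.2 (by
        rw [hs, zpow_mul, zpow_natCast, hzq, one_zpow])
      obtain ⟨s, t, hst⟩ := (Int.isCoprime_iff_gcd_eq_one.mpr (by
        rw [Int.gcd_eq_natAbs]
        exact (Nat.Prime.coprime_iff_not_dvd c.prime).mpr (fun h => hn (Int.natCast_dvd.mpr h)) :
        Int.gcd (q : ℤ) n = 1) : IsCoprime (q : ℤ) n)
      refine le_bot_iff.mp (le_trans (inf_le_inf_left _ fun w hw => ?_) hfreeZ.le)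
      have hw' : Commute (z ^ n) w := (mem_centralizer_singleton_iff.mp hw).symm
      have hzz : z = (z ^ n) ^ t := by
        rw [← zpow_mul]
        conv_lhs => rw [← zpow_one z, ← hst]
        rw [zpow_add, mul_comm s, zpow_mul, zpow_natCast, hzq, one_zpow, one_mul, mul_comm n t]
      have h5 := hw'.zpow_left t
      rw [← hzz] at h5
      exact mem_centralizer_singleton_iff.mpr h5.eq.symm
    · obtain ⟨s, t, hst⟩ := (Int.isCoprime_iff_gcd_eq_one.mpr (by
        rw [Int.gcd_eq_natAbs]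
        exact (Nat.Prime.coprime_iff_not_dvd c.prime).mpr (fun h => hm (Int.natCast_dvd.mpr h)) :
        Int.gcd (q : ℤ) m = 1) : IsCoprime (q : ℤ) m)
      refine le_bot_iff.mp (le_trans (inf_le_inf_left _ fun w hw => ?_) (hall (n * t)).le)
      have hw' : Commute (d ^ m * z ^ n) w := (mem_centralizer_singleton_iff.mp hw).symm
      have hdz : d * z ^ (n * t) = (d ^ m * z ^ n) ^ t := by
        rw [(hzd.zpow_zpow m n).mul_zpow, ← zpow_mul, ← zpow_mul]
        congr 1
        conv_lhs => rw [← zpow_one d, ← hst]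
        rw [zpow_add, mul_comm s, zpow_mul, zpow_natCast, i.order, one_zpow, one_mul, mul_comm m t]
      exact mem_centralizer_singleton_iff.mpr (hdz ▸ hw'.zpow_left t).eq.symm
  -- two pieces fill the image of `d`
  have hsub : ∀ k : ℤ, ¬ (q : ℤ) ∣ k → P k ≤ W ∧ P k ≤ ⁅Wz, zpowers d⁆ := by
    intro k hk
    have hPe := elem_le hWze (hPW k)
    have hdn := hPn k d i.mem (Commute.refl d)
    have hfree : P k ⊓ centralizer {d} = ⊥ := by
      refine le_bot_iff.mp ?_
      rintro w ⟨hw, hwd⟩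
      have h1 : Commute (d * z ^ k) w := (mem_centralizer_singleton_iff.mp hw.2).symm
      have h2 : Commute d w := (mem_centralizer_singleton_iff.mp hwd).symm
      have h3 : Commute (z ^ k) w := by
        have := h2.inv_left.mul_left h1
        rwa [inv_mul_cancel_left] at this
      obtain ⟨s, t, hst⟩ := (Int.isCoprime_iff_gcd_eq_one.mpr (by
        rw [Int.gcd_eq_natAbs]
        exact (Nat.Prime.coprime_iff_not_dvd c.prime).mpr (fun h => hk (Int.natCast_dvd.mpr h)) :
        Int.gcd (q : ℤ) k = 1) : IsCoprime (q : ℤ) k)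
      have hzz : z = (z ^ k) ^ t := by
        rw [← zpow_mul]
        conv_lhs => rw [← zpow_one z, ← hst]
        rw [zpow_add, mul_comm s, zpow_mul, zpow_natCast, hzq, one_zpow, one_mul, mul_comm k t]
      have h5 := h3.zpow_left t
      rw [← hzz] at h5
      exact (hfreeP k).le ⟨hw, mem_centralizer_singleton_iff.mpr h5.eq.symm⟩
    have hs := split hPe (f.not_dvd (zpowers_le.mpr (c.le i.mem))) (zpowers_le.mpr hdn)
    rw [centralizer_zpowers, hfree, sup_bot_eq] at hs
    refine ⟨?_, hs.1.ge.trans (commutator_mono (hPW k) le_rfl)⟩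
    rw [hW, ← commutator_zpowers_eq hdV]
    exact hs.1.ge.trans (commutator_mono ((hPW k).trans hWzV) le_rfl)
  have hq1 : ¬ (q : ℤ) ∣ 1 := fun h => c.prime.not_dvd_one (Int.natCast_dvd.mp h)
  have hq2 : ¬ (q : ℤ) ∣ 2 := fun h => by
    have := (Nat.prime_dvd_prime_iff_eq c.prime Nat.prime_two).mp (Int.natCast_dvd.mp h)
    rcases i.small with h' | h' <;> omega
  have hP12 : P 1 ⊓ P 2 = ⊥ := by
    refine le_bot_iff.mp ?_
    rintro w ⟨hw1, hw2⟩
    have h1 : Commute (d * z ^ (1 : ℤ)) w := (mem_centralizer_singleton_iff.mp hw1.2).symm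
    have h2 : Commute (d * z ^ (2 : ℤ)) w := (mem_centralizer_singleton_iff.mp hw2.2).symm
    have h3 := h1.inv_left.mul_left h2
    rw [show (d * z ^ (1 : ℤ))⁻¹ * (d * z ^ (2 : ℤ)) = z by group] at h3
    exact (hfreeP 1).le ⟨hw1, mem_centralizer_singleton_iff.mpr h3.eq.symm⟩
  have hnP : ∀ k, P k ≤ V := fun k => (hPW k).trans hWzV
  have hc4 : Nat.card (P 0) = 4 ∧ q = 3 := by
    have hmod := card_fixed_modEq (r := q) hzq (hPn 0 z hzB hzd.symm)
    rw [hfreeP 0, card_bot] at hmod
    have hle : Nat.card (P 0) * Nat.card (P 0) ≤ 16 := by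
      rw [← i.card, ← hW]
      calc Nat.card (P 0) * Nat.card (P 0) = Nat.card (P 1) * Nat.card (P 2) := by rw [hPc 1, hPc 2]
        _ = Nat.card ↥(P 1 ⊔ P 2) := (Coprime.card_sup_of_disjoint
            ((hnP 2).trans (abelian_le_normalizer f.elemV (hnP 1))) (disjoint_iff.mpr hP12)).symm
        _ ≤ _ := card_le_of_le (sup_le (hsub 1 hq1).1 (hsub 2 hq2).1)
    obtain ⟨n, hn⟩ := ((Hyperplane.isPGroup f.elemV).to_le (hnP 0)).exists_card_eq
    rw [hn] at hmod hle ⊢
    have hdvd : q ∣ 2 ^ n - 1 :=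
      (Nat.modEq_iff_dvd' (Nat.one_le_pow _ _ (by norm_num))).mp hmod.symm
    rcases n with _ | _ | _ | n
    · exact absurd (eq_bot_of_card_eq _ (by simpa using hn)) hP0
    · exact absurd hdvd (by simpa using c.prime.ne_one)
    · exact ⟨by norm_num, (Nat.prime_dvd_prime_iff_eq c.prime Nat.prime_three).mp hdvd⟩
    · exfalso
      have h8 : 2 ^ 3 ≤ 2 ^ (n + 1 + 1 + 1) := Nat.pow_le_pow_right (by norm_num) (by omega)
      have := (Nat.mul_le_mul h8 h8).trans hle
      norm_num at this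
  obtain ⟨hc4, rfl⟩ := hc4
  have hW12 : P 1 ⊔ P 2 = W := by
    refine eq_of_le_of_card_ge (sup_le (hsub 1 hq1).1 (hsub 2 hq2).1) ?_
    rw [Coprime.card_sup_of_disjoint ((hnP 2).trans (abelian_le_normalizer f.elemV (hnP 1)))
      (disjoint_iff.mpr hP12), hPc 1, hPc 2, hc4, hW, i.card]
  have hWWz : W ≤ Wz := hW12 ▸ sup_le (hPW 1) (hPW 2)
  have hspan : Wz ≤ P 0 ⊔ (P 1 ⊔ P 2) := by
    have hs := split hWze (f.not_dvd (zpowers_le.mpr (c.le i.mem)))
      (zpowers_le.mpr (hBW d i.mem))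
    rw [centralizer_zpowers] at hs
    refine hs.1.ge.trans (sup_le ?_ ?_)
    · refine le_sup_of_le_right ?_
      rw [hW12, hW, ← commutator_zpowers_eq hdV]
      exact commutator_mono hWzV le_rfl
    · refine le_sup_of_le_left (le_inf inf_le_left (inf_le_right.trans ?_))
      rw [zpow_zero, mul_one]
  have hVspan : V ≤ Wz ⊔ Cz := hsZ.1.ge
  have hdC : d ∈ centralizer (Cz : Set G) := mem_centralizer_iff.mpr fun v hv => by
    have h1 : ⁅d, v⁆ ∈ Wz ⊓ centralizer {z} :=
      ⟨hWWz (comm_mem_mv hv.1), (comm_mem (hBC d i.mem) hv).2⟩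
    rw [hfreeZ, mem_bot] at h1
    exact (commutatorElement_eq_one_iff_mul_comm.mp h1).symm
  -- an element commuting with `d` and `e'` acts on `Wz` as a power of `z`
  have huniform : ∀ k ∈ Z, ∃ j : Fin 3, ∀ v ∈ Wz,
      k * v * k⁻¹ = z ^ (j : ℕ) * v * (z ^ (j : ℕ))⁻¹ := by
    intro k hk
    have hkB := c.zle hk
    obtain ⟨j, hj⟩ := exists_pow_on hc4 (hPn 0 z hzB hzd.symm)
      (hPn 0 k hkB (hZB k hk d i.mem).symm) (hZB z hzZ k hkB) hzq (hfreeP 0)
    refine ⟨j, ?_⟩
    set S : Subgroup G := centralizer {(z ^ (j : ℕ))⁻¹ * k}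
    have hS : ∀ v, v ∈ S ↔ k * v * k⁻¹ = z ^ (j : ℕ) * v * (z ^ (j : ℕ))⁻¹ := by
      intro v
      rw [mem_centralizer_singleton_iff]
      constructor
      · intro h
        calc k * v * k⁻¹ = z ^ (j : ℕ) * ((z ^ (j : ℕ))⁻¹ * k * v) * k⁻¹ := by group
          _ = z ^ (j : ℕ) * (v * ((z ^ (j : ℕ))⁻¹ * k)) * k⁻¹ := by rw [h]
          _ = _ := by group
      · intro h
        calc v * ((z ^ (j : ℕ))⁻¹ * k) = (z ^ (j : ℕ))⁻¹ *
              (z ^ (j : ℕ) * v * (z ^ (j : ℕ))⁻¹) * k := by group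
          _ = (z ^ (j : ℕ))⁻¹ * (k * v * k⁻¹) * k := by rw [h]
          _ = (z ^ (j : ℕ))⁻¹ * k * v := by group
    have hec : Commute e' ((z ^ (j : ℕ))⁻¹ * k) :=
      (((hZB z hzZ e' he').pow_right _).inv_right).mul_right (hZB k hk e' he')
    have heS : MulAut.conj e'⁻¹ • S = S := Coprime.conj_smul_eq_self_iff.mpr
      (inv_mem (le_normalizer (mem_centralizer_singleton_iff.mpr hec.eq)))
    have hP0S : P 0 ≤ S := fun v hv => (hS v).mpr (hj v hv)
    have hP1S : P 1 ≤ S := by
      rw [← Coprime.conj_inv_smul_smul e' (P 1), (show MulAut.conj e' • P 1 = P 0 by simpa using hePk 0), ← heS]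
      exact pointwise_smul_le_pointwise_smul_iff.mpr hP0S
    have hP2S : P 2 ≤ S := by
      rw [← Coprime.conj_inv_smul_smul e' (P 2), show P 2 = P (1 + 1) from rfl, hePk 1, ← heS]
      exact pointwise_smul_le_pointwise_smul_iff.mpr hP1S
    exact fun v hv => (hS v).mp (sup_le hP0S (sup_le hP1S hP2S) (hspan hv))
  have hzWfree : ∀ j : Fin 3, (j : ℕ) ≠ 0 → ∀ v ∈ Wz, Commute (z ^ (j : ℕ)) v → v = 1 := by
    intro j hj v hv hc
    have hco : Nat.Coprime (j : ℕ) (orderOf z) := by
      rw [hzo]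
      exact ((Nat.Prime.coprime_iff_not_dvd Nat.prime_three).mpr fun h => by
        have := Nat.le_of_dvd (Nat.pos_of_ne_zero hj) h
        omega).symm
    obtain ⟨m, hm⟩ := exists_pow_eq_self_of_coprime hco
    exact mem_bot.mp (hfreeZ ▸ ⟨hv, mem_centralizer_singleton_iff.mpr (hm ▸ hc.pow_left m).eq.symm⟩)
  have hr3 : r ≠ 3 := fun h => f.coprimeF (by
    rw [h, ← hzo]
    exact Subgroup.orderOf_dvd_natCard _ hzF)
  have hWza : ∀ a ∈ A, mv V (a * z * a⁻¹) = MulAut.conj a • Wz := by
    intro a ha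
    rw [hWz, ← commutator_zpowers_eq hzV,
      ← commutator_zpowers_eq (hBV (c.zle (conj_mem_of_normalizer (c.zA ha) hzZ))),
      Coprime.conj_smul_commutator, Coprime.conj_smul_eq_self_iff.mpr (f.normA ha)]
    congr 1
    rw [Coprime.conj_smul_eq_map, MonoidHom.map_zpowers]
    rfl
  refine f.inverted_moved c i (f.commute_of_blocks hWzV inf_le_left hVspan (c.le i.mem)
    (hBW d i.mem) hdC hx (hNW x hxV hxz) (hNC x hxV hxz) ?_ ?_)
  · intro a ha haW
    set z' := a * z * a⁻¹
    have hz'Z : z' ∈ Z := conj_mem_of_normalizer (c.zA ha) hzZ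
    obtain ⟨j, hj⟩ := huniform z' hz'Z
    have hfe := f.fixed_eq (D := zpowers z) (D' := zpowers z') (zpowers_le.mpr hzF)
      (zpowers_le.mpr (c.le (c.zle hz'Z))) (by
        rw [commutator_zpowers_eq hzV, commutator_zpowers_eq (hBV (c.zle hz'Z)), hWza a ha,
          Coprime.conj_smul_eq_self_iff.mpr haW])
    rw [centralizer_zpowers, centralizer_zpowers] at hfe
    have hz'eq : z' = z ^ (j : ℕ) := by
      refine f.eq_of_agree (c.le (c.zle hz'Z)) (F.pow_mem hzF _) hVspan hj fun v hv => ?_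
      rw [conj_eq_self (mem_centralizer_singleton_iff.mp (hfe.ge hv).2).symm,
        conj_eq_self ((show Commute z v from (mem_centralizer_singleton_iff.mp hv.2).symm).pow_left _)]
    have haz : Commute a z := by
      have h3 : (j : ℕ) = 0 ∨ (j : ℕ) = 1 ∨ (j : ℕ) = 2 := by omega
      rcases h3 with h | h | h <;> rw [h] at hz'eq
      · exfalso
        rw [pow_zero] at hz'eq
        exact hz1 (conj_eq_one_iff.mp hz'eq)
      · rw [pow_one] at hz'eq
        exact mem_centralizer_conj.mp hz'eq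
      · exfalso
        have hinv : a * z * a⁻¹ = z⁻¹ := by
          rw [show a * z * a⁻¹ = z' from rfl, hz'eq]
          exact eq_inv_of_mul_eq_one_left (by rw [← pow_succ, hzq])
        have hit : ∀ n : ℕ, a ^ n * z * (a ^ n)⁻¹ = z ^ ((-1 : ℤ) ^ n) := by
          intro n
          induction n with
          | zero => simp
          | succ n ih =>
            calc a ^ (n + 1) * z * (a ^ (n + 1))⁻¹ = a * (a ^ n * z * (a ^ n)⁻¹) * a⁻¹ := by
                  rw [pow_succ']; group
              _ = a * z ^ ((-1 : ℤ) ^ n) * a⁻¹ := by rw [ih]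
              _ = (a * z * a⁻¹) ^ ((-1 : ℤ) ^ n) := (conj_zpow).symm
              _ = z ^ ((-1 : ℤ) ^ (n + 1)) := by
                rw [hinv, inv_zpow', pow_succ]; ring_nf
        have h1 := hit r
        rw [f.elemA.2 a ha, (f.primeR.odd_of_ne_two f.ne).neg_one_pow] at h1
        simp only [one_mul, inv_one, mul_one, zpow_neg, zpow_one] at h1
        have h2 : z ^ 2 = 1 := by rw [sq]; nth_rw 1 [h1]; exact inv_mul_cancel z
        exact hz1 (by simpa [h2, pow_succ] using hzq)
    set E := B ⊓ centralizer (Cz : Set G)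
    have hdE : d ∈ E := ⟨i.mem, hdC⟩
    have hzE : z ∈ E :=
      ⟨hzB, mem_centralizer_iff.mpr fun v hv => mem_centralizer_singleton_iff.mp hv.2⟩
    have haE : a ∈ normalizer (E : Set G) := inf_normalizer_le_normalizer_inf
      ⟨c.normA ha, normalizer_le_centralizer' Cz (hNC a (f.normA ha) haz)⟩
    have hcommE : ∀ k ∈ E, ∀ b ∈ B, ⁅k, b⁆ ∈ zpowers z := by
      intro k hk b hb
      obtain ⟨j, hj⟩ := huniform _ (c.comm k hk.1 b hb)
      have hC : ⁅k, b⁆ ∈ centralizer (Cz : Set G) := by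
        rw [commutatorElement_def, mul_assoc, mul_assoc, ← mul_assoc b]
        exact mul_mem hk.2 (conj_mem_of_normalizer (normalizer_le_centralizer' Cz (hBC b hb))
          (inv_mem hk.2))
      refine (f.eq_of_agree (c.le (c.zle (c.comm k hk.1 b hb))) (F.pow_mem hzF _) hVspan hj
        fun v hv => ?_) ▸ pow_mem (mem_zpowers z) _
      rw [conj_eq_self (mem_centralizer_iff.mp hC v hv).symm,
        conj_eq_self ((show Commute z v from (mem_centralizer_singleton_iff.mp hv.2).symm).pow_left _)]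
    let φ : E →* zpowers z :=
      { toFun := fun k => ⟨⁅(k : G), d⁆, hcommE k k.2 d i.mem⟩
        map_one' := Subtype.ext (commutatorElement_one_left d)
        map_mul' := fun k l => Subtype.ext (by
          show ⁅(k : G) * l, d⁆ = ⁅(k : G), d⁆ * ⁅(l : G), d⁆
          have hc' : ⁅(l : G), d⁆ ∈ Z := c.comm l l.2.1 d i.mem
          rw [commutatorElement_mul_left_eq_conj_mul, conj_eq_self (hZB _ hc' k k.2.1)]
          exact (hZB _ hc' _ (c.zle (c.comm k k.2.1 d i.mem))).eq.symm) }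
    have hker : Nat.card φ.ker ≤ 3 * 3 := by
      have hdata : ∀ k : φ.ker, ∃ ji : Fin 3 × Fin 3,
          (∀ v ∈ P 0, ((k : E) : G) * v * ((k : E) : G)⁻¹ =
            z ^ (ji.1 : ℕ) * v * (z ^ (ji.1 : ℕ))⁻¹) ∧
          ⁅((k : E) : G), e'⁆ = z ^ (ji.2 : ℕ) := by
        intro k
        have hkd : Commute ((k : E) : G) d :=
          commutatorElement_eq_one_iff_mul_comm.mp (congrArg Subtype.val (MonoidHom.mem_ker.mp k.2))
        obtain ⟨j, hj⟩ := exists_pow_on hc4 (hPn 0 z hzB hzd.symm) (hPn 0 _ (k : E).2.1 hkd)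
          (hZB z hzZ _ (k : E).2.1) hzq (hfreeP 0)
        obtain ⟨n, hn⟩ := (IsOfFinOrder.mem_powers_iff_mem_zpowers (isOfFinOrder_of_finite z)).mpr
          (hcommE _ (k : E).2 e' he')
        refine ⟨(j, ⟨n % 3, Nat.mod_lt _ (by norm_num)⟩), hj, ?_⟩
        show _ = z ^ (n % 3)
        conv_rhs => rw [← hzo, pow_mod_orderOf]
        exact hn.symm
      choose ji h1 h2 using hdata
      have hinj : Function.Injective ji := by
        intro k l hkl
        have e1 : ∀ v ∈ P 0, ((k : E) : G) * v * ((k : E) : G)⁻¹ =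
            ((l : E) : G) * v * ((l : E) : G)⁻¹ := fun v hv => by rw [h1 k v hv, h1 l v hv, hkl]
        set g := ((l : E) : G)⁻¹ * ((k : E) : G)
        have hg0 : P 0 ≤ centralizer {g} := by
          intro v hv
          rw [mem_centralizer_singleton_iff]
          calc v * g = ((l : E) : G)⁻¹ * (((l : E) : G) * v * ((l : E) : G)⁻¹) * ((k : E) : G) := by
                simp only [g]; group
            _ = ((l : E) : G)⁻¹ * (((k : E) : G) * v * ((k : E) : G)⁻¹) * ((k : E) : G) := by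
              rw [e1 v hv]
            _ = g * v := by simp only [g]; group
        have hconjk : ∀ m : φ.ker, e' * ((m : E) : G) * e'⁻¹ =
            (z ^ ((ji m).2 : ℕ))⁻¹ * ((m : E) : G) := by
          intro m
          rw [← h2 m, commutatorElement_def]
          group
        have hcg : Commute e' g := by
          refine mem_centralizer_conj.mp ?_
          calc e' * g * e'⁻¹ = (e' * ((l : E) : G) * e'⁻¹)⁻¹ * (e' * ((k : E) : G) * e'⁻¹) := by
                simp only [g]; group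
            _ = g := by rw [hconjk, hconjk, hkl]; simp only [g]; group
        have heS : MulAut.conj e'⁻¹ • centralizer ({g} : Set G) = centralizer {g} :=
          Coprime.conj_smul_eq_self_iff.mpr
            (inv_mem (le_normalizer (mem_centralizer_singleton_iff.mpr hcg.eq)))
        have hg1 : P 1 ≤ centralizer {g} := by
          rw [← Coprime.conj_inv_smul_smul e' (P 1), (show MulAut.conj e' • P 1 = P 0 by simpa using hePk 0), ← heS]
          exact pointwise_smul_le_pointwise_smul_iff.mpr hg0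
        have hg2 : P 2 ≤ centralizer {g} := by
          rw [← Coprime.conj_inv_smul_smul e' (P 2), show P 2 = P (1 + 1) from rfl, hePk 1, ← heS]
          exact pointwise_smul_le_pointwise_smul_iff.mpr hg1
        refine Subtype.ext (Subtype.ext (f.eq_of_agree (c.le (k : E).2.1) (c.le (l : E).2.1) hVspan
          (fun v hv => ?_) fun v hv => ?_))
        · have hv' := mem_centralizer_singleton_iff.mp (sup_le hg0 (sup_le hg1 hg2) (hspan hv))
          calc ((k : E) : G) * v * ((k : E) : G)⁻¹ = ((l : E) : G) * (g * v) * ((k : E) : G)⁻¹ := by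
                simp only [g]; group
            _ = ((l : E) : G) * (v * g) * ((k : E) : G)⁻¹ := by rw [hv']
            _ = _ := by simp only [g]; group
        · rw [conj_eq_self (mem_centralizer_iff.mp (k : E).2.2 v hv).symm,
            conj_eq_self (mem_centralizer_iff.mp (l : E).2.2 v hv).symm]
      refine (Nat.card_le_card_of_injective _ hinj).trans ?_
      simp
    have hE27 : Nat.card E ≤ 3 * (3 * 3) := by
      rw [card_eq_card_quotient_mul_card_subgroup φ.ker,
        Nat.card_congr (QuotientGroup.quotientKerEquivRange φ).toEquiv]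
      refine Nat.mul_le_mul ?_ hker
      refine (Nat.le_of_dvd Nat.card_pos (card_subgroup_dvd_card φ.range)).trans ?_
      rw [Nat.card_zpowers, hzo]
    set N := (zpowers z).subgroupOf E
    haveI : N.Normal := by
      refine normal_subgroupOf_of_le_normalizer fun k hk => ?_
      exact le_normalizer_of_comm (hZB z hzZ k hk.1).eq
    have hQ : Nat.card (E ⧸ N) ≤ 5 ∨ Nat.card (E ⧸ N) = 9 := by
      have h1 := card_eq_card_quotient_mul_card_subgroup N
      rw [Nat.card_congr (subgroupOfEquivOfLe (zpowers_le.mpr hzE)).toEquiv, Nat.card_zpowers,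
        hzo] at h1
      obtain ⟨n, hn⟩ := (c.pgroup.to_le (inf_le_left : E ≤ B)).exists_card_eq
      have hdvd : Nat.card (E ⧸ N) ∣ 3 ^ n := hn ▸ h1 ▸ dvd_mul_right _ 3
      obtain ⟨m, -, hm⟩ := (Nat.dvd_prime_pow Nat.prime_three).mp hdvd
      rw [hm] at h1 ⊢
      rcases m with _ | _ | _ | m
      · left; norm_num
      · left; norm_num
      · right; norm_num
      · exfalso
        have : 3 ^ 3 ≤ 3 ^ (m + 1 + 1 + 1) := Nat.pow_le_pow_right (by norm_num) (by omega)
        omega
    set α : MulAut E := normalizerMonoidHom E ⟨a, haE⟩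
    have hαN : N.map α.toMonoidHom = N := by
      refine eq_of_le_of_card_ge ?_ (by rw [card_map_of_injective (MulEquiv.injective _)])
      rintro _ ⟨k, hk, rfl⟩
      obtain ⟨n, hn⟩ := mem_zpowers_iff.mp (mem_subgroupOf.mp hk)
      refine mem_subgroupOf.mpr (mem_zpowers_iff.mpr ⟨n, ?_⟩)
      show z ^ n = a * (k : G) * a⁻¹
      rw [← hn, conj_eq_self (haz.zpow_right n)]
    set σ : MulAut (E ⧸ N) := QuotientGroup.congr N N α hαN
    have hσn : ∀ (n : ℕ) (k : E), (σ ^ n) (QuotientGroup.mk k) = QuotientGroup.mk ((α ^ n) k) := by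
      intro n
      induction n with
      | zero => intro k; rfl
      | succ n ih =>
        intro k
        rw [pow_succ', pow_succ', MulAut.mul_apply, MulAut.mul_apply, ih]
        rfl
    have hσr : σ ^ r = 1 := MulEquiv.ext fun y => by
      induction y using QuotientGroup.induction_on with
      | H k => rw [hσn, conjAut_pow haE (f.elemA.2 a ha)]; rfl
    have hσ := aut_small f.ne σ hσr (Or.inr ⟨hr3, hQ⟩)
    have h1 : (QuotientGroup.mk (α ⟨d, hdE⟩) : E ⧸ N) = QuotientGroup.mk ⟨d, hdE⟩ := by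
      have := hσn 1 ⟨d, hdE⟩
      rw [pow_one, pow_one, hσ] at this
      exact this.symm
    obtain ⟨m, hm⟩ := mem_zpowers_iff.mp (mem_subgroupOf.mp (QuotientGroup.eq.mp h1.symm))
    have hada : a * d * a⁻¹ = d * z ^ m := by
      rw [hm]
      show a * d * a⁻¹ = d * (d⁻¹ * (a * d * a⁻¹))
      group
    have hit : ∀ n : ℕ, a ^ n * d * (a ^ n)⁻¹ = d * z ^ (m * n) := by
      intro n
      induction n with
      | zero => simp
      | succ n ih =>
        calc a ^ (n + 1) * d * (a ^ (n + 1))⁻¹ = a * (a ^ n * d * (a ^ n)⁻¹) * a⁻¹ := by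
              rw [pow_succ']; group
          _ = a * (d * z ^ (m * n)) * a⁻¹ := by rw [ih]
          _ = (a * d * a⁻¹) * (a * z ^ (m * n) * a⁻¹) := by group
          _ = d * z ^ (m * (n + 1 : ℕ)) := by
            rw [hada, conj_eq_self (haz.zpow_right _), mul_assoc, ← zpow_add]
            push_cast
            ring_nf
    have h2 := hit r
    rw [f.elemA.2 a ha, one_mul, inv_one, mul_one] at h2
    have h3 : (3 : ℤ) ∣ m * r := by
      have h4 : z ^ (m * (r : ℤ)) = 1 := mul_eq_left.mp h2.symm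
      have h5 := orderOf_dvd_iff_zpow_eq_one.mpr h4
      rw [hzo] at h5
      exact_mod_cast h5
    have h4 : (3 : ℤ) ∣ m := by
      refine (Int.Prime.dvd_mul' Nat.prime_three h3).resolve_right fun h => hr3 ?_
      exact ((Nat.prime_dvd_prime_iff_eq Nat.prime_three f.primeR).mp
        (Int.natCast_dvd_natCast.mp h)).symm
    obtain ⟨s, rfl⟩ := h4
    refine mem_centralizer_conj.mp ?_
    rw [hada, zpow_mul, show (3 : ℤ) = ((3 : ℕ) : ℤ) from rfl, zpow_natCast, hzq, one_zpow, mul_one]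
  · intro a ha haW
    set z' := a * z * a⁻¹
    have hz'Z : z' ∈ Z := conj_mem_of_normalizer (c.zA ha) hzZ
    obtain ⟨j, hj⟩ := huniform z' hz'Z
    have hz'V := hBV (c.zle hz'Z)
    by_cases hj0 : (j : ℕ) = 0
    swap
    · exfalso
      have hfree : Wz ⊓ centralizer {z'} = ⊥ := by
        refine le_bot_iff.mp ?_
        rintro v ⟨hv, hvc⟩
        refine mem_bot.mpr (hzWfree j hj0 v hv (mem_centralizer_conj.mp ?_))
        rw [← hj v hv]
        exact conj_eq_self (mem_centralizer_singleton_iff.mp hvc).symm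
      have hs := split hWze (f.not_dvd (zpowers_le.mpr (c.le (c.zle hz'Z))))
        (zpowers_le.mpr (hBW z' (c.zle hz'Z)))
      rw [centralizer_zpowers, hfree, sup_bot_eq] at hs
      have hle : Wz ≤ MulAut.conj a • Wz := by
        rw [← hWza a ha, ← commutator_zpowers_eq hz'V]
        exact hs.1.ge.trans (commutator_mono hWzV le_rfl)
      exact haW (Coprime.conj_smul_eq_self_iff.mp
        (eq_of_le_of_card_ge hle (by rw [Coprime.card_conj_smul])).symm)
    have hfix : ∀ v ∈ Wz, Commute z' v := fun v hv => mem_centralizer_conj.mp (by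
      rw [hj v hv, hj0]; simp)
    have hd'B : a * d * a⁻¹ ∈ B := conj_mem_of_normalizer (c.normA ha) i.mem
    refine mem_centralizer_iff.mpr fun v hv => (mem_centralizer_conj.mp ?_).eq.symm
    refine conj_eq_self (commutatorElement_eq_one_iff_mul_comm.mp ?_)
    have h1 : ⁅a * d * a⁻¹, v⁆ ∈ Wz := comm_mem (hBW _ hd'B) hv
    have h2 : ⁅a * d * a⁻¹, v⁆ ∈ MulAut.conj a • Wz := by
      have hv' := conj_mem_of_normalizer' (f.normA ha) (hWzV hv)
      refine ⟨⁅d, a⁻¹ * v * a⁆, hWWz (comm_mem_mv hv'), ?_⟩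
      show a * ⁅d, a⁻¹ * v * a⁆ * a⁻¹ = _
      simp only [commutatorElement_def]; group
    obtain ⟨w, hw, hwe⟩ := h2
    have hwz : w ∈ Wz ⊓ centralizer {z} := by
      refine ⟨hw, mem_centralizer_singleton_iff.mpr ?_⟩
      have h := (hfix _ h1).eq
      rw [← hwe] at h
      have h' : a * z * a⁻¹ * (a * w * a⁻¹) = a * w * a⁻¹ * (a * z * a⁻¹) := h
      have h'' : a * (z * w) * a⁻¹ = a * (w * z) * a⁻¹ := by
        calc a * (z * w) * a⁻¹ = a * z * a⁻¹ * (a * w * a⁻¹) := by group
          _ = a * w * a⁻¹ * (a * z * a⁻¹) := h'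
          _ = _ := by group
      exact ((mul_left_cancel (mul_right_cancel h''))).symm
    rw [hfreeZ, mem_bot] at hwz
    rw [← hwe, hwz]
    simp

end Frame

end Cfsg.Agent.SolvableSignalizer.Linear
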