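import Cfsg.Agent.Lib.SolvableSignalizer.Linear.BadThree
import Cfsg.Agent.Lib.SolvableSignalizer.Linear.BadTwoClass

/-!
No element of `T` is quadratic on `V` and moves at most `p ^ 2` elements of it.
-/

set_option autoImplicit false
set_option linter.style.haveILetI false
set_option linter.unusedSectionVars false

namespace Cfsg.Agent.SolvableSignalizer.Linear

open Subgroup
open Cfsg.Agent.Components
open scoped commutatorElement

variable {p : ℕ} [hp : Fact p.Prime] {G : Type*} [Group G] [Finite G] {r : ℕ}
  {V F T A : Subgroup G}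

theorem Frame.no_small (f : Frame r p V F T A) {x : G} (hx : x ∈ T) (hx1 : x ≠ 1) (hsq : Sq V x)
    (hI : Nat.card (mv V x) ≤ p ^ 2) : False := by
  obtain ⟨q, B, Z, c⟩ := f.exists_core hx hx1
  by_cases hp2 : p = 2
  · subst hp2
    norm_num at hI
    by_cases hab : IsMulCommutative B
    · exact f.bad_two_abelian c hx hsq hI hab
    · exact f.bad_two_class c hx hsq hI hab
  have hxB := c.normT hx
  haveI : Group.IsNilpotent B :=
    haveI := f.nilF
    Group.nilpotent_of_mulEquiv (subgroupOfEquivOfLe c.le)
  obtain ⟨h3, S, hS, hS2, hSc⟩ := quad_moved hp2 f.elemV (c.le.trans f.normF) (f.normT hx) hsq hxB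
    (f.not_dvd c.le) inferInstance (f.pT.to_le (zpowers_le.mpr hx)) fun hle => c.moved
      (mem_centralizer_iff.mpr fun b hb => by
        refine commutatorElement_eq_one_iff_mul_comm.mp (f.faith ?_
          (hle (commutator_mem_commutator hb (mem_zpowers x))))
        refine c.le ?_
        rw [commutatorElement_def, mul_assoc, mul_assoc, ← mul_assoc x]
        exact B.mul_mem hb (conj_mem_of_normalizer hxB (B.inv_mem hb)))
  subst h3
  have hq : q = 2 := by
    haveI := Fact.mk c.prime
    obtain ⟨k, hk⟩ := hS2.exists_card_eq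
    obtain ⟨n, hn⟩ := c.pgroup.exists_card_eq
    have hk0 : k ≠ 0 := by
      rintro rfl
      apply hSc
      rw [eq_bot_of_card_eq S (by simpa using hk)]
      infer_instance
    have h2 : 2 ∣ q ^ n := hn ▸ (dvd_pow_self 2 hk0).trans (hk ▸ card_dvd_of_le hS)
    exact ((Nat.prime_dvd_prime_iff_eq Nat.prime_two c.prime).mp
      (Nat.prime_two.dvd_of_dvd_pow h2)).symm
  subst hq
  exact f.bad_three c hx hsq (hI.trans_eq (by norm_num))

end Cfsg.Agent.SolvableSignalizer.Linear
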