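import Cfsg.Agent.Lib.SolvableSignalizer.Linear.ThreePair

/-!
No element of order three of `T` is quadratic on `V` and moves at most nine elements of it.
-/

set_option autoImplicit false
set_option linter.style.haveILetI false
set_option linter.unusedSectionVars false

namespace Cfsg.Agent.SolvableSignalizer.Linear

open Subgroup
open Cfsg.Agent.Components
open scoped commutatorElement Pointwise

variable {G : Type*} [Group G] [Finite G]

lemma Sq.conj {V : Subgroup G} {x a : G} (h : Sq V x) (ha : a ∈ normalizer (V : Set G)) :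
    Sq V (a * x * a⁻¹) := by
  intro v hv
  have h1 := h _ (conj_mem_of_normalizer' ha hv)
  have e : ⁅a * x * a⁻¹, v⁆ = a * ⁅x, a⁻¹ * v * a⁆ * a⁻¹ := by
    simp only [commutatorElement_def]; group
  rw [e]
  show _ = _
  calc a * x * a⁻¹ * (a * ⁅x, a⁻¹ * v * a⁆ * a⁻¹) = a * (x * ⁅x, a⁻¹ * v * a⁆) * a⁻¹ := by group
    _ = a * (⁅x, a⁻¹ * v * a⁆ * x) * a⁻¹ := by rw [h1.eq]
    _ = _ := by group

lemma mv_conj {V : Subgroup G} {x a : G} (ha : a ∈ normalizer (V : Set G)) :
    mv V (a * x * a⁻¹) = MulAut.conj a • mv V x := by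
  refine le_antisymm (mv_le fun v hv => ?_) ?_
  · refine ⟨_, comm_mem_mv (conj_mem_of_normalizer' ha hv), ?_⟩
    show a * ⁅x, a⁻¹ * v * a⁆ * a⁻¹ = _
    simp only [commutatorElement_def]; group
  · rintro _ ⟨w, hw, rfl⟩
    have hle : mv V x ≤ (mv V (a * x * a⁻¹)).comap (MulAut.conj a).toMonoidHom := by
      refine mv_le fun v hv => ?_
      show a * ⁅x, v⁆ * a⁻¹ ∈ mv V (a * x * a⁻¹)
      have e : a * ⁅x, v⁆ * a⁻¹ = ⁅a * x * a⁻¹, a * v * a⁻¹⁆ := by
        simp only [commutatorElement_def]; group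
      rw [e]
      exact comm_mem_mv (conj_mem_of_normalizer ha hv)
    exact hle hw

lemma Core.conj {q p r : ℕ} [Fact p.Prime] {V F T A B Z : Subgroup G} {x a : G}
    (c : Core q F T A B Z x) (_f : Frame r p V F T A) (ha : a ∈ A) : Core q F T A B Z (a * x * a⁻¹) := by
  refine { c with moved := fun h => c.moved ?_, zfix := ?_, small := fun U h1 h2 h3 h4 => ?_ }
  · have := conj_mem_of_normalizer' (normalizer_le_centralizer' _ (c.normA ha)) h
    simpa [mul_assoc] using this
  · exact mem_centralizer_iff.mpr fun z hz => (c.fix_conj ha hz).eq.symm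
  · exact conj_mem_of_normalizer (normalizer_le_centralizer' _ (h3 ha)) (c.small U h1 h2 h3 h4)

namespace Three

variable {V B Z : Subgroup G} {x g : G}

/-- Two commuting quaternion groups commuting with a third. -/
theorem Quat.no_triple (s : Setup V B Z x) (q : Quat V B Z x g) {f₁ f₂ θ : G} (hf₁ : f₁ ∈ B)
    (hf₂ : f₂ ∈ B) (hθ : θ ∈ B) (h11 : f₁ * f₁ = g * g) (hθθ : θ * θ = g * g)
    (h12 : f₁ * f₂ = g * g * (f₂ * f₁)) (hθ1 : Commute θ f₁) (hθ2 : Commute θ f₂)
    (hc : ∀ k ∈ ({f₁, f₂, θ} : Set G), Commute k g ∧ Commute k (x * g * x⁻¹)) : False := by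
  haveI := Fact.mk Nat.prime_three
  set W := mv V (g * g) with hW
  set I := mv V x with hI
  have hIW : I ≤ W := q.fixed.ge.trans inf_le_left
  have hpres : ∀ k ∈ ({f₁, f₂, θ} : Set G), k ∈ B → k ∈ normalizer (I : Set G) := by
    intro k hk hkB
    refine mem_normalizer_of_map_le fun v hv => q.fixed.le
      ⟨conj_mem_of_normalizer (q.normW' s hkB) (hIW hv), ?_⟩
    refine mem_centralizer_singleton_iff.mpr (mem_centralizer_conj.mp ?_).eq.symm
    have hcom := q.commute_on s le_rfl (q.normWx s) (q.normW' s q.mem) (q.normW' s hkB)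
      (fun v _ => conj_swap (hc k hk).1) (fun v _ => conj_swap (hc k hk).2) v (hIW hv)
    calc x * (k * v * k⁻¹) * x⁻¹ = x * k * v * (x * k)⁻¹ := by group
      _ = k * x * v * (k * x)⁻¹ := hcom
      _ = k * (x * v * x⁻¹) * k⁻¹ := by group
      _ = k * v * k⁻¹ := by
        rw [conj_eq_self (mem_centralizer_singleton_iff.mp (q.fixed.ge hv).2).symm]
  have hf₁I := hpres f₁ (by simp) hf₁
  have hf₂I := hpres f₂ (by simp) hf₂
  have hθI := hpres θ (by simp) hθ
  set S := θ * f₁ with hS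
  set E := I ⊓ centralizer {S} with hE
  have hmem : ∀ v ∈ I, S * v * S⁻¹ = v → v ∈ E := fun v hv h =>
    ⟨hv, mem_centralizer_singleton_iff.mpr (mem_centralizer_conj.mp h).eq.symm⟩
  have hswap : ∀ v ∈ I, S * (f₂ * v * f₂⁻¹) * S⁻¹ = (f₂ * (S * v * S⁻¹) * f₂⁻¹)⁻¹ := by
    intro v hv
    have e : S * f₂ = g * g * (f₂ * S) := by
      calc θ * f₁ * f₂ = θ * (g * g) * (f₂ * f₁) := by rw [mul_assoc, h12]; group
        _ = g * g * (θ * f₂) * f₁ := by rw [(s.zcomm hθ q.zmem).eq]; group
        _ = g * g * (f₂ * (θ * f₁)) := by rw [hθ2.eq]; group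
    have hm : f₂ * S * v * (f₂ * S)⁻¹ ∈ W := conj_mem_of_normalizer
      (q.normW' s (B.mul_mem hf₂ (B.mul_mem hθ hf₁))) (hIW hv)
    calc S * (f₂ * v * f₂⁻¹) * S⁻¹ = S * f₂ * v * (S * f₂)⁻¹ := by group
      _ = g * g * (f₂ * S * v * (f₂ * S)⁻¹) * (g * g)⁻¹ := by rw [e]; group
      _ = (f₂ * S * v * (f₂ * S)⁻¹)⁻¹ := q.neg _ hm
      _ = _ := by group
  have hE1 : E ≠ ⊥ := by
    intro hbot
    obtain ⟨v, hv, hv1⟩ : ∃ v ∈ I, v ≠ 1 := by
      by_contra h
      push Not at h
      have := q.cardI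
      rw [← hI, (eq_bot_iff_forall I).mpr h, card_bot] at this
      norm_num at this
    have hSI : S ∈ normalizer (I : Set G) := mul_mem hθI hf₁I
    have hS2 : S * S = 1 := by
      calc θ * f₁ * (θ * f₁) = θ * (f₁ * θ) * f₁ := by group
        _ = θ * θ * (f₁ * f₁) := by rw [← hθ1.eq]; group
        _ = 1 := by rw [hθθ, h11, q.ord]
    have hinv : S * v * S⁻¹ = v⁻¹ := by
      refine (inv_eq_of_mul_eq_one_right (mem_bot.mp (hbot ▸ hmem _
        (I.mul_mem hv (conj_mem_of_normalizer hSI hv)) ?_))).symm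
      calc S * (v * (S * v * S⁻¹)) * S⁻¹ = S * v * S⁻¹ * (S * S * v * (S * S)⁻¹) := by
            simp only [mul_assoc, mul_inv_rev, inv_mul_cancel_left]
        _ = S * v * S⁻¹ * v := by rw [hS2, one_mul, inv_one, mul_one]
        _ = v * (S * v * S⁻¹) := Hyperplane.mem_comm (q.elemW s)
            (hIW (conj_mem_of_normalizer hSI hv)) (hIW hv)
    have h1 := hswap v hv
    rw [hinv, show (f₂ * v⁻¹ * f₂⁻¹)⁻¹ = f₂ * v * f₂⁻¹ by group] at h1
    exact hv1 (conj_eq_one_iff.mp (mem_bot.mp (hbot ▸ hmem _ (conj_mem_of_normalizer hf₂I hv) h1)))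
  obtain ⟨i, hi, hi1⟩ : ∃ i ∈ E, i ≠ 1 := by
    by_contra h
    push Not at h
    exact hE1 ((eq_bot_iff_forall _).mpr h)
  have hneI : E ≠ I := by
    intro e
    have hf2i : f₂ * i * f₂⁻¹ ∈ E := e.symm ▸ conj_mem_of_normalizer hf₂I hi.1
    have h1 := hswap i hi.1
    rw [conj_eq_self (mem_centralizer_singleton_iff.mp hi.2).symm,
      conj_eq_self (mem_centralizer_singleton_iff.mp hf2i.2).symm] at h1
    have h3 : (f₂ * i * f₂⁻¹) ^ 3 = 1 := (q.elemW s).2 _ (hIW hf2i.1)
    rw [pow_succ, pow_two, mul_eq_one_iff_eq_inv.mpr h1, one_mul] at h3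
    exact hi1 (conj_eq_one_iff.mp h3)
  have hE3 : Nat.card E = 3 := by
    have hd := card_dvd_of_le (inf_le_left : E ≤ I)
    rw [q.cardI] at hd
    obtain ⟨n, hn, e⟩ := (Nat.dvd_prime_pow Nat.prime_three).mp (show Nat.card E ∣ 3 ^ 2 from hd)
    interval_cases n
    · exact absurd (eq_bot_of_card_eq E e) hE1
    · exact e
    · exact absurd (eq_of_le_of_card_ge inf_le_left (by rw [q.cardI, e]; norm_num)) hneI
  have hf₁E : f₁ ∈ normalizer (E : Set G) :=
    normalizer_fixed hf₁I (hθ1.symm.mul_right (Commute.refl f₁))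
  refine no_sqrt_inv hE3 (k := f₁) hi hi1 (conj_mem_of_normalizer hf₁E hi) ?_
  calc f₁ * (f₁ * i * f₁⁻¹) * f₁⁻¹ = f₁ * f₁ * i * (f₁ * f₁)⁻¹ := by group
    _ = i⁻¹ := by rw [h11]; exact q.neg i (hIW hi.1)

end Three

namespace Frame

variable [Fact (Nat.Prime 3)] {r : ℕ} {V F T A B Z : Subgroup G} {x : G} (f : Frame r 3 V F T A)
include f

lemma three_setup (c : Core 2 F T A B Z x) (hx : x ∈ T) (hsq : Sq V x)
    (hI : Nat.card (mv V x) ≤ 9) : Three.Setup V B Z x where
  elemV := f.elemV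
  normB := c.le.trans f.normF
  normV := f.normT hx
  normX := c.normT hx
  sq := hsq
  small := hI
  faith _ hb h := f.faith (c.le hb) h
  pgroup := c.pgroup
  zle := c.zle
  zcentral := c.zcentral
  zfix := c.zfix
  comm := c.comm
  pow := c.pow
  pow3 := f.pow_eq_one hx hsq
  plane _ hD hxD hcard := f.no_small_plane hx (hD.trans c.le) hxD (hcard.trans (by norm_num))

theorem bad_three (c : Core 2 F T A B Z x) (hx : x ∈ T) (hsq : Sq V x)
    (hI : Nat.card (mv V x) ≤ 9) : False := by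
  haveI := Fact.mk f.primeR
  have s := f.three_setup c hx hsq hI
  obtain ⟨e, he, hxe⟩ : ∃ e ∈ B, ¬ Commute x e := by
    by_contra hc
    push Not at hc
    exact c.moved (mem_centralizer_iff.mpr fun b hb => (hc b hb).eq.symm)
  set g := e⁻¹ * x * e * x⁻¹ with hg
  have q : Three.Quat V B Z x g := s.exists_quat he hxe
  set W := mv V (g * g) with hW
  set D := Three.qgrp x g with hD
  have hzB : g * g ∈ B := q.zB s
  have hr2 : r ≠ 2 := fun e => f.coprimeF (by
    have h := orderOf_dvd_natCard F (c.le hzB)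
    rwa [orderOf_eq_prime (p := 2) (by rw [pow_two]; exact q.ord) q.ne, ← e] at h)
  have hr : 5 ≤ r := by
    have := f.primeR.two_le
    have h4 : r ≠ 4 := fun e => by
      have := f.primeR
      rw [e] at this
      norm_num at this
    have := f.ne
    omega
  -- the translates
  have htr : ∀ a ∈ A, ∃ s' : Three.Setup V B Z (a * x * a⁻¹),
      Three.Quat V B Z (a * x * a⁻¹) (a * g * a⁻¹) := by
    intro a ha
    have s' : Three.Setup V B Z (a * x * a⁻¹) :=
      f.three_setup (c.conj f ha) (conj_mem_of_normalizer (f.AT ha) hx) (hsq.conj (f.normA ha))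
        (by rw [mv_conj (f.normA ha), Coprime.card_conj_smul]; exact hI)
    refine ⟨s', ?_⟩
    have e1 : (a * e * a⁻¹)⁻¹ * (a * x * a⁻¹) * (a * e * a⁻¹) * (a * x * a⁻¹)⁻¹ = a * g * a⁻¹ := by
      simp only [hg]; group
    rw [← e1]
    refine s'.exists_quat (conj_mem_of_normalizer (c.normA ha) he) fun h => hxe ?_
    have h1 : a * (x * e) * a⁻¹ = a * (e * x) * a⁻¹ := by
      calc _ = a * x * a⁻¹ * (a * e * a⁻¹) := by group
        _ = a * e * a⁻¹ * (a * x * a⁻¹) := h.eq
        _ = _ := by group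
    exact mul_left_cancel (mul_right_cancel h1)
  have hmvD : ∀ a : G, a ∈ A → Three.qgrp (a * x * a⁻¹) (a * g * a⁻¹) = MulAut.conj a • D := by
    intro a _
    rw [hD]
    unfold Three.qgrp
    show _ = Subgroup.map (MulAut.conj a).toMonoidHom _
    rw [MonoidHom.map_closure, Set.image_pair]
    congr 1
    show ({a * g * a⁻¹, a * x * a⁻¹ * (a * g * a⁻¹) * (a * x * a⁻¹)⁻¹} : Set G) =
      {a * g * a⁻¹, a * (x * g * x⁻¹) * a⁻¹}
    congr 2
    group
  -- an element of `A` fixing `W` fixes the quaternion group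
  have hzfix : ∀ a ∈ A, a ∈ normalizer (W : Set G) → a * (g * g) * a⁻¹ = g * g := by
    intro a ha haW
    obtain ⟨s', q'⟩ := htr a ha
    have e : a * g * a⁻¹ * (a * g * a⁻¹) = a * (g * g) * a⁻¹ := by group
    have h := q.same_center s s' q' (by
      rw [e, mv_conj (f.normA ha), ← hW, Coprime.conj_smul_eq_self_iff.mpr haW])
    rwa [e] at h
  have hpair : ∀ a ∈ A, a ∈ normalizer (W : Set G) →
      MulAut.conj a • D = D ∨ MulAut.conj a • D ≤ centralizer (D : Set G) := by
    intro a ha haW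
    obtain ⟨s', q'⟩ := htr a ha
    have hz' : a * g * a⁻¹ * (a * g * a⁻¹) = g * g := by
      calc _ = a * (g * g) * a⁻¹ := by group
        _ = _ := hzfix a ha haW
    have hP : IsPGroup 3 (closure ({x, a * x * a⁻¹} : Set G)) := f.pT.to_le ((closure_le _).mpr (by
      rintro _ (rfl | rfl)
      exacts [hx, conj_mem_of_normalizer (f.AT ha) hx]))
    have hcard : Nat.card (Three.qgrp (a * x * a⁻¹) (a * g * a⁻¹)) ≤ Nat.card D := by
      rw [hmvD a ha, Coprime.card_conj_smul]
    rw [← hmvD a ha]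
    exact q.eq_or_commute s s' q' hz' hP hcard
  have hnormD : ∀ a ∈ A, a ∈ normalizer (W : Set G) → a ∈ normalizer (D : Set G) := by
    intro a ha haW
    refine Coprime.conj_smul_eq_self_iff.mp ?_
    by_contra hne
    have h1 := (hpair a ha haW).resolve_left hne
    have h2ne : MulAut.conj (a * a) • D ≠ D := by
      intro h2
      apply hne
      obtain ⟨m, hm⟩ : ∃ m, r = 2 * m + 1 := f.primeR.odd_of_ne_two hr2
      have ea : a = (a * a) ^ (m + 1) := by
        rw [← pow_two, ← pow_mul, show 2 * (m + 1) = r + 1 by omega, pow_succ, f.elemA.2 a ha,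
          one_mul]
      have hmem : a * a ∈ normalizer (D : Set G) := Coprime.conj_smul_eq_self_iff.mp h2
      refine Coprime.conj_smul_eq_self_iff.mpr ?_
      rw [ea]; exact pow_mem hmem _
    have h2 := (hpair (a * a) (A.mul_mem ha ha) (mul_mem haW haW)).resolve_left h2ne
    set g' := x * g * x⁻¹
    have hgD : g ∈ D := Three.mem_qgrp x g
    have hg'D : g' ∈ D := Three.mem_qgrp' x g
    have hDB : D ≤ B := q.qgrp_le s
    have hin : ∀ b ∈ A, ∀ d ∈ D, b * d * b⁻¹ ∈ MulAut.conj b • D := fun b _ d hd => ⟨d, hd, rfl⟩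
    have hcm : ∀ {k d : G}, k ∈ MulAut.conj a • D → d ∈ D → Commute k d := fun hk hd =>
      (mem_centralizer_iff.mp (h1 hk) _ hd).symm
    have hcm2 : ∀ {k d : G}, k ∈ MulAut.conj (a * a) • D → d ∈ D → Commute k d := fun hk hd =>
      (mem_centralizer_iff.mp (h2 hk) _ hd).symm
    have hθc : ∀ d ∈ D, Commute (a * a * g * (a * a)⁻¹) (a * d * a⁻¹) := by
      intro d hd
      have h := hcm (hin a ha g hgD) hd
      calc a * a * g * (a * a)⁻¹ * (a * d * a⁻¹) = a * (a * g * a⁻¹ * d) * a⁻¹ := by group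
        _ = a * (d * (a * g * a⁻¹)) * a⁻¹ := by rw [h.eq]
        _ = _ := by group
    have hz' := hzfix a ha haW
    refine q.no_triple s (f₁ := a * g * a⁻¹) (f₂ := a * g' * a⁻¹) (θ := a * a * g * (a * a)⁻¹)
      (conj_mem_of_normalizer (c.normA ha) (hDB hgD)) (conj_mem_of_normalizer (c.normA ha) (hDB hg'D))
      (conj_mem_of_normalizer (c.normA (A.mul_mem ha ha)) (hDB hgD)) ?_ ?_ ?_ (hθc g hgD) (hθc g' hg'D)
      ?_
    · calc _ = a * (g * g) * a⁻¹ := by group
        _ = _ := hz'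
    · calc _ = a * (a * (g * g) * a⁻¹) * a⁻¹ := by group
        _ = _ := by rw [hz', hz']
    · have hswap : g * g' = g * g * (g' * g) := by
        rw [← q.comm]; simp only [g', commutatorElement_def]; group
      calc _ = a * (g * g') * a⁻¹ := by group
        _ = a * (g * g) * a⁻¹ * (a * g' * a⁻¹ * (a * g * a⁻¹)) := by rw [hswap]; group
        _ = _ := by rw [hz']
    · rintro k (rfl | rfl | rfl)
      · exact ⟨hcm (hin a ha g hgD) hgD, hcm (hin a ha g hgD) hg'D⟩
      · exact ⟨hcm (hin a ha g' hg'D) hgD, hcm (hin a ha g' hg'D) hg'D⟩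
      · exact ⟨hcm2 (hin _ (A.mul_mem ha ha) g hgD) hgD,
          hcm2 (hin _ (A.mul_mem ha ha) g hgD) hg'D⟩
  -- so it commutes with `g`
  have hfix : ∀ a ∈ A, a ∈ normalizer (W : Set G) → Commute a g := by
    intro a ha haW
    have hn := hnormD a ha haW
    set S := D ⊓ centralizer {a}
    have hz : g * g ∈ S := ⟨q.zD s, mem_centralizer_singleton_iff.mpr
      (mem_centralizer_conj.mp (hzfix a ha haW)).eq.symm⟩
    have hmod := card_fixed_modEq (r := r) (f.elemA.2 a ha) hn
    have hle : Nat.card S ≤ Nat.card D := card_le_of_le inf_le_left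
    have hdvd : Nat.card S ∣ Nat.card D := card_dvd_of_le inf_le_left
    have hS2 : 2 ≤ Nat.card S := by
      have h1 : (⟨g * g, hz⟩ : S) ≠ 1 := fun h => q.ne (congrArg Subtype.val h)
      haveI : Nontrivial S := nontrivial_of_ne _ _ h1
      exact Finite.one_lt_card
    have h8 : Nat.card D ≤ 8 := q.card_qgrp s
    have hd := (Nat.modEq_iff_dvd' hle).mp hmod.symm
    have hSD : S = D := by
      refine eq_of_le_of_card_ge inf_le_left ?_
      by_contra hlt
      push Not at hlt
      haveI := Fact.mk Nat.prime_two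
      obtain ⟨j, hj⟩ := ((c.pgroup).to_le (q.qgrp_le s)).exists_card_eq
      rw [hj] at h8 hd hdvd hlt
      obtain ⟨i, hi, hiS⟩ := (Nat.dvd_prime_pow Nat.prime_two).mp hdvd
      have hiS' : Nat.card ↥(D ⊓ centralizer {a}) = 2 ^ i := hiS
      have hj3 : j ≤ 3 := by
        by_contra hc
        have : 2 ^ 4 ≤ 2 ^ j := Nat.pow_le_pow_right (by norm_num) (by omega)
        omega
      rw [hiS'] at hd
      rw [hiS] at hS2 hlt
      have hrdiv : r ∣ 6 ∨ r ∣ 4 ∨ r ∣ 2 := by
        interval_cases j <;> interval_cases i <;> first | omega | (norm_num at hd; simp [hd])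
      rcases hrdiv with h | h | h
      · rcases f.primeR.dvd_mul.mp (show r ∣ 2 * 3 by norm_num; exact h) with h | h <;>
          · have := Nat.le_of_dvd (by norm_num) h
            omega
      · have := Nat.le_of_dvd (by norm_num) h
        omega
      · have := Nat.le_of_dvd (by norm_num) h
        omega
    exact (mem_centralizer_singleton_iff.mp (hSD.ge (Three.mem_qgrp x g)).2).symm
  have hxC := Three.normalizer_fixed (f.normT hx) (q.xz s)
  have hcomm : Commute x g := f.commute_of_blocks (mv_le_self (f.normF (c.le hzB))) inf_le_left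
    q.sup.ge (c.le q.mem) (q.normW' s q.mem) q.fixg hx (q.normWx s) hxC hfix fun a ha haW => by
      obtain ⟨s', q'⟩ := htr a ha
      refine q.translate_fix s s' q' fun h => haW (Coprime.conj_smul_eq_self_iff.mp ?_)
      have e : a * g * a⁻¹ * (a * g * a⁻¹) = a * (g * g) * a⁻¹ := by group
      rw [e, mv_conj (f.normA ha)] at h
      exact h
  exact q.ne (by rw [← q.comm, conj_eq_self hcomm, commutatorElement_self])

end Frame

end Cfsg.Agent.SolvableSignalizer.Linear
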