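import Cfsg.Agent.Lib.SolvableSignalizer.Linear.BadTwoBase

/-!
An involution of `T` moving only a small part of `V`: the abelian case.
-/

set_option autoImplicit false
set_option linter.style.haveILetI false
set_option linter.unusedSectionVars false

namespace Cfsg.Agent.SolvableSignalizer.Linear

open Subgroup
open Cfsg.Agent.Components
open scoped commutatorElement Pointwise

variable [hp : Fact (Nat.Prime 2)] {G : Type*} [Group G] [Finite G]
variable {r q : ℕ} {V F T A B Z : Subgroup G} {x : G}

/-- Conjugation by `g` on a normalised subgroup, of order dividing `r`. -/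
lemma conjAut_pow {U : Subgroup G} {g : G} (hg : g ∈ normalizer (U : Set G)) {r : ℕ}
    (hr : g ^ r = 1) : (normalizerMonoidHom U ⟨g, hg⟩) ^ r = 1 := by
  rw [← map_pow, show (⟨g, hg⟩ : normalizer (U : Set G)) ^ r = 1 from Subtype.ext hr, map_one]

namespace Frame

variable (f : Frame r 2 V F T A)
include f

/-- The abelian case. -/
theorem bad_two_abelian (c : Core q F T A B Z x) (hx : x ∈ T) (hsq : Sq V x)
    (hI : Nat.card (mv V x) ≤ 4) (hab : IsMulCommutative B) : False := by
  haveI := Fact.mk c.prime
  haveI := Fact.mk f.primeR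
  have hcomm : ∀ u ∈ B, ∀ v ∈ B, Commute u v := fun u hu v hv =>
    congrArg Subtype.val (hab.is_comm.comm ⟨u, hu⟩ ⟨v, hv⟩)
  have hxi : x⁻¹ = x :=
    inv_eq_of_mul_eq_one_right (by rw [← sq]; exact f.pow_eq_one hx hsq)
  obtain ⟨e, he, hxe⟩ : ∃ e ∈ B, ¬ Commute x e := by
    by_contra hc
    push Not at hc
    exact c.moved (mem_centralizer_iff.mpr fun b hb => (hc b hb).eq.symm)
  obtain ⟨d, i⟩ : ∃ d, Inverted q V B x e d := ⟨_, f.inverted c hx hsq hI he hxe⟩
  set W := mv V d with hW
  have hBV := c.le.trans f.normF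
  have hdV := hBV i.mem
  have hxV := f.normT hx
  have hWV : W ≤ V := mv_le_self hdV
  -- images of elements of `B` are invariant under `B`
  have hinvB : ∀ k ∈ B, B ≤ normalizer ((mv V k : Subgroup G) : Set G) := by
    intro k hk b hb
    rw [← commutator_zpowers_eq (hBV hk)]
    refine le_normalizer_commutator' (hBV hb) ?_
    refine mem_normalizer_iff.mpr fun z => ?_
    have hfix : ∀ z ∈ zpowers k, b * z * b⁻¹ = z := fun z hz => by
      obtain ⟨n, rfl⟩ := mem_zpowers_iff.mp hz
      exact conj_eq_self ((hcomm b hb k hk).zpow_right n)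
    refine ⟨fun hz => (hfix z hz).symm ▸ hz, fun hz => ?_⟩
    have h1 := hfix _ hz
    have h2 : b * z * b⁻¹ = z := by
      have h3 : b⁻¹ * (b * (b * z * b⁻¹) * b⁻¹) * b = b⁻¹ * (b * z * b⁻¹) * b := by rw [h1]
      simpa [mul_assoc] using h3
    exact h2 ▸ hz
  -- all inverted elements have the same image
  have huniq : ∀ {e' d' : G}, e' ∈ B → Inverted q V B x e' d' → mv V d' = W := by
    intro e' d' he' i'
    have hU : mv V d ≤ mv V d' := by
      rw [i.eq]
      have h1 : mv V x ≤ mv V d' := i'.eq ▸ le_sup_left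
      refine sup_le h1 ((pointwise_smul_le_pointwise_smul_iff.mpr h1).trans ?_)
      exact (Coprime.conj_smul_eq_self_iff.mpr (inv_mem (hinvB d' i'.mem he))).le
    exact (eq_of_le_of_card_ge hU (by rw [i.card, i'.card])).symm
  have hmvW : mv V x ≤ W := hW ▸ i.eq ▸ le_sup_left
  have hoff : ∀ v ∈ V, v ∈ centralizer {d} → Commute x v := by
    intro v hv hvd
    have hxd : x ∈ normalizer ((V ⊓ centralizer {d} : Subgroup G) : Set G) := by
      rw [← centralizer_zpowers]
      refine le_normalizer_centralizer_inf hxV ?_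
      have key : ∀ z ∈ zpowers d, x * z * x⁻¹ ∈ zpowers d := by
        intro z hz
        obtain ⟨n, rfl⟩ := mem_zpowers_iff.mp hz
        rw [← conj_zpow, i.inv]
        exact zpow_mem (inv_mem (mem_zpowers d)) n
      refine mem_normalizer_iff.mpr fun z => ⟨key z, fun hz => ?_⟩
      have := key _ hz
      rw [hxi] at this
      have hx2 : x * x = 1 := by nth_rw 1 [← hxi]; exact inv_mul_cancel x
      simpa [hxi, mul_assoc, hx2, ← mul_assoc x x] using this
    have h1 : ⁅x, v⁆ ∈ W ⊓ centralizer {d} :=
      ⟨hmvW (comm_mem_mv hv), (comm_mem hxd ⟨hv, hvd⟩).2⟩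
    rw [hW, i.free] at h1
    exact commutatorElement_eq_one_iff_mul_comm.mp (mem_bot.mp h1)
  have hconjF : ∀ a ∈ A, a * d * a⁻¹ ∈ B := fun a ha => conj_mem_of_normalizer (c.normA ha) i.mem
  have hWconj : ∀ a ∈ A, mv V (a * d * a⁻¹) = MulAut.conj a • W := by
    intro a ha
    rw [hW, ← commutator_zpowers_eq hdV, ← commutator_zpowers_eq (hBV (hconjF a ha)),
      Coprime.conj_smul_commutator, Coprime.conj_smul_eq_self_iff.mpr (f.normA ha)]
    congr 1
    rw [Coprime.conj_smul_eq_map, MonoidHom.map_zpowers]
    rfl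
  -- `x` moves a `B`-invariant piece of order four of `W`
  have hswap : ∀ a ∈ A, a ∉ normalizer (W : Set G) →
      Nat.card ↥(W ⊓ MulAut.conj a • W) = 4 → x ∉ normalizer ((W ⊓ MulAut.conj a • W :
        Subgroup G) : Set G) := by
    intro a ha haW hU4 hxU
    set U := W ⊓ MulAut.conj a • W
    set d' := a * d * a⁻¹
    have hd'B := hconjF a ha
    have hU' : ∀ k ∈ B, k ∈ normalizer (U : Set G) := fun k hk =>
      inf_normalizer_le_normalizer_inf ⟨hinvB d i.mem hk, hWconj a ha ▸ hinvB d' hd'B hk⟩
    -- `d'` commutes with `x`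
    have hc : Commute x d' := by
      by_contra hm
      have i' := f.inverted c hx hsq hI hd'B hm
      set k := d'⁻¹ * x * d' * x
      have hWk : mv V k = W := huniq hd'B i'
      -- `k` moves only `U`
      have hle : mv V k ≤ U := by
        refine mv_le fun v hv => ?_
        have hs := f.splitV (zpowers_le.mpr (c.le hd'B))
        rw [commutator_zpowers_eq (hBV hd'B), hWconj a ha, centralizer_zpowers] at hs
        refine ⟨hWk ▸ comm_mem_mv hv, ?_⟩
        -- modulo the image of `d'`, `k` is the identity
        have hk : ∀ w ∈ V, ⁅k, w⁆ ∈ MulAut.conj a • W ⊔ U := by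
          intro w hw
          refine mem_sup_left ?_
          have h1 : ∀ g ∈ ({d', d'⁻¹} : Set G), ∀ u ∈ V, ⁅g, u⁆ ∈ MulAut.conj a • W := by
            rintro g (rfl | rfl) u hu
            · exact hWconj a ha ▸ comm_mem_mv hu
            · have hu' := conj_mem_of_normalizer' (hBV hd'B) hu
              have e1 : ⁅d'⁻¹, u⁆ = (⁅d', d'⁻¹ * u * d'⁆)⁻¹ := by
                simp only [commutatorElement_def]; group
              rw [e1]
              exact inv_mem (hWconj a ha ▸ comm_mem_mv hu')
          have hxw := conj_mem_of_normalizer hxV hw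
          have hdw := conj_mem_of_normalizer (hBV hd'B) hxw
          have hxdw := conj_mem_of_normalizer hxV hdw
          have e2 : ⁅k, w⁆ = ⁅d'⁻¹, x * (d' * (x * w * x⁻¹) * d'⁻¹) * x⁻¹⁆ *
              (x * ⁅d', x * w * x⁻¹⁆ * x⁻¹) * (x * ⁅x, w⁆ * x⁻¹ * ⁅x, w⁆) := by
            simp only [k, commutatorElement_def, mul_inv_rev]; group
          have hxx : x * ⁅x, w⁆ * x⁻¹ * ⁅x, w⁆ = 1 := by
            rw [conj_eq_self (hsq w hw), ← sq]
            exact f.elemV.2 _ (comm_mem hxV hw)
          have hm1 : x * ⁅d', x * w * x⁻¹⁆ * x⁻¹ ∈ MulAut.conj a • W := by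
            have h2 := h1 d' (Or.inl rfl) _ hxw
            rw [conj_eq_comm_mul]
            refine mul_mem ?_ h2
            -- `x` fixes the image of `d'` modulo `U`
            have h3 : ⁅x, ⁅d', x * w * x⁻¹⁆⁆ ∈ W :=
              hmvW (comm_mem_mv (hWk ▸ hWV |> fun _ => comm_mem (hBV hd'B) hxw))
            obtain ⟨u, hu, z, hz, huz⟩ : ∃ u ∈ U, ∃ z ∈ MulAut.conj a • W ⊓ centralizer {d},
                u * z = ⁅d', x * w * x⁻¹⁆ := by
              have hn : d ∈ normalizer ((MulAut.conj a • W : Subgroup G) : Set G) :=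
                hWconj a ha ▸ hinvB d' hd'B i.mem
              have hW'e : Cfsg.IsElementaryAbelian 2 (MulAut.conj a • W : Subgroup G) :=
                elem_le f.elemV (hWconj a ha ▸ mv_le_self (hBV hd'B))
              have hsp := split hW'e (f.not_dvd (zpowers_le.mpr (c.le i.mem)))
                (zpowers_le.mpr hn)
              rw [centralizer_zpowers] at hsp
              have hnn : MulAut.conj a • W ⊓ centralizer {d} ≤
                  normalizer ((⁅MulAut.conj a • W, zpowers d⁆ : Subgroup G) : Set G) :=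
                inf_le_left.trans (abelian_le_normalizer hW'e
                  (Coprime.commutator_le_of_le_normalizer (zpowers_le.mpr hn)))
              obtain ⟨u, hu, z, hz, huz⟩ :=
                (Coprime.mem_sup_of_le_normalizer hnn).mp (hsp.1.ge h2)
              refine ⟨u, ⟨?_, Coprime.commutator_le_of_le_normalizer (zpowers_le.mpr hn) hu⟩, z,
                hz, huz⟩
              rw [hW, ← commutator_zpowers_eq hdV]
              exact commutator_mono (hWconj a ha ▸ mv_le_self (hBV hd'B)) le_rfl hu
            have hzV : z ∈ V := (hWconj a ha ▸ mv_le_self (hBV hd'B)) hz.1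
            rw [← huz, commutatorElement_mul_right_eq_mul_conj,
              commutatorElement_eq_one_iff_mul_comm.mpr (hoff z hzV hz.2).eq]
            have : ⁅x, u⁆ ∈ U := comm_mem hxU hu
            rw [mul_one, mul_inv_cancel_right]
            exact this.2
          rw [e2, hxx, mul_one]
          exact mul_mem (h1 _ (Or.inr rfl) _ hxdw) hm1
        exact (sup_le le_rfl inf_le_right : MulAut.conj a • W ⊔ U ≤ _) (hk v hv)
      have := card_le_of_le hle
      rw [hWk, hU4, i.card] at this
      omega
    -- so `x` fixes `U`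
    have hfix : U ≤ centralizer {x} := by
      by_contra hne
      set K := U ⊓ centralizer {x}
      have hUV : U ≤ V := inf_le_left.trans hWV
      have hKd : d' ∈ normalizer (K : Set G) := by
        refine inf_normalizer_le_normalizer_inf ⟨hU' d' hd'B, ?_⟩
        refine le_normalizer (mem_centralizer_singleton_iff.mpr hc.eq.symm)
      have hmod := card_fixed_modEq (r := q)
        (c.pow_eq_one f hx hab hd'B) hKd
      have hK1 : K ⊓ centralizer {d'} = ⊥ := by
        refine le_bot_iff.mp ?_
        have hfree := (f.splitV (zpowers_le.mpr (c.le hd'B))).2.1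
        rw [commutator_zpowers_eq (hBV hd'B), hWconj a ha, centralizer_zpowers] at hfree
        rw [← hfree]
        exact le_inf (inf_le_left.trans (inf_le_left.trans inf_le_right))
          (le_inf (inf_le_left.trans (inf_le_left.trans hUV)) inf_le_right)
      rw [hK1, card_bot] at hmod
      have hK2 : Nat.card K = 2 := by
        have hUe := elem_le f.elemV hUV
        have hn : zpowers x ≤ normalizer (U : Set G) := zpowers_le.mpr hxU
        have h1 : K ≠ ⊥ := by
          have := fixed_ne_bot (Hyperplane.isPGroup hUe) (f.pT.to_le (zpowers_le.mpr hx)) hn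
            (fun e => by rw [e, card_bot] at hU4; norm_num at hU4)
          rwa [centralizer_zpowers] at this
        have h2 := card_dvd_of_le (inf_le_left : K ≤ U)
        rw [hU4] at h2
        obtain ⟨j, hj, hjK⟩ := (Nat.dvd_prime_pow Nat.prime_two).mp (show Nat.card K ∣ 2 ^ 2 from h2)
        interval_cases j
        · exact absurd (eq_bot_of_card_eq K (by simpa using hjK)) h1
        · simpa using hjK
        · exact absurd ((eq_of_le_of_card_ge (inf_le_left : K ≤ U) (by rw [hU4, hjK]; norm_num)).ge.trans
            inf_le_right) hne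
      rw [hK2] at hmod
      have h1 : q ∣ 1 := (Nat.modEq_iff_dvd' (by norm_num)).mp hmod.symm
      exact c.prime.not_dvd_one h1
    -- hence `U` is the image of `x`
    have hWe := elem_le f.elemV hWV
    have hxW : x ∈ normalizer (W : Set G) := by
      have key : ∀ v ∈ W, x * v * x⁻¹ ∈ W := fun v hv => by
        rw [conj_eq_comm_mul]
        exact W.mul_mem (hmvW (comm_mem_mv (hWV hv))) hv
      refine mem_normalizer_iff.mpr fun v => ⟨key v, fun hv => ?_⟩
      have := key _ hv
      have hx2 : x * x = 1 := by nth_rw 1 [← hxi]; exact inv_mul_cancel x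
      simpa [hxi, mul_assoc, hx2, ← mul_assoc x x] using this
    have hmx : mv V x = W ⊓ centralizer {x} := by
      refine eq_of_le_of_card_ge (le_inf hmvW (mv_le fun v hv =>
        mem_centralizer_singleton_iff.mpr (hsq v hv).eq.symm)) ?_
      rw [i.cardx]
      have h1 := card_mv hWe hxW
      have h2 : MulAut.conj d • (W ⊓ centralizer {x}) ≤ W :=
        (pointwise_smul_le_pointwise_smul_iff.mpr inf_le_left).trans
          (Coprime.conj_smul_eq_self_iff.mpr (hinvB d i.mem i.mem)).le
      have h3 : Nat.card (mv W x) ≥ 4 := by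
        -- the image of `x` on `W` is all of the image on `V`
        have hle : mv V x ≤ mv W x := mv_le fun v hv => by
          have hs := f.splitV (zpowers_le.mpr (c.le i.mem))
          rw [commutator_zpowers_eq hdV, centralizer_zpowers] at hs
          have hn : V ⊓ centralizer {d} ≤ normalizer (W : Set G) :=
            inf_le_left.trans (abelian_le_normalizer f.elemV hWV)
          obtain ⟨w, hw, z, hz, rfl⟩ := (Coprime.mem_sup_of_le_normalizer hn).mp (hs.1.ge hv)
          rw [commutatorElement_mul_right_eq_mul_conj,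
            commutatorElement_eq_one_iff_mul_comm.mpr (hoff z hz.1 hz.2).eq]
          simpa using comm_mem_mv (x := x) hw
        exact i.cardx ▸ card_le_of_le hle
      have h4 := i.card
      rw [← hW] at h4
      rw [h4] at h1
      by_contra h5
      push Not at h5
      have := Nat.mul_le_mul h3 (Nat.succ_le_iff.mpr h5)
      omega
    have hUx : U = mv V x := eq_of_le_of_card_ge (hmx ▸ le_inf inf_le_left hfix)
      (by rw [i.cardx, hU4])
    have hle2 : W ≤ U := by
      rw [hW, i.eq, ← hUx]
      refine sup_le le_rfl ?_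
      exact (Coprime.conj_smul_eq_self_iff.mpr (inv_mem (hU' e he))).le
    have := card_le_of_le hle2
    rw [hU4, i.card] at this
    omega
  -- translates are disjoint
  have hdisj : ∀ a ∈ A, a ∉ normalizer (W : Set G) → W ⊓ MulAut.conj a • W = ⊥ := by
    intro a ha haW
    set U := W ⊓ MulAut.conj a • W
    set d' := a * d * a⁻¹
    set W' := MulAut.conj a • W
    have hd'B := hconjF a ha
    have hUd : d ∈ normalizer (U : Set G) :=
      inf_normalizer_le_normalizer_inf ⟨hinvB d i.mem i.mem, hWconj a ha ▸ hinvB d' hd'B i.mem⟩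
    have hUfree : U ⊓ centralizer {d} = ⊥ :=
      le_bot_iff.mp (i.free ▸ inf_le_inf_right _ inf_le_left)
    have hmod := card_fixed_modEq (r := q) i.order hUd
    rw [hUfree, card_bot] at hmod
    have hdv := card_dvd_of_le (inf_le_left : U ≤ W)
    rw [hW, i.card] at hdv
    obtain ⟨j, hj, hjU⟩ := (Nat.dvd_prime_pow Nat.prime_two).mp (show Nat.card U ∣ 2 ^ 4 from hdv)
    rw [hjU] at hmod
    have hq : q ∣ 2 ^ j - 1 := (Nat.modEq_iff_dvd' (Nat.one_le_pow _ _ (by norm_num))).mp hmod.symm
    interval_cases j
    · exact eq_bot_of_card_eq U (by simpa using hjU)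
    · exact absurd hq (by simpa using c.prime.ne_one)
    · -- order four
      exfalso
      have hU4 : Nat.card U = 4 := by rw [hjU]; norm_num
      have hq3 : q = 3 := (Nat.prime_dvd_prime_iff_eq c.prime Nat.prime_three).mp hq
      set x' := a * x * a⁻¹
      have hx'T : x' ∈ T := conj_mem_of_normalizer (f.AT ha) hx
      have hWW' : Cfsg.IsElementaryAbelian 2 W := elem_le f.elemV hWV
      have hW'V : W' ≤ V := (hWconj a ha).symm.le.trans (mv_le_self (hBV hd'B))
      have hW'e : Cfsg.IsElementaryAbelian 2 W' := elem_le f.elemV hW'V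
      have hx'off : ∀ v ∈ V, v ∈ centralizer {d'} → Commute x' v := by
        intro v hv hvd
        have hv' : a⁻¹ * v * a ∈ centralizer {d} := by
          refine mem_centralizer_singleton_iff.mpr ?_
          have h := mem_centralizer_singleton_iff.mp hvd
          calc a⁻¹ * v * a * d = a⁻¹ * (v * d') * a := by simp only [d']; group
            _ = a⁻¹ * (d' * v) * a := by rw [h]
            _ = d * (a⁻¹ * v * a) := by simp only [d']; group
        have h := hoff _ (conj_mem_of_normalizer' (f.normA ha) hv) hv'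
        show a * x * a⁻¹ * v = v * (a * x * a⁻¹)
        calc a * x * a⁻¹ * v = a * (x * (a⁻¹ * v * a)) * a⁻¹ := by group
          _ = a * (a⁻¹ * v * a * x) * a⁻¹ := by rw [h.eq]
          _ = v * (a * x * a⁻¹) := by group
      have hBU : ∀ k ∈ B, k ∈ normalizer (U : Set G) := fun k hk =>
        inf_normalizer_le_normalizer_inf ⟨hinvB d i.mem hk, hWconj a ha ▸ hinvB d' hd'B hk⟩
      -- a conjugate of `U` by an element of `T` stabilising `W`
      have hconjU : ∀ (g : G) (Y : Subgroup G) (k : G), g ∈ normalizer (B : Set G) →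
          g ∈ normalizer (Y : Set G) → U ≤ Y → g ∉ normalizer (U : Set G) → k ∈ B →
          ⁅Y, zpowers k⁆ ≤ U →
          MulAut.conj g • U ≤ centralizer {k} := by
        intro g Y k hgB hgY hUY hgU hk hYk
        set U' := MulAut.conj g • U
        have hn : ∀ l ∈ B, l ∈ normalizer (U' : Set G) := by
          intro l hl
          rw [← Coprime.conj_smul_normalizer]
          refine ⟨g⁻¹ * l * g, hBU _ (conj_mem_of_normalizer' hgB hl), ?_⟩
          show g * (g⁻¹ * l * g) * g⁻¹ = l
          group
        have hU'Y : U' ≤ Y := (pointwise_smul_le_pointwise_smul_iff.mpr hUY).trans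
          (Coprime.conj_smul_eq_self_iff.mpr hgY).le
        have hKd : d ∈ normalizer ((U' ⊓ U : Subgroup G) : Set G) :=
          inf_normalizer_le_normalizer_inf ⟨hn d i.mem, hUd⟩
        have hKfree : U' ⊓ U ⊓ centralizer {d} = ⊥ :=
          le_bot_iff.mp (hUfree ▸ inf_le_inf_right _ inf_le_right)
        have hmod := card_fixed_modEq (r := q) i.order hKd
        rw [hKfree, card_bot] at hmod
        have hdv := card_dvd_of_le (inf_le_right : U' ⊓ U ≤ U)
        rw [hU4] at hdv
        obtain ⟨l, hl, hlK⟩ := (Nat.dvd_prime_pow Nat.prime_two).mp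
          (show Nat.card ↥(U' ⊓ U) ∣ 2 ^ 2 from hdv)
        have hbot : U' ⊓ U = ⊥ := by
          rw [hlK] at hmod
          interval_cases l
          · exact eq_bot_of_card_eq _ (by simpa using hlK)
          · exact absurd ((Nat.modEq_iff_dvd' (by norm_num)).mp hmod.symm)
              (by simpa using c.prime.ne_one)
          · exfalso
            have hUU' : U ≤ U' :=
              (eq_of_le_of_card_ge (inf_le_right : U' ⊓ U ≤ U) (by rw [hU4, hlK]; norm_num)).ge.trans
                inf_le_left
            exact hgU (Coprime.conj_smul_eq_self_iff.mp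
              (eq_of_le_of_card_ge hUU' (by rw [Coprime.card_conj_smul])).symm)
        intro v hv
        refine mem_centralizer_singleton_iff.mpr (commutatorElement_eq_one_iff_mul_comm.mp ?_)
        have h1 : ⁅v, k⁆ ∈ U' := by
          rw [commutatorElement_def, mul_assoc, mul_assoc, ← mul_assoc k]
          exact mul_mem hv (conj_mem_of_normalizer (hn k hk) (inv_mem hv))
        exact mem_bot.mp (hbot ▸ ⟨h1, hYk (commutator_mem_commutator (hU'Y hv) (mem_zpowers k))⟩)
      -- the two movers
      have hxW : x ∈ normalizer (W : Set G) := by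
        have key : ∀ v ∈ W, x * v * x⁻¹ ∈ W := fun v hv => by
          rw [conj_eq_comm_mul]
          exact W.mul_mem (hmvW (comm_mem_mv (hWV hv))) hv
        refine mem_normalizer_iff.mpr fun v => ⟨key v, fun hv => ?_⟩
        have := key _ hv
        have hx2 : x * x = 1 := by nth_rw 1 [← hxi]; exact inv_mul_cancel x
        simpa [hxi, mul_assoc, hx2, ← mul_assoc x x] using this
      have hx'W' : x' ∈ normalizer (W' : Set G) := by
        rw [← Coprime.conj_smul_normalizer]
        exact ⟨x, hxW, rfl⟩
      have hxU : x ∉ normalizer (U : Set G) := hswap a ha haW hU4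
      have hx'U : x' ∉ normalizer (U : Set G) := by
        intro h
        have hai : a⁻¹ ∉ normalizer (W : Set G) := fun h' => haW (by simpa using inv_mem h')
        have e1 : W ⊓ MulAut.conj a⁻¹ • W = MulAut.conj a⁻¹ • U := by
          rw [smul_inf, Coprime.conj_inv_smul_smul, inf_comm]
        refine hswap a⁻¹ (A.inv_mem ha) hai ?_ ?_
        · rw [e1, Coprime.card_conj_smul, hU4]
        · rw [e1, ← Coprime.conj_smul_normalizer]
          refine ⟨x', h, ?_⟩
          show a⁻¹ * x' * a⁻¹⁻¹ = x
          simp only [x']; group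
      have hU2 : MulAut.conj x • U ≤ centralizer {d'} := by
        refine hconjU x W d' (c.normT hx) hxW inf_le_left hxU hd'B ?_
        refine le_inf (Coprime.commutator_le_of_le_normalizer (zpowers_le.mpr (hinvB d i.mem hd'B))) ?_
        rw [← hWconj a ha, ← commutator_zpowers_eq (hBV hd'B)]
        exact commutator_mono hWV le_rfl
      have hU3 : MulAut.conj x' • U ≤ centralizer {d} := by
        refine hconjU x' W' d (c.normT hx'T) hx'W' inf_le_right hx'U i.mem ?_
        refine le_inf ?_ (Coprime.commutator_le_of_le_normalizer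
          (zpowers_le.mpr (by rw [show W' = _ from (hWconj a ha).symm]; exact hinvB d' hd'B i.mem)))
        rw [hW, ← commutator_zpowers_eq hdV]
        exact commutator_mono hW'V le_rfl
      have hU2V : MulAut.conj x • U ≤ V := (pointwise_smul_le_pointwise_smul_iff.mpr
        (inf_le_left.trans hWV)).trans (Coprime.conj_smul_eq_self_iff.mpr hxV).le
      have hU3V : MulAut.conj x' • U ≤ V := (pointwise_smul_le_pointwise_smul_iff.mpr
        (inf_le_left.trans hWV)).trans (Coprime.conj_smul_eq_self_iff.mpr (f.normT hx'T)).le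
      have hfixed : ∀ (g : G) (Y : Subgroup G), (∀ v ∈ Y, Commute g v) → MulAut.conj g • Y = Y := by
        intro g Y h
        refine le_antisymm ?_ fun v hv => ⟨v, hv, conj_eq_self (h v hv)⟩
        rintro _ ⟨v, hv, rfl⟩
        show g * v * g⁻¹ ∈ Y
        rwa [conj_eq_self (h v hv)]
      have hx'2 : x' * x' = 1 := by
        have hx2 : x * x = 1 := by nth_rw 1 [← hxi]; exact inv_mul_cancel x
        simp only [x']
        calc a * x * a⁻¹ * (a * x * a⁻¹) = a * (x * x) * a⁻¹ := by group
          _ = 1 := by rw [hx2]; group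
      set y := x * x'
      have hy1 : MulAut.conj y • U = MulAut.conj x' • U := by
        rw [Coprime.conj_smul_mul]
        exact hfixed x _ fun v hv => hoff v (hU3V hv) (hU3 hv)
      have hy2 : MulAut.conj y • MulAut.conj x' • U = MulAut.conj x • U := by
        rw [← Coprime.conj_smul_mul, mul_assoc, hx'2, mul_one]
      have hy3 : MulAut.conj y • MulAut.conj x • U = U := by
        rw [Coprime.conj_smul_mul, hfixed x' _ fun v hv => hx'off v (hU2V hv) (hU2 hv),
          ← Coprime.conj_smul_mul]
        have hx2 : x * x = 1 := by nth_rw 1 [← hxi]; exact inv_mul_cancel x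
        rw [hx2, Coprime.conj_smul_one]
      have hy3' : y ^ 3 ∈ normalizer (U : Set G) := by
        refine Coprime.conj_smul_eq_self_iff.mp ?_
        rw [pow_succ, pow_succ, pow_one, Coprime.conj_smul_mul, hy1, Coprime.conj_smul_mul, hy2, hy3]
      obtain ⟨k, hk⟩ := f.pT ⟨y, T.mul_mem hx hx'T⟩
      have hk' : y ^ 2 ^ k = 1 := congrArg Subtype.val hk
      have hco : Nat.Coprime 3 (orderOf y) :=
        Nat.Coprime.coprime_dvd_right (orderOf_dvd_of_pow_eq_one hk')
          (Nat.Coprime.pow_right k (by norm_num))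
      obtain ⟨m, hm⟩ := exists_pow_eq_self_of_coprime hco
      have hyU : y ∈ normalizer (U : Set G) := hm ▸ pow_mem hy3' m
      exact hx'U (Coprime.conj_smul_eq_self_iff.mp
        (hy1.symm.trans (Coprime.conj_smul_eq_self_iff.mpr hyU)))
    · norm_num at hq
      have := (Nat.prime_dvd_prime_iff_eq c.prime (by norm_num : Nat.Prime 7)).mp hq
      rcases i.small with h | h <;> omega
    · exfalso
      have hWU : W ≤ W' :=
        (eq_of_le_of_card_ge (inf_le_left : U ≤ W) (by rw [hjU, hW, i.card]; norm_num)).ge.trans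
          inf_le_right
      exact haW (Coprime.conj_smul_eq_self_iff.mp
        (eq_of_le_of_card_ge hWU (by rw [Coprime.card_conj_smul])).symm)
  -- elements of `A` fixing `W` centralise `d`
  set C := V ⊓ centralizer {d} with hC
  set E := B ⊓ centralizer (C : Set G) with hE
  have hdE : d ∈ E := ⟨i.mem, mem_centralizer_iff.mpr fun v hv =>
    mem_centralizer_singleton_iff.mp hv.2⟩
  have hsup : V ≤ W ⊔ C := by
    have hs := f.splitV (zpowers_le.mpr (c.le i.mem))
    rw [commutator_zpowers_eq hdV, centralizer_zpowers] at hs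
    exact hs.1.ge
  have hEW : ∀ k ∈ E, ∀ w, w ∈ W → k * w * k⁻¹ ∈ W := fun k hk w hw =>
    conj_mem_of_normalizer (hinvB d i.mem hk.1) hw
  have hfaith : ∀ k ∈ E, (∀ w ∈ W, Commute k w) → k = 1 := by
    intro k hk h
    refine f.eq_of_agree (c.le hk.1) F.one_mem hsup (fun w hw => ?_) (fun v hv => ?_)
    · rw [conj_eq_self (h w hw)]; simp
    · rw [conj_eq_self (mem_centralizer_iff.mp hk.2 v hv).symm]; simp
  haveI : IsMulCommutative E := ⟨⟨fun u v => Subtype.ext (hcomm u u.2.1 v v.2.1)⟩⟩
  have hpow : ∀ k ∈ E, k ^ q = 1 := fun k hk => c.pow_eq_one f hx hab hk.1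
  have hEcard : Nat.card E ≤ 5 ∨ Nat.card E = 9 := by
    have hEp : IsPGroup q E := fun k => ⟨1, Subtype.ext (by simpa using hpow k k.2)⟩
    obtain ⟨n, hn⟩ := hEp.exists_card_eq
    let act : E →* MulAut W := (normalizerMonoidHom W).comp
      (inclusion fun k hk => hinvB d i.mem hk.1)
    letI : MulAction E W :=
      { smul := fun k w => act k w
        one_smul := fun w => by show act 1 w = w; rw [map_one]; rfl
        mul_smul := fun k l w => by show act (k * l) w = act k (act l w); rw [map_mul]; rfl }
    have hsmul : ∀ (k : E) (w : W), ((k • w : W) : G) = (k : G) * w * (k : G)⁻¹ := fun _ _ => rfl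
    obtain ⟨w₀, hw₀⟩ : ∃ w : W, (w : G) ≠ 1 := by
      by_contra h
      push Not at h
      have := (eq_bot_iff_forall W).mpr fun w hw => h ⟨w, hw⟩
      have h' := i.card
      rw [← hW, this, card_bot] at h'
      omega
    have horb : ∀ w : W, (w : G) ≠ 1 → Nat.card (MulAction.orbit E w) ≤ 15 := by
      intro w hw
      have hsub : MulAction.orbit E w ⊆ {u : W | u ≠ 1} := by
        rintro _ ⟨k, rfl⟩ h
        apply hw
        have h' : (k : G) * w * (k : G)⁻¹ = 1 := congrArg Subtype.val h
        exact conj_eq_one_iff.mp h'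
      have h1 : Nat.card (MulAction.orbit E w) ≤ Nat.card {u : W | u ≠ 1} :=
        Nat.card_mono (Set.toFinite _) hsub
      have h2 : Nat.card {u : W | u ≠ 1} = 15 := by
        haveI := Fintype.ofFinite W
        classical
        rw [Nat.card_coe_set_eq, Set.ncard_eq_toFinset_card']
        rw [show ({u : W | u ≠ 1}).toFinset = Finset.univ.erase 1 by ext; simp,
          Finset.card_erase_of_mem (Finset.mem_univ 1), Finset.card_univ, ← Nat.card_eq_fintype_card]
        rw [show Nat.card W = 16 from i.card]
      omega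
    have horbit : ∀ w : W, Nat.card (MulAction.orbit E w) * Nat.card (MulAction.stabilizer E w) =
        Nat.card E := fun w => by
      rw [← Nat.card_prod]
      exact Nat.card_congr (MulAction.orbitProdStabilizerEquivGroup E w)
    have hdvo : ∀ w : W, (w : G) ≠ 1 → ∃ l, Nat.card (MulAction.orbit E w) = q ^ l ∧ q ^ l ≤ 15 := by
      intro w hw
      have h1 : Nat.card (MulAction.orbit E w) ∣ q ^ n := hn ▸ Dvd.intro _ (horbit w)
      obtain ⟨l, -, hl⟩ := (Nat.dvd_prime_pow c.prime).mp h1
      exact ⟨l, hl, hl ▸ horb w hw⟩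
    have hcase : ∀ (w : W), MulAction.stabilizer E w = ⊥ → (w : G) ≠ 1 →
        Nat.card E ≤ 5 ∨ Nat.card E = 9 := by
      intro w hs hw
      obtain ⟨l, hl, hl15⟩ := hdvo w hw
      have h1 := horbit w
      rw [hs, card_bot, mul_one, hl] at h1
      rw [← h1]
      rcases i.small with rfl | rfl
      · rcases l with _ | _ | _ | l
        · left; norm_num
        · left; norm_num
        · right; norm_num
        · exfalso
          have : 3 ^ 3 ≤ 3 ^ (l + 1 + 1 + 1) := Nat.pow_le_pow_right (by norm_num) (by omega)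
          omega
      · rcases l with _ | _ | l
        · left; norm_num
        · left; norm_num
        · exfalso
          have : 5 ^ 2 ≤ 5 ^ (l + 1 + 1) := Nat.pow_le_pow_right (by norm_num) (by omega)
          omega
    by_cases hS0 : MulAction.stabilizer E w₀ = ⊥
    · exact hcase w₀ hS0 hw₀
    -- a point stabiliser moves a subgroup of order four
    set S := MulAction.stabilizer E w₀
    obtain ⟨k, hk, hk1⟩ : ∃ k ∈ S, k ≠ 1 := by
      by_contra h
      push Not at h
      exact hS0 ((eq_bot_iff_forall S).mpr h)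
    have hkV := hBV k.2.1
    set U := W ⊓ centralizer {(k : G)} with hU
    have hkq : (k : G) ^ q = 1 := hpow k k.2
    have hkW : (k : G) ∈ normalizer (W : Set G) := hinvB d i.mem k.2.1
    have hUd : d ∈ normalizer (U : Set G) := inf_normalizer_le_normalizer_inf
      ⟨hinvB d i.mem i.mem, le_normalizer (mem_centralizer_singleton_iff.mpr
        (hcomm d i.mem k k.2.1).eq)⟩
    have hUfree : U ⊓ centralizer {d} = ⊥ :=
      le_bot_iff.mp (i.free ▸ inf_le_inf_right _ inf_le_left)
    have hUne : U ≠ W := fun e => hk1 (Subtype.ext (hfaith k k.2 fun w hw =>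
      (mem_centralizer_singleton_iff.mp (e.ge hw).2).symm))
    have hw0U : (w₀ : G) ∈ U := by
      refine ⟨w₀.2, mem_centralizer_singleton_iff.mpr (mem_centralizer_conj.mp ?_).eq.symm⟩
      exact congrArg Subtype.val (MulAction.mem_stabilizer_iff.mp hk)
    have hmodU := card_fixed_modEq (r := q) i.order hUd
    rw [hUfree, card_bot] at hmodU
    have hdv := card_dvd_of_le (inf_le_left : U ≤ W)
    rw [hW, i.card] at hdv
    obtain ⟨j, hj, hjU⟩ := (Nat.dvd_prime_pow Nat.prime_two).mp (show Nat.card U ∣ 2 ^ 4 from hdv)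
    rw [hjU] at hmodU
    have hqj : q ∣ 2 ^ j - 1 := (Nat.modEq_iff_dvd' (Nat.one_le_pow _ _ (by norm_num))).mp hmodU.symm
    have hj2 : j = 2 ∧ q = 3 := by
      interval_cases j
      · have := eq_bot_of_card_eq U (by simpa using hjU) ▸ hw0U
        exact absurd (mem_bot.mp this) hw₀
      · exact absurd hqj (by simpa using c.prime.ne_one)
      · exact ⟨rfl, (Nat.prime_dvd_prime_iff_eq c.prime Nat.prime_three).mp hqj⟩
      · norm_num at hqj
        have := (Nat.prime_dvd_prime_iff_eq c.prime (by norm_num : Nat.Prime 7)).mp hqj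
        rcases i.small with h | h <;> omega
      · exact absurd (eq_of_le_of_card_ge (inf_le_left : U ≤ W)
          (by rw [hjU, hW, i.card]; norm_num)) hUne
    obtain ⟨rfl, rfl⟩ := hj2
    -- the orbit of `w₀` has three points, all fixed by `k`
    have hSle : ∀ l ∈ S, ∀ w ∈ U, Commute (l : G) w := by
      intro l hl w hw
      set U' := U ⊓ centralizer {(l : G)}
      have hU'd : d ∈ normalizer (U' : Set G) := inf_normalizer_le_normalizer_inf
        ⟨hUd, le_normalizer (mem_centralizer_singleton_iff.mpr (hcomm d i.mem l l.2.1).eq)⟩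
      have hfr : U' ⊓ centralizer {d} = ⊥ :=
        le_bot_iff.mp (hUfree ▸ inf_le_inf_right _ inf_le_left)
      have hm := card_fixed_modEq (r := 3) i.order hU'd
      rw [hfr, card_bot] at hm
      have hw0' : (w₀ : G) ∈ U' := ⟨hw0U, mem_centralizer_singleton_iff.mpr
        (mem_centralizer_conj.mp (congrArg Subtype.val (MulAction.mem_stabilizer_iff.mp hl))).eq.symm⟩
      have hdv := card_dvd_of_le (inf_le_left : U' ≤ U)
      rw [hjU] at hdv
      obtain ⟨m, hm2, hmU⟩ := (Nat.dvd_prime_pow Nat.prime_two).mp hdv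
      rw [hmU] at hm
      have heq : U' = U := by
        interval_cases m
        · exact absurd (mem_bot.mp (eq_bot_of_card_eq U' (hmU.trans (pow_zero 2)) ▸ hw0')) hw₀
        · exact absurd ((Nat.modEq_iff_dvd' (by norm_num)).mp hm.symm) (by norm_num)
        · exact eq_of_le_of_card_ge inf_le_left (by rw [hjU, hmU])
      exact (mem_centralizer_singleton_iff.mp (heq.ge hw).2).symm
    -- `S` acts semiregularly on the complement
    set U₁ := ⁅W, zpowers (k : G)⁆
    have hWe := elem_le f.elemV hWV
    have hsp := split hWe (f.not_dvd (zpowers_le.mpr (c.le k.2.1))) (zpowers_le.mpr hkW)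
    rw [centralizer_zpowers] at hsp
    have hU1c : Nat.card U₁ = 4 := by
      have h := hsp.2.2
      rw [← hU, hjU, show Nat.card W = 16 from i.card] at h
      exact Nat.eq_of_mul_eq_mul_right (by norm_num : 0 < 2 ^ 2) (h.trans (by norm_num))
    have hU1W : U₁ ≤ W := Coprime.commutator_le_of_le_normalizer (zpowers_le.mpr hkW)
    obtain ⟨w₁, hw₁, hw₁1⟩ : ∃ w ∈ U₁, w ≠ 1 := by
      by_contra h
      push Not at h
      rw [(eq_bot_iff_forall U₁).mpr h, card_bot] at hU1c
      omega
    set wW : W := ⟨w₁, hU1W hw₁⟩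
    have hinter : S ⊓ MulAction.stabilizer E wW = ⊥ := by
      refine (eq_bot_iff_forall _).mpr fun l ⟨hlS, hl⟩ => Subtype.ext (hfaith l l.2 ?_)
      have hl1 : Commute (l : G) w₁ :=
        mem_centralizer_conj.mp (congrArg Subtype.val (MulAction.mem_stabilizer_iff.mp hl))
      have hkl : (k : G) * (l : G) = (l : G) * k := (hcomm _ k.2.1 _ l.2.1).eq
      have hU1l : (l : G) ∈ normalizer (U₁ : Set G) :=
        le_normalizer_commutator' (hinvB d i.mem l.2.1) (le_normalizer_of_comm hkl.symm)
      have hU1d : d ∈ normalizer (U₁ : Set G) :=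
        le_normalizer_commutator' (hinvB d i.mem i.mem)
          (le_normalizer_of_comm (hcomm d i.mem k k.2.1).eq)
      set U₂ := U₁ ⊓ centralizer {(l : G)}
      have hU2d : d ∈ normalizer (U₂ : Set G) := inf_normalizer_le_normalizer_inf
        ⟨hU1d, le_normalizer (mem_centralizer_singleton_iff.mpr (hcomm d i.mem l l.2.1).eq)⟩
      have hfr : U₂ ⊓ centralizer {d} = ⊥ :=
        le_bot_iff.mp (i.free ▸ inf_le_inf_right _ (inf_le_left.trans hU1W))
      have hm := card_fixed_modEq (r := 3) i.order hU2d
      rw [hfr, card_bot] at hm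
      have hw1' : w₁ ∈ U₂ := ⟨hw₁, mem_centralizer_singleton_iff.mpr hl1.eq.symm⟩
      have hdv := card_dvd_of_le (inf_le_left : U₂ ≤ U₁)
      rw [hU1c] at hdv
      obtain ⟨m, hm2, hmU⟩ := (Nat.dvd_prime_pow Nat.prime_two).mp
        (show Nat.card U₂ ∣ 2 ^ 2 from hdv)
      rw [hmU] at hm
      have heq : U₂ = U₁ := by
        interval_cases m
        · exact absurd (mem_bot.mp (eq_bot_of_card_eq U₂ (hmU.trans (pow_zero 2)) ▸ hw1')) hw₁1
        · exact absurd ((Nat.modEq_iff_dvd' (by norm_num)).mp hm.symm) (by norm_num)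
        · exact eq_of_le_of_card_ge inf_le_left (by rw [hU1c, hmU]; norm_num)
      intro w hw
      obtain ⟨u, hu, v, hv, rfl⟩ := (Coprime.mem_sup_of_le_normalizer
        (inf_le_left.trans (abelian_le_normalizer hWe hU1W))).mp (hsp.1.ge hw)
      exact Commute.mul_right (show Commute (l : G) u from
        (mem_centralizer_singleton_iff.mp (heq.ge hu).2).symm)
        (hSle l hlS v hv)
    -- count
    have h1 := horbit w₀
    have hScard : Nat.card S ≤ 3 := by
      have hprop : ∀ l : S, ((l : E) • wW : W) ≠ 1 ∧ (((l : E) • wW : W) : G) ∈ U₁ := by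
        intro l
        refine ⟨fun h => hw₁1 ?_, ?_⟩
        · have h' : ((l : E) : G) * w₁ * ((l : E) : G)⁻¹ = 1 := congrArg Subtype.val h
          exact conj_eq_one_iff.mp h'
        · show ((l : E) : G) * w₁ * ((l : E) : G)⁻¹ ∈ U₁
          exact conj_mem_of_normalizer (le_normalizer_commutator' (hinvB d i.mem (l : E).2.1)
            (le_normalizer_of_comm (hcomm (l : E) (l : E).2.1 k k.2.1).eq)) hw₁
      have hmap : Function.Injective fun l : S => (⟨((l : E) • wW), hprop l⟩ :
          {u : W | u ≠ 1 ∧ (u : G) ∈ U₁}) := by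
        intro l l' h
        have h' : (l : E) • wW = (l' : E) • wW := congrArg Subtype.val h
        have hmem : (l' : E)⁻¹ * l ∈ S ⊓ MulAction.stabilizer E wW :=
          ⟨S.mul_mem (S.inv_mem l'.2) l.2, MulAction.mem_stabilizer_iff.mpr (by
            rw [mul_smul, h', inv_smul_smul])⟩
        rw [hinter, mem_bot, inv_mul_eq_one] at hmem
        exact Subtype.ext hmem.symm
      have hle := Nat.card_le_card_of_injective _ hmap
      have h2 : Nat.card {u : W | u ≠ 1 ∧ (u : G) ∈ U₁} ≤ 3 := by
        let e : {u : W | u ≠ 1 ∧ (u : G) ∈ U₁} ↪ {u : U₁ // u ≠ 1} :=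
          ⟨fun u => ⟨⟨u.1, u.2.2⟩, fun h => u.2.1 (Subtype.ext
            (show ((u.1 : W) : G) = 1 from congrArg Subtype.val h))⟩,
            fun u v h => Subtype.ext (Subtype.ext (congrArg (fun z => ((z.1 : U₁) : G)) h))⟩
        refine (Nat.card_le_card_of_injective _ e.injective).trans ?_
        haveI := Fintype.ofFinite U₁
        classical
        rw [Nat.card_eq_fintype_card, Fintype.card_subtype_compl, Fintype.card_subtype_eq,
          ← Nat.card_eq_fintype_card, hU1c]
      exact hle.trans h2
    have horb3 : Nat.card (MulAction.orbit E w₀) ≤ 3 := by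
      have hsub : MulAction.orbit E w₀ ⊆ {u : W | u ≠ 1 ∧ (u : G) ∈ U} := by
        rintro _ ⟨l, rfl⟩
        refine ⟨fun h => hw₀ ?_, ?_⟩
        · have h' : (l : G) * w₀ * (l : G)⁻¹ = 1 := congrArg Subtype.val h
          exact conj_eq_one_iff.mp h'
        · show (l : G) * w₀ * (l : G)⁻¹ ∈ U
          exact conj_mem_of_normalizer (inf_normalizer_le_normalizer_inf
            ⟨hinvB d i.mem l.2.1, le_normalizer (mem_centralizer_singleton_iff.mpr
              (hcomm l l.2.1 k k.2.1).eq)⟩) hw0U
      refine (Nat.card_mono (Set.toFinite _) hsub).trans ?_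
      let e : {u : W | u ≠ 1 ∧ (u : G) ∈ U} ↪ {u : U // u ≠ 1} :=
        ⟨fun u => ⟨⟨u.1, u.2.2⟩, fun h => u.2.1 (Subtype.ext
            (show ((u.1 : W) : G) = 1 from congrArg Subtype.val h))⟩,
          fun u v h => Subtype.ext (Subtype.ext (congrArg (fun z => ((z.1 : U) : G)) h))⟩
      refine (Nat.card_le_card_of_injective _ e.injective).trans ?_
      haveI := Fintype.ofFinite U
      classical
      rw [Nat.card_eq_fintype_card, Fintype.card_subtype_compl, Fintype.card_subtype_eq,
        ← Nat.card_eq_fintype_card, hjU]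
      norm_num
    have hle9 : Nat.card E ≤ 3 * 3 := h1 ▸ Nat.mul_le_mul horb3 hScard
    rw [hn] at hle9 ⊢
    rcases n with _ | _ | _ | n
    · left; norm_num
    · left; norm_num
    · right; norm_num
    · exfalso
      have : 3 ^ 3 ≤ 3 ^ (n + 1 + 1 + 1) := Nat.pow_le_pow_right (by norm_num) (by omega)
      omega
  have hEr : Nat.card E = 5 ∨ r ≠ 3 ∧ (Nat.card E ≤ 5 ∨ Nat.card E = 9) := by
    have hd : orderOf d = q := orderOf_eq_prime i.order i.ne
    have hqE : q ∣ Nat.card E := hd ▸ Subgroup.orderOf_dvd_natCard _ hdE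
    rcases i.small with rfl | rfl
    · refine Or.inr ⟨?_, hEcard⟩
      rintro rfl
      exact f.coprimeF (hd ▸ Subgroup.orderOf_dvd_natCard _ (c.le i.mem))
    · left
      have := Nat.le_of_dvd Nat.card_pos hqE
      rcases hEcard with h | h
      · omega
      · rw [h] at hqE
        norm_num at hqE
  refine f.inverted_moved c i (f.commute_of_blocks hWV inf_le_left hsup (c.le i.mem)
    (hinvB d i.mem i.mem) hdE.2 hx (by
      have key : ∀ v ∈ W, x * v * x⁻¹ ∈ W := fun v hv => by
        rw [conj_eq_comm_mul]
        exact W.mul_mem (hmvW (comm_mem_mv (hWV hv))) hv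
      refine mem_normalizer_iff.mpr fun v => ⟨key v, fun hv => ?_⟩
      have := key _ hv
      have hx2 : x * x = 1 := by nth_rw 1 [← hxi]; exact inv_mul_cancel x
      simpa [hxi, mul_assoc, hx2, ← mul_assoc x x] using this) ?_ ?_ ?_)
  · -- `x` preserves `C`
    rw [← centralizer_zpowers]
    refine le_normalizer_centralizer_inf hxV ?_
    have key : ∀ z ∈ zpowers d, x * z * x⁻¹ ∈ zpowers d := by
      intro z hz
      obtain ⟨n, rfl⟩ := mem_zpowers_iff.mp hz
      rw [← conj_zpow, i.inv]
      exact zpow_mem (inv_mem (mem_zpowers d)) n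
    refine mem_normalizer_iff.mpr fun z => ⟨key z, fun hz => ?_⟩
    have := key _ hz
    have hx2 : x * x = 1 := by nth_rw 1 [← hxi]; exact inv_mul_cancel x
    rw [hxi] at this
    simpa [hxi, mul_assoc, hx2, ← mul_assoc x x] using this
  · intro a ha haW
    have hC' : MulAut.conj a • C = C := by
      have h1 := f.fixed_eq (D := zpowers d) (D' := zpowers (a * d * a⁻¹))
        (zpowers_le.mpr (c.le i.mem)) (zpowers_le.mpr (c.le (hconjF a ha)))
        (by rw [commutator_zpowers_eq hdV, commutator_zpowers_eq (hBV (hconjF a ha)), hWconj a ha,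
          Coprime.conj_smul_eq_self_iff.mpr haW])
      rw [centralizer_zpowers, centralizer_zpowers] at h1
      rw [hC, smul_inf, Coprime.conj_smul_eq_self_iff.mpr (f.normA ha)]
      conv_rhs => rw [← h1]
      congr 1
      ext v
      rw [Coprime.mem_conj_smul, mem_centralizer_singleton_iff, mem_centralizer_singleton_iff]
      constructor
      · intro h
        calc v * (a * d * a⁻¹) = a * (a⁻¹ * v * a * d) * a⁻¹ := by group
          _ = a * (d * (a⁻¹ * v * a)) * a⁻¹ := by rw [h]
          _ = a * d * a⁻¹ * v := by group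
      · intro h
        calc a⁻¹ * v * a * d = a⁻¹ * (v * (a * d * a⁻¹)) * a := by group
          _ = a⁻¹ * (a * d * a⁻¹ * v) * a := by rw [h]
          _ = d * (a⁻¹ * v * a) := by group
    have haE : a ∈ normalizer (E : Set G) := inf_normalizer_le_normalizer_inf
      ⟨c.normA ha, normalizer_le_centralizer' C (Coprime.conj_smul_eq_self_iff.mp hC')⟩
    have h1 := aut_small f.ne (normalizerMonoidHom E ⟨a, haE⟩)
      (conjAut_pow haE (f.elemA.2 a ha)) hEr
    have h2 : (normalizerMonoidHom E ⟨a, haE⟩) ⟨d, hdE⟩ = ⟨d, hdE⟩ := by rw [h1]; rfl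
    exact mem_centralizer_conj.mp (congrArg Subtype.val h2)
  · intro a ha haW
    refine mem_centralizer_iff.mpr fun w hw => (mem_centralizer_conj.mp ?_).eq.symm
    have h1 : ⁅a * d * a⁻¹, w⁆ ∈ W ⊓ MulAut.conj a • W :=
      ⟨comm_mem (hinvB d i.mem (hconjF a ha)) hw, hWconj a ha ▸ comm_mem_mv (hWV hw)⟩
    rw [hdisj a ha haW, mem_bot] at h1
    exact conj_eq_self (commutatorElement_eq_one_iff_mul_comm.mp h1)

end Frame

end Cfsg.Agent.SolvableSignalizer.Linear
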