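import Cfsg.Agent.Lib.SolvableSignalizer.Linear.Support

/-!
An involution of `T` moving only a small part of `V`: the elements of `F` it inverts.
-/

set_option autoImplicit false
set_option linter.style.haveILetI false
set_option linter.unusedSectionVars false

namespace Cfsg.Agent.SolvableSignalizer.Linear

open Subgroup
open Cfsg.Agent.Components
open scoped commutatorElement Pointwise

variable [hp : Fact (Nat.Prime 2)] {G : Type*} [Group G] [Finite G]
variable {r q : ℕ} {V F T A B Z : Subgroup G} {x : G}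

/-- An element inverted by `x` and what it moves. -/
structure Inverted (q : ℕ) (V B : Subgroup G) (x e d : G) : Prop where
  mem : d ∈ B
  inv : x * d * x⁻¹ = d⁻¹
  ne : d ≠ 1
  order : d ^ q = 1
  card : Nat.card (mv V d) = 16
  eq : mv V d = mv V x ⊔ MulAut.conj e⁻¹ • mv V x
  free : mv V d ⊓ centralizer {d} = ⊥
  cardx : Nat.card (mv V x) = 4
  small : q = 3 ∨ q = 5

namespace Frame

variable (f : Frame r 2 V F T A)
include f

theorem inverted (c : Core q F T A B Z x) (hx : x ∈ T) (hsq : Sq V x)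
    (hI : Nat.card (mv V x) ≤ 4) {e : G} (he : e ∈ B) (hxe : ¬ Commute x e) :
    Inverted q V B x e (e⁻¹ * x * e * x) := by
  haveI := Fact.mk c.prime
  set d := e⁻¹ * x * e * x with hd
  have hx2 : x * x = 1 := by rw [← sq]; exact f.pow_eq_one hx hsq
  have hxi : x⁻¹ = x := inv_eq_of_mul_eq_one_right hx2
  have hxV := f.normT hx
  have hdB : d ∈ B := by
    have h := conj_mem_of_normalizer (c.normT hx) he
    rw [hxi] at h
    rw [hd, mul_assoc, mul_assoc, ← mul_assoc x]
    exact B.mul_mem (B.inv_mem he) h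
  have hdF := c.le hdB
  have hdV := f.normF hdF
  have hinv : x * d * x⁻¹ = d⁻¹ := by
    rw [hd, hxi]
    simp only [mul_inv_rev, inv_inv, hxi]
    calc x * (e⁻¹ * x * e * x) * x = x * e⁻¹ * x * e * (x * x) := by group
      _ = x * (e⁻¹ * (x * e)) := by rw [hx2]; group
  have hd1 : d ≠ 1 := by
    intro h
    apply hxe
    have h2 : e⁻¹ * x * e = x := by
      have := eq_inv_of_mul_eq_one_left h
      rwa [hxi] at this
    calc x * e = e * (e⁻¹ * x * e) := by group
      _ = e * x := by rw [h2]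
  have hq2 : q ≠ 2 := by
    rintro rfl
    obtain ⟨k, hk⟩ := c.pgroup.exists_card_eq
    rcases k with _ | k
    · exact hd1 (mem_bot.mp (eq_bot_of_card_eq B (by simpa using hk) ▸ hdB))
    · exact f.not_dvd c.le (hk ▸ dvd_pow_self 2 k.succ_ne_zero)
  have hdq : d ^ q = 1 := by
    have h1 := mem_centralizer_iff.mp c.zfix _ (c.pow d hdB)
    have h2 : x * d ^ q * x⁻¹ = (d ^ q)⁻¹ := by rw [← conj_pow, hinv, inv_pow]
    rw [← h1, mul_inv_cancel_right] at h2
    have h3 : (d ^ q) ^ 2 = 1 := by rw [sq]; nth_rw 1 [h2]; exact inv_mul_cancel _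
    obtain ⟨k, hk⟩ := c.pgroup ⟨_, B.pow_mem hdB q⟩
    have h4 : (d ^ q) ^ q ^ k = 1 := congrArg Subtype.val hk
    exact orderOf_eq_one_iff.mp (Nat.eq_one_of_dvd_coprimes
      (Nat.Coprime.pow_right k ((Nat.coprime_primes Nat.prime_two c.prime).mpr hq2.symm))
      (orderOf_dvd_of_pow_eq_one h3) (orderOf_dvd_of_pow_eq_one h4))
  have hWV : mv V d ≤ V := mv_le_self hdV
  have hle : mv V d ≤ mv V x ⊔ MulAut.conj e⁻¹ • mv V x :=
    f.mv_comm_le (f.normF (c.le he)) hxV fun v hv => comm_mem_mv hv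
  have hle16 : Nat.card ↥(mv V x ⊔ MulAut.conj e⁻¹ • mv V x) ≤ 16 :=
    (f.card_sup_mv_le (f.normF (c.le he)) hxV).trans (Nat.mul_le_mul hI hI)
  -- `x` preserves the image of `d`
  have hxD : x ∈ normalizer ((zpowers d : Subgroup G) : Set G) := by
    have key : ∀ y ∈ zpowers d, x * y * x⁻¹ ∈ zpowers d := by
      intro y hy
      obtain ⟨n, rfl⟩ := mem_zpowers_iff.mp hy
      rw [← conj_zpow, hinv]
      exact zpow_mem (inv_mem (mem_zpowers d)) n
    refine mem_normalizer_iff.mpr fun y => ⟨key y, fun hy => ?_⟩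
    have := key _ hy
    rw [hxi] at this
    simpa [mul_assoc, hx2, ← mul_assoc x x] using this
  have hxW : x ∈ normalizer ((mv V d : Subgroup G) : Set G) := by
    rw [← commutator_zpowers_eq hdV]
    exact le_normalizer_commutator' hxV hxD
  have hfree : mv V d ⊓ centralizer {d} = ⊥ := by
    refine le_bot_iff.mp ((f.splitV (zpowers_le.mpr hdF)).2.1 ▸ ?_)
    rw [commutator_zpowers_eq hdV, centralizer_zpowers]
    exact le_inf inf_le_left (le_inf (inf_le_left.trans hWV) inf_le_right)
  have hWe : Cfsg.IsElementaryAbelian 2 (mv V d) := elem_le f.elemV hWV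
  set U := mv V d ⊓ centralizer {x}
  have hdW : d ∈ normalizer ((mv V d : Subgroup G) : Set G) := by
    rw [← commutator_zpowers_eq hdV]
    exact le_normalizer_commutator' hdV (le_normalizer (mem_zpowers d))
  -- the fixed points of `x` and of its conjugate by `d` are independent
  have hmeet : U ⊓ MulAut.conj d • U = ⊥ := by
    rw [eq_bot_iff]
    rintro w ⟨hw, w', ⟨hw'W, hw'x⟩, hww'⟩
    have hww : d * w' * d⁻¹ = w := hww'
    subst hww
    have h1 : Commute x (d * w' * d⁻¹) := (mem_centralizer_singleton_iff.mp hw.2).symm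
    have h2 : Commute x w' := (mem_centralizer_singleton_iff.mp hw'x).symm
    have h3 : x * d * x⁻¹ * w' * (x * d * x⁻¹)⁻¹ = d * w' * d⁻¹ := by
      calc x * d * x⁻¹ * w' * (x * d * x⁻¹)⁻¹ = x * (d * (x⁻¹ * w' * x) * d⁻¹) * x⁻¹ := by group
        _ = x * (d * w' * d⁻¹) * x⁻¹ := by rw [mul_assoc x⁻¹, ← h2.eq, inv_mul_cancel_left]
        _ = d * w' * d⁻¹ := conj_eq_self h1
    rw [hinv, inv_inv] at h3
    have h4 : Commute (d ^ 2) w' := by
      refine mem_centralizer_conj.mp ?_
      calc d ^ 2 * w' * (d ^ 2)⁻¹ = d * (d * w' * d⁻¹) * d⁻¹ := by rw [sq]; group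
        _ = d * (d⁻¹ * w' * d) * d⁻¹ := by rw [h3]
        _ = w' := by group
    have hco : Nat.Coprime 2 (orderOf d) := by
      rw [orderOf_eq_prime hdq hd1]
      exact (Nat.coprime_primes Nat.prime_two c.prime).mpr hq2.symm
    obtain ⟨m, hm⟩ := exists_pow_eq_self_of_coprime hco
    have h5 : Commute d w' := hm ▸ h4.pow_left m
    have h6 : w' = 1 :=
      mem_bot.mp (hfree ▸ ⟨hw'W, mem_centralizer_singleton_iff.mpr h5.eq.symm⟩)
    simp [h6]
  have hUsq : Nat.card U * Nat.card U ≤ Nat.card (mv V d) := by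
    have h1 : MulAut.conj d • U ≤ mv V d :=
      (pointwise_smul_le_pointwise_smul_iff.mpr inf_le_left).trans
        (Coprime.conj_smul_eq_self_iff.mpr hdW).le
    calc Nat.card U * Nat.card U = Nat.card U * Nat.card ↥(MulAut.conj d • U) := by
          rw [Coprime.card_conj_smul]
      _ = Nat.card ↥(U ⊔ MulAut.conj d • U) := (Coprime.card_sup_of_disjoint
          (h1.trans (abelian_le_normalizer hWe inf_le_left)) (disjoint_iff.mpr hmeet)).symm
      _ ≤ _ := card_le_of_le (sup_le inf_le_left h1)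
  have hmvW : mv (mv V d) x ≤ U := mv_le fun v hv =>
    ⟨comm_mem hxW hv, mem_centralizer_singleton_iff.mpr (hsq v (hWV hv)).eq.symm⟩
  have hge : Nat.card (mv V d) ≤ Nat.card U * Nat.card U := by
    rw [← card_mv hWe hxW]
    exact Nat.mul_le_mul_right _ (card_le_of_le hmvW)
  have hsquare : Nat.card U * Nat.card U = Nat.card (mv V d) := le_antisymm hUsq hge
  obtain ⟨k, hk⟩ := ((Hyperplane.isPGroup f.elemV).to_le
    ((inf_le_left : U ≤ mv V d).trans hWV)).exists_card_eq
  have hk2 : k = 2 := by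
    have h16 := (card_le_of_le hle).trans hle16
    rw [← hsquare, hk] at h16
    rcases k with _ | _ | _ | k
    · exfalso
      rw [hk, pow_zero, mul_one] at hsquare
      have hbot := eq_bot_of_card_eq (mv V d) hsquare.symm
      exact hd1 (f.faith hdF (mv_eq_bot hbot))
    · exfalso
      have hcard : Nat.card (⁅V, zpowers d⁆ : Subgroup G) = 2 ^ 2 := by
        rw [commutator_zpowers_eq hdV, ← hsquare, hk]; norm_num
      have h1 := f.no_small_plane hx (zpowers_le.mpr hdF) hxD hcard
      have h2 : x * d * x⁻¹ = d := conj_eq_self (mem_centralizer_iff.mp h1 d (mem_zpowers d)).symm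
      rw [hinv] at h2
      refine hd1 (orderOf_eq_one_iff.mp (Nat.eq_one_of_dvd_coprimes
        ((Nat.coprime_primes Nat.prime_two c.prime).mpr hq2.symm) ?_ (orderOf_dvd_of_pow_eq_one hdq)))
      exact orderOf_dvd_of_pow_eq_one (by rw [sq]; nth_rw 1 [← h2]; exact inv_mul_cancel d)
    · rfl
    · exfalso
      have h8 : 2 ^ 3 ≤ 2 ^ (k + 1 + 1 + 1) := Nat.pow_le_pow_right (by norm_num) (by omega)
      have := (Nat.mul_le_mul h8 h8).trans h16
      norm_num at this
  subst hk2
  have hcard : Nat.card (mv V d) = 16 := by rw [← hsquare, hk]; norm_num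
  have heq := eq_of_le_of_card_ge hle (hle16.trans hcard.ge)
  refine ⟨hdB, hinv, hd1, hdq, hcard, heq, hfree, ?_, ?_⟩
  · have h1 := f.card_sup_mv_le (f.normF (c.le he)) hxV
    rw [← heq, hcard] at h1
    have : 4 ≤ Nat.card (mv V x) := by
      by_contra h
      push Not at h
      have := Nat.mul_le_mul (Nat.le_of_lt_succ h) (Nat.le_of_lt_succ h)
      omega
    omega
  · have hmod := card_fixed_modEq (r := q) hdq hdW
    rw [hfree, card_bot, hcard] at hmod
    have h15 : q ∣ 15 := (Nat.modEq_iff_dvd' (by norm_num)).mp hmod.symm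
    rcases c.prime.dvd_mul.mp (show q ∣ 3 * 5 by norm_num; exact h15) with h | h
    · exact Or.inl ((Nat.prime_dvd_prime_iff_eq c.prime Nat.prime_three).mp h)
    · exact Or.inr ((Nat.prime_dvd_prime_iff_eq c.prime Nat.prime_five).mp h)

/-- An element of odd order inverted by `x` is not centralised by it. -/
lemma inverted_moved {e d : G} (c : Core q F T A B Z x) (i : Inverted q V B x e d) :
    ¬ Commute x d := by
  intro h
  have h1 := conj_eq_self h
  rw [i.inv] at h1
  have h2 : d ^ 2 = 1 := by rw [sq]; nth_rw 1 [← h1]; exact inv_mul_cancel d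
  have hq2 : q ≠ 2 := by rcases i.small with rfl | rfl <;> norm_num
  exact i.ne (orderOf_eq_one_iff.mp (Nat.eq_one_of_dvd_coprimes
    ((Nat.coprime_primes Nat.prime_two c.prime).mpr hq2.symm) (orderOf_dvd_of_pow_eq_one h2)
    (orderOf_dvd_of_pow_eq_one i.order)))

end Frame

end Cfsg.Agent.SolvableSignalizer.Linear
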