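import Cfsg.Agent.Lib.Components.Hyperplane
import Cfsg.Agent.Lib.Coprime.Commutator
import Cfsg.Agent.Lib.Coprime.Action

/-!
A `p`-group `T` acting on a nilpotent `p'`-group `F` of operators of an elementary abelian
`p`-group `V`, with a coprime group `A` of operators whose fixed points in `F` commute with `T`.
-/

set_option autoImplicit false
set_option linter.style.haveILetI false
set_option linter.unusedSectionVars false

namespace Cfsg.Agent.SolvableSignalizer.Linear

open Subgroup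
open Cfsg.Agent.Components
open scoped commutatorElement

variable {G : Type*} [Group G]

/-- The hypotheses. -/
structure Frame (r p : ℕ) (V F T A : Subgroup G) : Prop where
  primeR : r.Prime
  ne : r ≠ p
  elemV : Cfsg.IsElementaryAbelian p V
  normF : F ≤ normalizer (V : Set G)
  normT : T ≤ normalizer (V : Set G)
  normA : A ≤ normalizer (V : Set G)
  nilF : Group.IsNilpotent F
  primeF : ¬ p ∣ Nat.card F
  coprimeF : ¬ r ∣ Nat.card F
  pT : IsPGroup p T
  elemA : Cfsg.IsElementaryAbelian r A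
  TF : T ≤ normalizer (F : Set G)
  AF : A ≤ normalizer (F : Set G)
  AT : A ≤ normalizer (T : Set G)
  faithF : F ⊓ centralizer (V : Set G) = ⊥
  faithT : T ⊓ centralizer (F : Set G) = ⊥
  fixed : F ⊓ centralizer (A : Set G) ≤ centralizer (T : Set G)

/-- `x` acts quadratically on `V`. -/
def Sq (V : Subgroup G) (x : G) : Prop := ∀ v ∈ V, Commute x ⁅x, v⁆

/-- `R` acts quadratically on `V`. -/
def SqOn (V R : Subgroup G) : Prop := ∀ x ∈ R, ∀ y ∈ R, ∀ v ∈ V, Commute x ⁅y, v⁆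

lemma SqOn.sq {V R : Subgroup G} (h : SqOn V R) {x : G} (hx : x ∈ R) : Sq V x := h x hx x hx

lemma SqOn.mono {V U R S : Subgroup G} (h : SqOn V R) (hU : U ≤ V) (hS : S ≤ R) : SqOn U S :=
  fun x hx y hy v hv => h x (hS hx) y (hS hy) v (hU hv)

lemma comm_mem {U : Subgroup G} {x v : G} (hx : x ∈ normalizer (U : Set G)) (hv : v ∈ U) :
    ⁅x, v⁆ ∈ U :=
  U.mul_mem ((mem_normalizer_iff.mp hx v).mp hv) (U.inv_mem hv)

lemma conj_eq_comm_mul (x v : G) : x * v * x⁻¹ = ⁅x, v⁆ * v := by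
  rw [commutatorElement_def]; group

lemma conj_eq_self {x v : G} (h : Commute x v) : x * v * x⁻¹ = v := by
  rw [h.eq, mul_inv_cancel_right]

lemma mem_centralizer_conj {k v : G} : k * v * k⁻¹ = v ↔ Commute k v :=
  ⟨fun h => mul_inv_eq_iff_eq_mul.mp h, conj_eq_self⟩

/-- If `k` fixes `⁅l, V⁆` and `l` fixes `⁅k, V⁆` then the actions of `k` and `l` commute. -/
lemma conj_conj_comm {p : ℕ} {V : Subgroup G} (hV : Cfsg.IsElementaryAbelian p V) {k l : G}
    (hk : k ∈ normalizer (V : Set G)) (hl : l ∈ normalizer (V : Set G))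
    (hkl : ∀ v ∈ V, Commute k ⁅l, v⁆) (hlk : ∀ v ∈ V, Commute l ⁅k, v⁆) {v : G} (hv : v ∈ V) :
    k * (l * v * l⁻¹) * k⁻¹ = l * (k * v * k⁻¹) * l⁻¹ := by
  rw [conj_eq_comm_mul l v, conj_eq_comm_mul k v]
  calc k * (⁅l, v⁆ * v) * k⁻¹ = (k * ⁅l, v⁆ * k⁻¹) * (k * v * k⁻¹) := by group
    _ = ⁅l, v⁆ * (⁅k, v⁆ * v) := by rw [conj_eq_self (hkl v hv), conj_eq_comm_mul k v]
    _ = ⁅k, v⁆ * (⁅l, v⁆ * v) := by
      rw [← mul_assoc, ← mul_assoc, Hyperplane.mem_comm hV (comm_mem hl hv) (comm_mem hk hv)]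
    _ = (l * ⁅k, v⁆ * l⁻¹) * (l * v * l⁻¹) := by rw [conj_eq_self (hlk v hv), conj_eq_comm_mul l v]
    _ = l * (⁅k, v⁆ * v) * l⁻¹ := by group

lemma commutator_mem_centralizer {p : ℕ} {V : Subgroup G} (hV : Cfsg.IsElementaryAbelian p V)
    {k l : G} (hk : k ∈ normalizer (V : Set G)) (hl : l ∈ normalizer (V : Set G))
    (hkl : ∀ v ∈ V, Commute k ⁅l, v⁆) (hlk : ∀ v ∈ V, Commute l ⁅k, v⁆) :
    ⁅k, l⁆ ∈ centralizer (V : Set G) := by
  refine mem_centralizer_iff.mpr fun v hv => ?_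
  have hw : (l * k)⁻¹ * v * (l * k) ∈ V := by
    simpa using (mem_normalizer_iff.mp (inv_mem (mul_mem hl hk)) v).mp hv
  have h := conj_conj_comm hV hk hl hkl hlk hw
  have h1 : ⁅k, l⁆ * v * ⁅k, l⁆⁻¹ = v := by
    calc ⁅k, l⁆ * v * ⁅k, l⁆⁻¹
        = k * (l * ((l * k)⁻¹ * v * (l * k)) * l⁻¹) * k⁻¹ := by rw [commutatorElement_def]; group
      _ = l * (k * ((l * k)⁻¹ * v * (l * k)) * k⁻¹) * l⁻¹ := h
      _ = v := by group
  exact (mem_centralizer_conj.mp h1).eq.symm

/-- The map `v ↦ ⁅x, v⁆` on an abelian `V` normalised by `x`. -/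
def moveHom {p : ℕ} {V : Subgroup G} (hV : Cfsg.IsElementaryAbelian p V) {x : G}
    (hx : x ∈ normalizer (V : Set G)) : V →* G where
  toFun v := ⁅x, (v : G)⁆
  map_one' := by simp
  map_mul' v w := by
    show ⁅x, (v : G) * w⁆ = ⁅x, (v : G)⁆ * ⁅x, (w : G)⁆
    rw [commutatorElement_mul_right_eq_mul_conj]
    simp only [mul_assoc]
    rw [← mul_assoc (v : G), Hyperplane.mem_comm hV v.2 (comm_mem hx w.2), mul_inv_cancel_right]

@[simp] lemma moveHom_apply {p : ℕ} {V : Subgroup G} (hV : Cfsg.IsElementaryAbelian p V) {x : G}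
    (hx : x ∈ normalizer (V : Set G)) (v : V) : moveHom hV hx v = ⁅x, (v : G)⁆ := rfl

/-- `{⁅x, v⁆ | v ∈ V}`, as a subgroup. -/
def mv (V : Subgroup G) (x : G) : Subgroup G := closure ((fun v => ⁅x, v⁆) '' (V : Set G))

lemma comm_mem_mv {V : Subgroup G} {x v : G} (hv : v ∈ V) : ⁅x, v⁆ ∈ mv V x :=
  subset_closure ⟨v, hv, rfl⟩

lemma mv_eq_range {p : ℕ} {V : Subgroup G} (hV : Cfsg.IsElementaryAbelian p V) {x : G}
    (hx : x ∈ normalizer (V : Set G)) : mv V x = (moveHom hV hx).range := by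
  refine le_antisymm ((closure_le _).mpr ?_) ?_
  · rintro _ ⟨v, hv, rfl⟩
    exact ⟨⟨v, hv⟩, rfl⟩
  · rintro _ ⟨v, rfl⟩
    exact comm_mem_mv v.2

lemma mv_le {V U : Subgroup G} {x : G} (h : ∀ v ∈ V, ⁅x, v⁆ ∈ U) : mv V x ≤ U :=
  (closure_le _).mpr fun _ ⟨v, hv, e⟩ => e ▸ h v hv

lemma mv_le_self {V : Subgroup G} {x : G} (hx : x ∈ normalizer (V : Set G)) : mv V x ≤ V :=
  mv_le fun _ hv => comm_mem hx hv

lemma Sq.mv_le {V : Subgroup G} {x : G} (h : Sq V x) (hx : x ∈ normalizer (V : Set G)) :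
    mv V x ≤ V ⊓ centralizer {x} :=
  Linear.mv_le fun v hv => ⟨comm_mem hx hv, mem_centralizer_singleton_iff.mpr (h v hv).eq.symm⟩

/-- `|⁅x, V⁆| |C_V(x)| = |V|`. -/
lemma card_mv [Finite G] {p : ℕ} {V : Subgroup G} (hV : Cfsg.IsElementaryAbelian p V) {x : G}
    (hx : x ∈ normalizer (V : Set G)) :
    Nat.card (mv V x) * Nat.card ↥(V ⊓ centralizer {x}) = Nat.card V := by
  have hk : (moveHom hV hx).ker = (V ⊓ centralizer {x}).subgroupOf V := by
    ext v
    rw [MonoidHom.mem_ker, mem_subgroupOf, moveHom_apply, commutatorElement_eq_one_iff_mul_comm]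
    exact ⟨fun h => ⟨v.2, mem_centralizer_singleton_iff.mpr h.symm⟩,
      fun h => (mem_centralizer_singleton_iff.mp h.2).symm⟩
  rw [card_eq_card_quotient_mul_card_subgroup (moveHom hV hx).ker,
    Nat.card_congr (QuotientGroup.quotientKerEquivRange _).toEquiv, ← mv_eq_range hV hx, hk,
    Nat.card_congr (subgroupOfEquivOfLe inf_le_left).toEquiv]

lemma mv_eq_bot {V : Subgroup G} {x : G} (h : mv V x = ⊥) : x ∈ centralizer (V : Set G) :=
  mem_centralizer_iff.mpr fun _ hv =>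
    (commutatorElement_eq_one_iff_mul_comm.mp (mem_bot.mp (h ▸ comm_mem_mv hv))).symm

variable {p : ℕ} [hp : Fact p.Prime] [Finite G]

lemma elem_le {V U : Subgroup G} (hV : Cfsg.IsElementaryAbelian p V) (h : U ≤ V) :
    Cfsg.IsElementaryAbelian p U := Hyperplane.isElementaryAbelian_of_le hV h

lemma coprime_card {V D : Subgroup G} (hV : Cfsg.IsElementaryAbelian p V)
    (hD : ¬ p ∣ Nat.card D) : (Nat.card D).Coprime (Nat.card V) := by
  obtain ⟨k, hk⟩ := (Hyperplane.isPGroup hV).exists_card_eq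
  rw [hk]
  exact Nat.Coprime.pow_right k (Nat.Coprime.symm (hp.out.coprime_iff_not_dvd.mpr hD))

/-- `U = ⁅U, D⁆ × C_U(D)` for a `p'`-group `D`. -/
lemma split {U D : Subgroup G} (hU : Cfsg.IsElementaryAbelian p U)
    (hD : ¬ p ∣ Nat.card D) (hn : D ≤ normalizer (U : Set G)) :
    ⁅U, D⁆ ⊔ (U ⊓ centralizer (D : Set G)) = U ∧ ⁅U, D⁆ ⊓ (U ⊓ centralizer (D : Set G)) = ⊥ ∧
      Nat.card (⁅U, D⁆ : Subgroup G) * Nat.card ↥(U ⊓ centralizer (D : Set G)) = Nat.card U := by
  haveI := hU.1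
  have hcop := coprime_card hU hD
  have h1 := Coprime.commutator_sup_inf_centralizer hn hcop
    (Or.inr (Coprime.isSolvable_of_isMulCommutative U))
  have h2 : ⁅U, D⁆ ⊓ (U ⊓ centralizer (D : Set G)) = ⊥ := by
    rw [inf_comm, Coprime.inf_centralizer_inf_commutator hn hcop]
  refine ⟨h1, h2, ?_⟩
  rw [← Coprime.card_sup_of_disjoint ?_ (disjoint_iff.mpr h2), h1]
  intro g hg
  refine mem_normalizer_iff.mpr fun z => ⟨fun hz => ?_, fun hz => ?_⟩
  · rw [Hyperplane.mem_comm hU hg.1 (Coprime.commutator_le_of_le_normalizer hn hz),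
      mul_inv_cancel_right]
    exact hz
  · have hzU : z ∈ U := by
      have := U.mul_mem (U.mul_mem (U.inv_mem hg.1)
        (Coprime.commutator_le_of_le_normalizer hn hz)) hg.1
      simpa [mul_assoc] using this
    rwa [Hyperplane.mem_comm hU hg.1 hzU, mul_inv_cancel_right] at hz

/-- A `p'`-element of operators commuting with `U` and fixing `V` modulo `U` fixes `V`. -/
lemma le_centralizer_of_chain {V U D : Subgroup G} (hV : Cfsg.IsElementaryAbelian p V)
    (hD : ¬ p ∣ Nat.card D) (hn : D ≤ normalizer (V : Set G))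
    (h1 : ⁅V, D⁆ ≤ U) (h2 : D ≤ centralizer (U : Set G)) : D ≤ centralizer (V : Set G) :=
  haveI := hV.1
  Coprime.le_centralizer_of_commutator_commutator_eq_bot hn (coprime_card hV hD)
    (Or.inr (Coprime.isSolvable_of_isMulCommutative V))
    (Coprime.commutator_eq_bot_iff_le_centralizer'.mpr (h2.trans (centralizer_le h1)))

/-- A `p`-group normalising a nontrivial `p`-group fixes a nontrivial element of it. -/
lemma fixed_ne_bot {U R : Subgroup G} (hU : IsPGroup p U) (hR : IsPGroup p R)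
    (hn : R ≤ normalizer (U : Set G)) (hU1 : U ≠ ⊥) : U ⊓ centralizer (R : Set G) ≠ ⊥ := by
  let ac : R →* MulAut U := (normalizerMonoidHom U).comp (inclusion hn)
  letI : MulAction R U :=
    { smul := fun t v => ac t v
      one_smul := fun v => by show ac 1 v = v; rw [map_one]; rfl
      mul_smul := fun s t v => by show ac (s * t) v = ac s (ac t v); rw [map_mul]; rfl }
  haveI : Nontrivial U := (nontrivial_iff_ne_bot U).mpr hU1
  have hdvd : p ∣ Nat.card U := by
    obtain ⟨n, hn⟩ := IsPGroup.iff_card.mp hU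
    rcases n with _ | n
    · exfalso
      have := Finite.one_lt_card (α := U)
      rw [hn, pow_zero] at this
      omega
    · rw [hn]; exact dvd_pow_self p n.succ_ne_zero
  obtain ⟨v, hv, hv1⟩ := hR.exists_fixed_point_of_prime_dvd_card_of_fixed_point U hdvd
    (show (1 : U) ∈ MulAction.fixedPoints R U from fun t => map_one (ac t))
  intro hbot
  have hmem : (v : G) ∈ U ⊓ centralizer (R : Set G) := by
    refine ⟨v.2, mem_centralizer_iff.mpr fun t ht => ?_⟩
    have h1 : t * (v : G) * t⁻¹ = v := congrArg Subtype.val (hv ⟨t, ht⟩)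
    exact mul_inv_eq_iff_eq_mul.mp h1
  rw [hbot, mem_bot] at hmem
  exact hv1 (Subtype.ext hmem).symm

/-- In a nilpotent group a `p`-element fixing a self-centralising subgroup is trivial. -/
lemma centralizes_of_self_centralizing {F R C : Subgroup G} (hF : Group.IsNilpotent F)
    (hpF : ¬ p ∣ Nat.card F) (hR : IsPGroup p R) (hRF : R ≤ normalizer (F : Set G))
    (hC : C ≤ F) (hRC : R ≤ centralizer (C : Set G))
    (hCC : F ⊓ centralizer (C : Set G) ≤ centralizer (R : Set G)) :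
    R ≤ centralizer (F : Set G) := by
  set K := F ⊓ centralizer (R : Set G) with hK
  have hCK : C ≤ K := le_inf hC (le_centralizer_iff.mp hRC)
  have hRn : ∀ g ∈ R, g ∈ normalizer (K : Set G) := fun g hg =>
    Coprime.le_normalizer_sup_inf_centralizer hRF hg
  set N := F ⊓ normalizer (K : Set G) with hN
  have hRN : R ≤ normalizer (N : Set G) :=
    le_trans (le_inf hRF (fun g hg => le_normalizer (hRn g hg))) inf_normalizer_le_normalizer_inf
  have h1 : ⁅⁅K, R⁆, N⁆ = ⊥ := by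
    rw [show ⁅K, R⁆ = ⊥ from Coprime.commutator_eq_bot_iff_le_centralizer'.mpr
      (le_centralizer_iff.mp inf_le_right), commutator_bot_left]
  have h2 : ⁅⁅N, K⁆, R⁆ = ⊥ := by
    refine Coprime.commutator_eq_bot_iff_le_centralizer'.mpr ?_
    refine (le_centralizer_iff.mp (inf_le_right : K ≤ _)).trans (centralizer_le ?_)
    rw [commutator_comm]
    exact Coprime.commutator_le_of_le_normalizer inf_le_right
  have h3 : ⁅⁅R, N⁆, K⁆ = ⊥ := commutator_commutator_eq_bot_of_rotate h2 h1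
  have h4 : ⁅N, R⁆ ≤ K := by
    refine le_inf ((Coprime.commutator_le_of_le_normalizer hRN).trans inf_le_left) ?_
    refine le_trans (le_inf ((Coprime.commutator_le_of_le_normalizer hRN).trans inf_le_left) ?_) hCC
    rw [commutator_comm]
    exact le_centralizer_iff.mp (hCK.trans (Coprime.commutator_eq_bot_iff_le_centralizer'.mp h3))
  have hcop : (Nat.card R).Coprime (Nat.card N) := by
    obtain ⟨k, hk⟩ := hR.exists_card_eq
    rw [hk]
    exact (hp.out.coprime_iff_not_dvd.mpr fun h =>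
      hpF (h.trans (card_dvd_of_le inf_le_left))).pow_left k
  have hRN' : R ≤ centralizer (N : Set G) :=
    Coprime.le_centralizer_of_commutator_commutator_eq_bot hRN hcop
      (Or.inl (Coprime.isSolvable_of_isPGroup hR))
      (Coprime.commutator_eq_bot_iff_le_centralizer'.mpr
        ((le_centralizer_iff.mp (inf_le_right : K ≤ _)).trans (centralizer_le h4)))
  have hNK : N ≤ K := le_inf inf_le_left (le_centralizer_iff.mp hRN')
  have hKF : K = F := by
    by_contra hne
    haveI := hF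
    have hlt : K.subgroupOf F < ⊤ := lt_top_iff_ne_top.mpr fun h =>
      hne (le_antisymm inf_le_left (subgroupOf_eq_top.mp h))
    have h := Group.normalizerCondition_of_isNilpotent (G := F) _ hlt
    refine h.not_ge fun z hz => ?_
    refine mem_subgroupOf.mpr (hNK ⟨z.2, mem_normalizer_iff.mpr fun w => ?_⟩)
    constructor
    · intro hw
      have hwF : w ∈ F := (inf_le_left : K ≤ F) hw
      exact (mem_normalizer_iff.mp hz ⟨w, hwF⟩).mp hw
    · intro hw
      have hwF : w ∈ F := by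
        have hw' : (z : G) * w * (z : G)⁻¹ ∈ F := (inf_le_left : K ≤ F) hw
        simpa [mul_assoc] using F.mul_mem (F.mul_mem (F.inv_mem z.2) hw') z.2
      exact (mem_normalizer_iff.mp hz ⟨w, hwF⟩).mpr hw
  exact le_centralizer_iff.mp (hKF ▸ inf_le_right)

namespace Frame

variable {r : ℕ} {V F T A : Subgroup G} (f : Frame r p V F T A)
include f

lemma faith {z : G} (hz : z ∈ F) (hzV : z ∈ centralizer (V : Set G)) : z = 1 :=
  mem_bot.mp (f.faithF ▸ ⟨hz, hzV⟩)

lemma not_dvd {D : Subgroup G} (hD : D ≤ F) : ¬ p ∣ Nat.card D :=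
  fun h => f.primeF (h.trans (card_dvd_of_le hD))

lemma splitV {D : Subgroup G} (hD : D ≤ F) :
    ⁅V, D⁆ ⊔ (V ⊓ centralizer (D : Set G)) = V ∧ ⁅V, D⁆ ⊓ (V ⊓ centralizer (D : Set G)) = ⊥ ∧
      Nat.card (⁅V, D⁆ : Subgroup G) * Nat.card ↥(V ⊓ centralizer (D : Set G)) = Nat.card V :=
  split f.elemV (f.not_dvd hD) (hD.trans f.normF)

/-- An element of `T` is determined by its action on `F`. -/
lemma eq_one_of_fix {t : G} (ht : t ∈ T) (h : ∀ z ∈ F, Commute t z) : t = 1 :=
  mem_bot.mp (f.faithT ▸ ⟨ht, mem_centralizer_iff.mpr fun z hz => (h z hz).eq.symm⟩)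

/-- Elements of `F` agreeing on two subgroups generating `V` are equal. -/
lemma eq_of_agree {k l : G} (hk : k ∈ F) (hl : l ∈ F) {W C : Subgroup G} (hWC : V ≤ W ⊔ C)
    (hW : ∀ v ∈ W, k * v * k⁻¹ = l * v * l⁻¹) (hC : ∀ v ∈ C, k * v * k⁻¹ = l * v * l⁻¹) :
    k = l := by
  have h : W ⊔ C ≤ centralizer {l⁻¹ * k} := by
    refine sup_le (fun v hv => ?_) (fun v hv => ?_)
    all_goals rw [mem_centralizer_singleton_iff]; refine (mem_centralizer_conj.mp ?_).eq.symm
    · calc l⁻¹ * k * v * (l⁻¹ * k)⁻¹ = l⁻¹ * (k * v * k⁻¹) * l := by group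
        _ = v := by rw [hW v hv]; group
    · calc l⁻¹ * k * v * (l⁻¹ * k)⁻¹ = l⁻¹ * (k * v * k⁻¹) * l := by group
        _ = v := by rw [hC v hv]; group
  have := f.faith (F.mul_mem (F.inv_mem hl) hk)
    (mem_centralizer_iff.mpr fun v hv => mem_centralizer_singleton_iff.mp (h (hWC hv)))
  exact (inv_mul_eq_one.mp this).symm

end Frame

end Cfsg.Agent.SolvableSignalizer.Linear
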