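import Cfsg.Agent.Lib.SolvableSignalizer.Linear.Decomp

/-!
The pieces of `V` attached to the members of a family of moved subgroups.
-/

set_option autoImplicit false
set_option linter.style.haveILetI false
set_option linter.unusedSectionVars false

namespace Cfsg.Agent.SolvableSignalizer.Linear

open Subgroup
open Cfsg.Agent.Components
open scoped commutatorElement Pointwise

variable {p : ℕ} [hp : Fact p.Prime] {G : Type*} [Group G] [Finite G] {r : ℕ}
  {V F T A R : Subgroup G} {n : ℕ} {x : Fin n → G} {D : Fin n → Subgroup G}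

/-- A part of `V` invariant under the members of the family. -/
structure Inv (V R : Subgroup G) (D : Fin n → Subgroup G) (S : Finset (Fin n)) (W : Subgroup G) :
    Prop where
  le : W ≤ V
  normR : R ≤ normalizer (W : Set G)
  normD : ∀ i ∈ S, D i ≤ normalizer (W : Set G)

/-- The elements fixed by the members in `S`. -/
def fixS (x : Fin n → G) (S : Finset (Fin n)) : Subgroup G := centralizer (x '' (S : Set (Fin n)))

lemma fixS_anti {S S' : Finset (Fin n)} (h : S ⊆ S') : fixS x S' ≤ fixS x S :=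
  centralizer_le (Set.image_mono (Finset.coe_subset.mpr h))

lemma mem_fixS {S : Finset (Fin n)} {v : G} : v ∈ fixS x S ↔ ∀ j ∈ S, Commute (x j) v := by
  simp [fixS, mem_centralizer_iff, Commute, SemiconjBy]

lemma mem_norm_inf_cent {W : Subgroup G} {k z : G} (hk : k ∈ normalizer (W : Set G))
    (h : Commute k z) : k ∈ normalizer ((W ⊓ centralizer {z} : Subgroup G) : Set G) := by
  rw [← centralizer_zpowers]
  exact inf_normalizer_le_normalizer_inf
    ⟨hk, normalizer_le_centralizer' _ (le_normalizer_of_comm h.eq)⟩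

/-- Fixed points in a direct product of invariant factors. -/
lemma fixed_split {U W' : Subgroup G} (hV : Cfsg.IsElementaryAbelian p V) (hU : U ≤ V) (hW : W' ≤ V)
    (hd : U ⊓ W' = ⊥) {S : Finset (Fin n)} (hnU : ∀ j ∈ S, x j ∈ normalizer (U : Set G))
    (hnW : ∀ j ∈ S, x j ∈ normalizer (W' : Set G)) :
    Nat.card ↥((U ⊔ W') ⊓ fixS x S) = Nat.card ↥(U ⊓ fixS x S) * Nat.card ↥(W' ⊓ fixS x S) := by
  have hn := hW.trans (abelian_le_normalizer hV hU)
  rw [← Coprime.card_sup_of_disjoint ((inf_le_left.trans hW).trans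
    (abelian_le_normalizer hV (inf_le_left.trans hU)))
    (disjoint_iff.mpr (le_bot_iff.mp (hd ▸ inf_le_inf inf_le_left inf_le_left)))]
  refine congrArg (fun X : Subgroup G => Nat.card X) (le_antisymm ?_ (sup_le
    (inf_le_inf_right _ le_sup_left) (inf_le_inf_right _ le_sup_right)))
  rintro v ⟨hv, hfix⟩
  obtain ⟨u, hu, w, hw, rfl⟩ := (Coprime.mem_sup_of_le_normalizer hn).mp hv
  have key : ∀ j ∈ S, Commute (x j) u ∧ Commute (x j) w := by
    intro j hj
    have hu' := conj_mem_of_normalizer (hnU j hj) hu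
    have hw' := conj_mem_of_normalizer (hnW j hj) hw
    have e : (u⁻¹ * (x j * u * (x j)⁻¹)) = w * (x j * w * (x j)⁻¹)⁻¹ := by
      have h := conj_eq_self (mem_fixS.mp hfix j hj)
      rw [show x j * (u * w) * (x j)⁻¹ = x j * u * (x j)⁻¹ * (x j * w * (x j)⁻¹) by group] at h
      calc u⁻¹ * (x j * u * (x j)⁻¹)
          = u⁻¹ * (x j * u * (x j)⁻¹ * (x j * w * (x j)⁻¹)) * (x j * w * (x j)⁻¹)⁻¹ := by group
        _ = _ := by rw [h]; group
    have h0 : u⁻¹ * (x j * u * (x j)⁻¹) = 1 := mem_bot.mp (hd ▸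
      ⟨U.mul_mem (U.inv_mem hu) hu', e ▸ W'.mul_mem hw (W'.inv_mem hw')⟩)
    refine ⟨mem_centralizer_conj.mp (inv_mul_eq_one.mp h0).symm, mem_centralizer_conj.mp ?_⟩
    rw [h0] at e
    exact (mul_inv_eq_one.mp e.symm).symm
  exact mul_mem_sup ⟨hu, mem_fixS.mpr fun j hj => (key j hj).1⟩
    ⟨hw, mem_fixS.mpr fun j hj => (key j hj).2⟩

namespace Family

variable (f : Frame r p V F T A) (fam : Family F R x D) (hR : Cfsg.IsElementaryAbelian p R)
  (hRT : R ≤ T)
include f fam hR hRT

omit f hRT in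
lemma comm_x (i j : Fin n) : Commute (x i) (x j) := Hyperplane.mem_comm hR (fam.mem i) (fam.mem j)

omit hR in
lemma x_mem (i : Fin n) : x i ∈ normalizer (V : Set G) := f.normT (hRT (fam.mem i))

omit hR hRT in
lemma d_norm (i : Fin n) : D i ≤ normalizer (V : Set G) := (fam.le i).trans f.normF

omit f hR hRT in
lemma d_comm {i j : Fin n} (h : i ≠ j) {d e : G} (hd : d ∈ D i) (he : e ∈ D j) : Commute d e :=
  (mem_centralizer_iff.mp (fam.comm i j h hd) e he).symm

omit f hR hRT in
lemma d_fix {i j : Fin n} (h : i ≠ j) {d : G} (hd : d ∈ D i) : Commute (x j) d :=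
  (mem_centralizer_iff.mp (fam.fix i j h) d hd).symm

omit f hR hRT in
lemma exists_moved (i : Fin n) : ∃ d ∈ D i, ¬ Commute (x i) d := by
  by_contra hc
  push Not at hc
  exact fam.moved i (mem_centralizer_iff.mpr fun d hd => (hc d hd).eq.symm)

omit hRT in
/-- A subgroup of `D i` containing one twisted element is `D i`. -/
lemma eq_D {i : Fin n} {d : G} (hd : d ∈ D i) (hnc : ¬ Commute (x i) d) {S : Subgroup G}
    (hS : S ≤ D i) (hn : x i ∈ normalizer (S : Set G))
    (he : d⁻¹ * x i * d * (x i)⁻¹ ∈ S) : S = D i := by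
  by_contra hne
  set e := d⁻¹ * x i * d * (x i)⁻¹ with hedef
  have hfix : Commute (x i) e :=
    (mem_centralizer_iff.mp (fam.small i S hS hne hn) e he).symm
  have key : ∀ k : ℕ, (x i) ^ k * d * ((x i) ^ k)⁻¹ = d * e ^ k := by
    intro k
    induction k with
    | zero => simp
    | succ k ih =>
      calc (x i) ^ (k + 1) * d * ((x i) ^ (k + 1))⁻¹ = x i * ((x i) ^ k * d * ((x i) ^ k)⁻¹) * (x i)⁻¹ := by
            rw [pow_succ']; group
        _ = x i * d * (x i)⁻¹ * (x i * e ^ k * (x i)⁻¹) := by rw [ih]; group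
        _ = d * e * e ^ k := by rw [conj_eq_self (hfix.pow_right k), hedef]; group
        _ = _ := by rw [mul_assoc, ← pow_succ']
  have h1 := key p
  rw [hR.2 _ (fam.mem i), one_mul, inv_one, mul_one] at h1
  have hep : e ^ p = 1 := left_eq_mul.mp h1
  have he1 : e = 1 := by
    refine orderOf_eq_one_iff.mp (Nat.eq_one_of_dvd_coprimes ?_ (orderOf_dvd_of_pow_eq_one hep)
      (Subgroup.orderOf_dvd_natCard _ (hS he)))
    exact hp.out.coprime_iff_not_dvd.mpr (f.not_dvd (fam.le i))
  refine hnc (mem_centralizer_conj.mp ?_)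
  calc x i * d * (x i)⁻¹ = d * e := by rw [hedef]; group
    _ = d := by rw [he1, mul_one]

omit hRT in
/-- Fixed points of `x i` and of a conjugate are independent where `D i` is fixed point free. -/
lemma fixed_meet {i : Fin n} {d : G} (hd : d ∈ D i) (hnc : ¬ Commute (x i) d) {U : Subgroup G}
    (hfree : U ⊓ centralizer (D i : Set G) = ⊥) {u : G} (hu : u ∈ U) (h1 : Commute (x i) u)
    (h2 : Commute (x i) (d * u * d⁻¹)) : u = 1 := by
  have hS := fam.eq_D f hR hd hnc (inf_le_left : D i ⊓ centralizer {u} ≤ D i)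
    (mem_norm_inf_cent (fam.norm i (fam.mem i)) h1) ⟨?_, ?_⟩
  · refine mem_bot.mp (hfree ▸ ⟨hu, mem_centralizer_iff.mpr fun e he => ?_⟩)
    exact mem_centralizer_singleton_iff.mp (hS.ge he).2
  · rw [mul_assoc, mul_assoc, ← mul_assoc (x i)]
    exact (D i).mul_mem ((D i).inv_mem hd) (conj_mem_of_normalizer (fam.norm i (fam.mem i)) hd)
  · refine mem_centralizer_singleton_iff.mpr (mem_centralizer_conj.mp ?_).eq
    calc d⁻¹ * x i * d * (x i)⁻¹ * u * (d⁻¹ * x i * d * (x i)⁻¹)⁻¹
        = d⁻¹ * (x i * (d * ((x i)⁻¹ * u * x i) * d⁻¹) * (x i)⁻¹) * d := by group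
      _ = d⁻¹ * (x i * (d * u * d⁻¹) * (x i)⁻¹) * d := by
        rw [mul_assoc (x i)⁻¹, ← h1.eq, inv_mul_cancel_left]
      _ = u := by rw [conj_eq_self h2]; group

omit hRT in
/-- A subgroup of `D i` moved by `x i` fixing `U` gives everything. -/
lemma le_centralizer_of_x {i : Fin n} {U : Subgroup G} (hx : x i ∈ centralizer (U : Set G))
    (hxU : x i ∈ normalizer (U : Set G)) (hDU : D i ≤ normalizer (U : Set G)) :
    D i ≤ centralizer (U : Set G) := by
  obtain ⟨d, hd, hnc⟩ := fam.exists_moved i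
  have hS := fam.eq_D f hR hd hnc (inf_le_left : D i ⊓ centralizer (U : Set G) ≤ D i)
    (inf_normalizer_le_normalizer_inf
      ⟨fam.norm i (fam.mem i), normalizer_le_centralizer' _ hxU⟩) ⟨?_, ?_⟩
  · exact hS ▸ inf_le_right
  · rw [mul_assoc, mul_assoc, ← mul_assoc (x i)]
    exact (D i).mul_mem ((D i).inv_mem hd) (conj_mem_of_normalizer (fam.norm i (fam.mem i)) hd)
  · rw [mul_assoc, mul_assoc, ← mul_assoc (x i), ← mul_assoc, ← mul_assoc]
    refine (centralizer (U : Set G)).mul_mem ?_ ((centralizer (U : Set G)).inv_mem hx)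
    have := conj_mem_of_normalizer (normalizer_le_centralizer' _
      ((normalizer (U : Set G)).inv_mem (hDU hd))) hx
    simpa using this

omit hR hRT in
/-- `D i` is nontrivial on any invariant part containing its image. -/
lemma active {i : Fin n} {W : Subgroup G} (hi : ⁅V, D i⁆ ≤ W) :
    ¬ D i ≤ centralizer (W : Set G) := by
  intro h
  obtain ⟨d, hd, hnc⟩ := fam.exists_moved i
  refine hnc ?_
  rw [f.faith (fam.le i hd) (le_centralizer_of_chain f.elemV (f.not_dvd (fam.le i))
    (fam.d_norm f i) hi h hd)]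
  exact Commute.one_right _

/-- The piece attached to `i`. -/
theorem piece {i : Fin n} {S : Finset (Fin n)} (hi : i ∈ S) {W : Subgroup G} (hW : Inv V R D S W)
    (hact : ¬ D i ≤ centralizer (W : Set G)) :
    ∃ U W' C : Subgroup G, U = ⁅W, D i⁆ ∧ W' = W ⊓ centralizer (D i : Set G) ∧
      C = U ⊓ centralizer {x i} ∧
      Inv V R D S U ∧ Inv V R D S W' ∧ Inv V R D (S.erase i) C ∧ U ⊔ W' = W ∧ U ⊓ W' = ⊥ ∧
      Nat.card U * Nat.card W' = Nat.card W ∧
      U ⊓ centralizer (D i : Set G) = ⊥ ∧ C ≠ ⊥ ∧ Nat.card C * Nat.card C ≤ Nat.card U := by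
  have hWe := elem_le f.elemV hW.le
  have hDW := hW.normD i hi
  obtain ⟨hsup, hdisj, hcard⟩ := split hWe (f.not_dvd (fam.le i)) hDW
  set U := ⁅W, D i⁆ with hU
  set W' := W ⊓ centralizer (D i : Set G) with hW'
  set C := U ⊓ centralizer {x i} with hC
  have hUW : U ≤ W := Coprime.commutator_le_of_le_normalizer hDW
  have hnD : ∀ j ∈ S, D j ≤ normalizer (D i : Set G) := fun j _ => by
    by_cases h : j = i
    · subst h; exact le_normalizer
    · exact (fam.comm j i h).trans (centralizer_le_normalizer _)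
  have hUinv : Inv V R D S U := ⟨hUW.trans hW.le,
    fun t ht => le_normalizer_commutator' (hW.normR ht) (fam.norm i ht),
    fun j hj d hd => le_normalizer_commutator' (hW.normD j hj hd) (hnD j hj hd)⟩
  have hW'inv : Inv V R D S W' := ⟨inf_le_left.trans hW.le,
    fun t ht => inf_normalizer_le_normalizer_inf
      ⟨hW.normR ht, normalizer_le_centralizer' _ (fam.norm i ht)⟩,
    fun j hj d hd => inf_normalizer_le_normalizer_inf
      ⟨hW.normD j hj hd, normalizer_le_centralizer' _ (hnD j hj hd)⟩⟩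
  have hCinv : Inv V R D (S.erase i) C := ⟨inf_le_left.trans hUinv.le,
    fun t ht => mem_norm_inf_cent (hUinv.normR ht)
      (Hyperplane.mem_comm hR ht (fam.mem i)),
    fun j hj d hd => mem_norm_inf_cent (hUinv.normD j (Finset.mem_of_mem_erase hj) hd)
      (fam.d_fix (Finset.ne_of_mem_erase hj) hd).symm⟩
  have hfree : U ⊓ centralizer (D i : Set G) = ⊥ :=
    le_bot_iff.mp (hdisj ▸ le_inf inf_le_left (le_inf (inf_le_left.trans hUW) inf_le_right))
  have hU1 : U ≠ ⊥ := fun e => hact (le_centralizer_iff.mp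
    (Coprime.commutator_eq_bot_iff_le_centralizer'.mp (by rw [commutator_comm, ← hU, e])))
  have hC1 : C ≠ ⊥ := by
    rw [hC, ← centralizer_zpowers]
    exact fixed_ne_bot ((Hyperplane.isPGroup f.elemV).to_le hUinv.le)
      (Hyperplane.zpowers_isPGroup hR (fam.mem i)) (zpowers_le.mpr (hUinv.normR (fam.mem i))) hU1
  refine ⟨U, W', C, rfl, rfl, rfl, hUinv, hW'inv, hCinv, hsup, hdisj, hcard, hfree, hC1, ?_⟩
  obtain ⟨d, hd, hnc⟩ := fam.exists_moved i
  have hdU := hUinv.normD i hi hd
  have hdC : MulAut.conj d • C ≤ U :=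
    (pointwise_smul_le_pointwise_smul_iff.mpr inf_le_left).trans
      (Coprime.conj_smul_eq_self_iff.mpr hdU).le
  have hmeet : C ⊓ MulAut.conj d • C = ⊥ := by
    rw [eq_bot_iff]
    rintro _ ⟨hv, u, hu, rfl⟩
    have h := fam.fixed_meet f hR hd hnc hfree hu.1 (mem_centralizer_singleton_iff.mp hu.2).symm
      (mem_centralizer_singleton_iff.mp hv.2).symm
    simp [h]
  calc Nat.card C * Nat.card C = Nat.card ↥(C ⊔ MulAut.conj d • C) := by
        rw [Coprime.card_sup_of_disjoint ((hdC.trans hUinv.le).trans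
          (abelian_le_normalizer f.elemV (inf_le_left.trans hUinv.le))) (disjoint_iff.mpr hmeet),
          Coprime.card_conj_smul]
    _ ≤ Nat.card U := card_le_of_le (sup_le inf_le_left hdC)

/-- In the piece of `i` the fixed points of `x i` and their translate fill everything once the
orders agree. -/
lemma piece_span {i : Fin n} {U : Subgroup G} (hU : U ≤ V) (hDU : D i ≤ normalizer (U : Set G))
    (hfree : U ⊓ centralizer (D i : Set G) = ⊥) {d : G} (hd : d ∈ D i) (hnc : ¬ Commute (x i) d)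
    (hcard : Nat.card ↥(U ⊓ centralizer {x i}) * Nat.card ↥(U ⊓ centralizer {x i}) = Nat.card U) :
    U = (U ⊓ centralizer {x i}) ⊔ MulAut.conj d • (U ⊓ centralizer {x i}) := by
  set C := U ⊓ centralizer {x i}
  have hdC : MulAut.conj d • C ≤ U :=
    (pointwise_smul_le_pointwise_smul_iff.mpr inf_le_left).trans
      (Coprime.conj_smul_eq_self_iff.mpr (hDU hd)).le
  have hmeet : C ⊓ MulAut.conj d • C = ⊥ := by
    rw [eq_bot_iff]
    rintro _ ⟨hv, u, hu, rfl⟩
    have h := fam.fixed_meet f hR hd hnc hfree hu.1 (mem_centralizer_singleton_iff.mp hu.2).symm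
      (mem_centralizer_singleton_iff.mp hv.2).symm
    simp [h]
  refine (eq_of_le_of_card_ge (sup_le inf_le_left hdC) ?_).symm
  rw [Coprime.card_sup_of_disjoint ((hdC.trans hU).trans
    (abelian_le_normalizer f.elemV (inf_le_left.trans hU))) (disjoint_iff.mpr hmeet),
    Coprime.card_conj_smul, hcard]

end Family

end Cfsg.Agent.SolvableSignalizer.Linear
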