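import Cfsg.Agent.Lib.SolvableSignalizer.Linear.Blocks

/-!
An elementary abelian group of operators in `T` fixes less of `V` than an offender would: the
square of the index of its fixed points exceeds the cube of its order.
-/

set_option autoImplicit false
set_option linter.style.haveILetI false
set_option linter.unusedSectionVars false

namespace Cfsg.Agent.SolvableSignalizer.Linear

open Subgroup
open Cfsg.Agent.Components
open scoped commutatorElement Pointwise

variable {p : ℕ} [hp : Fact p.Prime] {G : Type*} [Group G] [Finite G] {r : ℕ}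
  {V F T A R : Subgroup G} {n : ℕ} {x : Fin n → G} {D : Fin n → Subgroup G}

lemma centralizer_eq_fixS (hgen : R = closure (Set.range x)) :
    centralizer (R : Set G) = fixS x Finset.univ := by
  rw [hgen, centralizer_closure]
  simp [fixS]

namespace Family

variable (f : Frame r p V F T A) (fam : Family F R x D) (hR : Cfsg.IsElementaryAbelian p R)
  (hRT : R ≤ T)
include f fam hR hRT

/-- Each member active on `W` costs a factor `p`. -/
theorem weak_bound : ∀ (S : Finset (Fin n)) (W : Subgroup G), Inv V R D S W →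
    (∀ j ∈ S, ¬ D j ≤ centralizer (W : Set G)) →
    p ^ S.card * Nat.card ↥(W ⊓ fixS x S) ≤ Nat.card W := by
  intro S
  induction S using Finset.strongInduction with
  | H S ih =>
  intro W hW hact
  rcases S.eq_empty_or_nonempty with rfl | ⟨i, hi⟩
  · simpa using card_le_of_le (inf_le_left : W ⊓ fixS x ∅ ≤ W)
  obtain ⟨U, W', C, hUeq, hW'eq, hCeq, hU, hW', hC, hsup, hdisj, hcard, hfree, hC1, hCC⟩ :=
    fam.piece f hR hRT hi hW (hact i hi)
  classical
  set J := (S.erase i).filter fun j => ¬ D j ≤ centralizer (U : Set G) with hJ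
  set S' := (S.erase i).filter fun j => D j ≤ centralizer (U : Set G) with hS'
  have hJS : J ⊂ S := lt_of_le_of_lt (Finset.filter_subset _ _) (Finset.erase_ssubset hi)
  have hS'S : S' ⊂ S := lt_of_le_of_lt (Finset.filter_subset _ _) (Finset.erase_ssubset hi)
  have hcardS : S.card = J.card + S'.card + 1 := by
    have h1 : S'.card + J.card = (S.erase i).card := Finset.card_filter_add_card_filter_not _
    have h2 := Finset.card_erase_add_one hi
    omega
  have h' := ih S' hS'S W' ⟨hW'.le, hW'.normR, fun j hj =>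
    hW'.normD j (hS'S.1 hj)⟩ fun j hj h => hact j (hS'S.1 hj) (by
      rw [← hsup, le_centralizer_iff]
      exact sup_le (le_centralizer_iff.mp (Finset.mem_filter.mp hj).2) (le_centralizer_iff.mp h))
  have hCp : p ≤ Nat.card C := by
    obtain ⟨k, hk⟩ := ((Hyperplane.isPGroup f.elemV).to_le hC.le).exists_card_eq
    rcases k with _ | k
    · exact absurd (eq_bot_of_card_eq C (by simpa using hk)) hC1
    · rw [hk]; exact Nat.le_self_pow k.succ_ne_zero p
  have hJact : ∀ j ∈ J, ¬ D j ≤ centralizer (C : Set G) := by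
    intro j hj h
    have hji := (Finset.mem_erase.mp (Finset.mem_filter.mp hj).1).1
    have hjS := hJS.1 hj
    have hDjU := hU.normD j hjS
    set Y := ⁅U, D j⁆ with hY
    have hY1 : Y ≠ ⊥ := fun e => (Finset.mem_filter.mp hj).2
      (le_centralizer_iff.mp (le_centralizer_iff.mp
        (Coprime.commutator_eq_bot_iff_le_centralizer'.mp e)))
    have hYU : Y ≤ U := Coprime.commutator_le_of_le_normalizer hDjU
    have hfix : Y ⊓ centralizer {x i} ≠ ⊥ := by
      rw [← centralizer_zpowers]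
      exact fixed_ne_bot ((Hyperplane.isPGroup f.elemV).to_le (hYU.trans hU.le))
        (Hyperplane.zpowers_isPGroup hR (fam.mem i))
        (zpowers_le.mpr (le_normalizer_commutator' (hU.normR (fam.mem i)) (fam.norm j (fam.mem i)))) hY1
    refine hfix (le_bot_iff.mp ?_)
    rw [← (split (elem_le f.elemV hU.le) (f.not_dvd (fam.le j)) hDjU).2.1]
    refine le_inf inf_le_left (le_inf (inf_le_left.trans hYU) ?_)
    have h1 : Y ⊓ centralizer {x i} ≤ C := hCeq ▸ inf_le_inf_right _ hYU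
    exact h1.trans (le_centralizer_iff.mp h)
  have hJb := ih J hJS C ⟨hC.le, hC.normR, fun j hj => hC.normD j (Finset.mem_filter.mp hj).1⟩ hJact
  have hUfix : U ⊓ fixS x S ≤ C ⊓ fixS x J := by
    rintro v ⟨hv, hfx⟩
    exact ⟨hCeq ▸ ⟨hv, mem_centralizer_singleton_iff.mpr (mem_fixS.mp hfx i hi).eq.symm⟩,
      fixS_anti hJS.1 hfx⟩
  have hUb : p ^ (J.card + 1) * Nat.card ↥(U ⊓ fixS x S) ≤ Nat.card U := by
    calc p ^ (J.card + 1) * Nat.card ↥(U ⊓ fixS x S)
        ≤ p * (p ^ J.card * Nat.card ↥(C ⊓ fixS x J)) := by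
          rw [pow_succ, mul_comm _ p, mul_assoc]
          exact Nat.mul_le_mul_left _ (Nat.mul_le_mul_left _ (card_le_of_le hUfix))
      _ ≤ Nat.card C * Nat.card C := Nat.mul_le_mul hCp hJb
      _ ≤ _ := hCC
  have hW'b : p ^ S'.card * Nat.card ↥(W' ⊓ fixS x S) ≤ Nat.card W' :=
    (Nat.mul_le_mul_left _ (card_le_of_le (inf_le_inf_left _ (fixS_anti hS'S.1)))).trans h'
  have hfixW : Nat.card ↥(W ⊓ fixS x S) =
      Nat.card ↥(U ⊓ fixS x S) * Nat.card ↥(W' ⊓ fixS x S) := by
    conv_lhs => rw [← hsup]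
    exact fixed_split f.elemV hU.le hW'.le hdisj (fun j _ => hU.normR (fam.mem j))
      fun j _ => hW'.normR (fam.mem j)
  calc p ^ S.card * Nat.card ↥(W ⊓ fixS x S)
      = (p ^ (J.card + 1) * Nat.card ↥(U ⊓ fixS x S)) *
        (p ^ S'.card * Nat.card ↥(W' ⊓ fixS x S)) := by rw [hfixW, hcardS]; ring
    _ ≤ Nat.card U * Nat.card W' := Nat.mul_le_mul hUb hW'b
    _ = Nat.card W := hcard

/-- The rigid pieces: two members, four dimensions, one line of fixed points. -/
lemma pair_rigid {i j : Fin n} {C : Subgroup G} (_hji : j ≠ i) (hC : C ≤ V)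
    (hcard : Nat.card C = p ^ 2) (hnR : R ≤ normalizer (C : Set G))
    (hnD : D j ≤ normalizer (C : Set G)) (hact : ¬ D j ≤ centralizer (C : Set G)) {Y : Subgroup G}
    (hY : Y ≤ C) (hY1 : Y ≠ ⊥) (hxY : x j ∈ normalizer (Y : Set G))
    (hDY : D j ≤ normalizer (Y : Set G)) : Y = C := by
  have hx : x j ∈ R := fam.mem j
  have hpz : IsPGroup p (zpowers (x j)) := Hyperplane.zpowers_isPGroup hR hx
  have line : ∀ L : Subgroup G, L ≤ C → Nat.card L = p → x j ∈ normalizer (L : Set G) →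
      D j ≤ normalizer (L : Set G) → D j ≤ centralizer (L : Set G) := by
    intro L hL hLc hxL hDL
    refine fam.le_centralizer_of_x f hR ?_ hxL hDL
    have hLne : L ≠ ⊥ := fun e => by
      rw [e, card_bot] at hLc
      exact hp.out.ne_one hLc.symm
    have h1 := fixed_ne_bot ((Hyperplane.isPGroup f.elemV).to_le (hL.trans hC)) hpz
      (zpowers_le.mpr hxL) hLne
    have h2 : L ⊓ centralizer (zpowers (x j) : Set G) = L := by
      refine eq_of_le_of_card_ge inf_le_left ?_
      have hd := card_dvd_of_le (inf_le_left : L ⊓ centralizer (zpowers (x j) : Set G) ≤ L)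
      rw [hLc] at hd ⊢
      rcases (Nat.dvd_prime hp.out).mp hd with e | e
      · exact absurd (eq_bot_of_card_eq _ e) h1
      · exact e.ge
    rw [centralizer_zpowers] at h2
    exact mem_centralizer_iff.mpr fun v hv => mem_centralizer_singleton_iff.mp (h2.ge hv).2
  have hYp : Nat.card Y = p ∨ Y = C := by
    have hd := card_dvd_of_le hY
    rw [hcard] at hd
    obtain ⟨k, hk, e⟩ := (Nat.dvd_prime_pow hp.out).mp hd
    interval_cases k
    · exact absurd (eq_bot_of_card_eq Y e) hY1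
    · exact Or.inl (by simpa using e)
    · exact Or.inr (eq_of_le_of_card_ge hY (by rw [e, hcard]))
  rcases hYp with hYc | h
  swap
  · exact h
  exfalso
  have hYfix := line Y hY hYc hxY hDY
  obtain ⟨hs, hd, hprod⟩ := split (elem_le f.elemV hC) (f.not_dvd (fam.le j)) hnD
  have hle : Y ≤ C ⊓ centralizer (D j : Set G) := le_inf hY (le_centralizer_iff.mp hYfix)
  have hC2 : Nat.card (⁅C, D j⁆ : Subgroup G) ∣ p := by
    have h1 : Nat.card (⁅C, D j⁆ : Subgroup G) * Nat.card Y ∣ Nat.card C :=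
      hprod ▸ Nat.mul_dvd_mul_left _ (card_dvd_of_le hle)
    rw [hYc, hcard, pow_two] at h1
    exact Nat.dvd_of_mul_dvd_mul_right hp.out.pos h1
  rcases (Nat.dvd_prime hp.out).mp hC2 with e | e
  · exact hact (le_centralizer_iff.mp (le_centralizer_iff.mp
      (Coprime.commutator_eq_bot_iff_le_centralizer'.mp (eq_bot_of_card_eq _ e))))
  · have hle' : ⁅C, D j⁆ ≤ C := Coprime.commutator_le_of_le_normalizer hnD
    have h := line _ hle' e (le_normalizer_commutator' (hnR hx) (fam.norm j hx))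
      (fun d hd => le_normalizer_commutator' (hnD hd) (le_normalizer hd))
    have h1 : ⁅C, D j⁆ = ⊥ := le_bot_iff.mp (hd ▸ le_inf le_rfl (le_inf hle' (le_centralizer_iff.mp h)))
    rw [h1, card_bot] at e
    exact hp.out.ne_one e.symm

/-- The step: either the index is large or the piece is rigid. -/
theorem step {i : Fin n} {S : Finset (Fin n)} (hi : i ∈ S) {W : Subgroup G} (hW : Inv V R D S W)
    (hwhole : ∀ j ∈ S, ⁅V, D j⁆ ≤ W) :
    ∃ (U W' : Subgroup G) (S' : Finset (Fin n)), Inv V R D S U ∧ Inv V R D S W' ∧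
      W' = W ⊓ centralizer (D i : Set G) ∧ U ⊔ W' = W ∧
      U ⊓ W' = ⊥ ∧ Nat.card U * Nat.card W' = Nat.card W ∧ S' ⊆ S.erase i ∧
      (∀ j ∈ S', ⁅V, D j⁆ ≤ W') ∧
      (∃ k, S.card = S'.card + k + 1 ∧
        p ^ (3 * (k + 1)) * Nat.card ↥(U ⊓ fixS x S) ^ 2 ≤ Nat.card U ^ 2 ∧
        (p ^ (3 * (k + 1)) * Nat.card ↥(U ⊓ fixS x S) ^ 2 = Nat.card U ^ 2 →
          mv U (x i) = U ⊓ centralizer {x i} ∧ Nat.card (mv U (x i)) = p ^ 2 ∧
          (∀ z : G, z ∈ normalizer (U : Set G) → (∀ j ∈ S, ∀ d ∈ D j, Commute z d) →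
            (∀ v ∈ U ⊓ fixS x S, Commute z v) → z ∈ centralizer (U : Set G)))) := by
  obtain ⟨U, W', C, hUeq, hW'eq, hCeq, hU, hW', hC, hsup, hdisj, hcard, hfree, hC1, hCC⟩ :=
    fam.piece f hR hRT hi hW (fam.active f (hwhole i hi))
  classical
  set J := (S.erase i).filter fun j => ¬ D j ≤ centralizer (U : Set G) with hJ
  set S' := (S.erase i).filter fun j => D j ≤ centralizer (U : Set G) with hS'
  have hJS : J ⊆ S := (Finset.filter_subset _ _).trans (Finset.erase_subset _ _)
  have hcardS : S.card = S'.card + J.card + 1 := by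
    have h1 : S'.card + J.card = (S.erase i).card := Finset.card_filter_add_card_filter_not _
    have h2 := Finset.card_erase_add_one hi
    omega
  have hpres : ∀ j ∈ S, ⁅V, D j⁆ ≤ ⁅W, D j⁆ := by
    intro j hj
    have hDV := fam.d_norm f j
    refine le_trans (Coprime.commutator_commutator_eq hDV (coprime_card f.elemV (f.not_dvd (fam.le j)))
      (Or.inr (haveI := f.elemV.1; Coprime.isSolvable_of_isMulCommutative V))).ge
      (commutator_mono (hwhole j hj) le_rfl)
  have hwhole' : ∀ j ∈ S', ⁅V, D j⁆ ≤ W' := by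
    intro j hj
    obtain ⟨hjm, hjU⟩ := Finset.mem_filter.mp hj
    have hjS := Finset.mem_of_mem_erase hjm
    refine (hpres j hjS).trans ((Coprime.commutator_le_of_forall_eq_mul fun w hw => ?_).trans
      (Coprime.commutator_le_of_le_normalizer (hW'.normD j hjS)))
    obtain ⟨u, hu, v, hv, rfl⟩ := (Coprime.mem_sup_of_le_normalizer
      (hW'.le.trans (abelian_le_normalizer f.elemV hU.le))).mp (hsup.ge hw)
    exact ⟨v, hv, u, le_centralizer_iff.mp hjU hu, Hyperplane.mem_comm f.elemV (hU.le hu) (hW'.le hv)⟩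
  obtain ⟨d, hd, hnc⟩ := fam.exists_moved i
  have hUW : U ≤ W := le_sup_left.trans_eq hsup
  obtain ⟨a, ha⟩ := ((Hyperplane.isPGroup f.elemV).to_le hC.le).exists_card_eq
  obtain ⟨b, hb⟩ := ((Hyperplane.isPGroup f.elemV).to_le hU.le).exists_card_eq
  have hab : 2 * a ≤ b := by
    have := hCC
    rw [ha, hb, ← pow_add, Nat.pow_le_pow_iff_right hp.out.one_lt] at this
    omega
  have ha1 : 1 ≤ a := by
    rcases a with _ | a
    · exact absurd (eq_bot_of_card_eq C (by simpa using ha)) hC1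
    · omega
  have hJact : ∀ j ∈ J, ¬ D j ≤ centralizer (C : Set G) := by
    intro j hj h
    have hjS := hJS hj
    have hDjU := hU.normD j hjS
    set Y := ⁅U, D j⁆ with hY
    have hY1 : Y ≠ ⊥ := fun e => (Finset.mem_filter.mp hj).2
      (le_centralizer_iff.mp (le_centralizer_iff.mp
        (Coprime.commutator_eq_bot_iff_le_centralizer'.mp e)))
    have hYU : Y ≤ U := Coprime.commutator_le_of_le_normalizer hDjU
    have hfix : Y ⊓ centralizer {x i} ≠ ⊥ := by
      rw [← centralizer_zpowers]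
      exact fixed_ne_bot ((Hyperplane.isPGroup f.elemV).to_le (hYU.trans hU.le))
        (Hyperplane.zpowers_isPGroup hR (fam.mem i))
        (zpowers_le.mpr (le_normalizer_commutator' (hU.normR (fam.mem i)) (fam.norm j (fam.mem i)))) hY1
    refine hfix (le_bot_iff.mp ?_)
    rw [← (split (elem_le f.elemV hU.le) (f.not_dvd (fam.le j)) hDjU).2.1]
    refine le_inf inf_le_left (le_inf (inf_le_left.trans hYU) ?_)
    have h1 : Y ⊓ centralizer {x i} ≤ C := hCeq ▸ inf_le_inf_right _ hYU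
    exact h1.trans (le_centralizer_iff.mp h)
  have hJb := fam.weak_bound f hR hRT J C
    ⟨hC.le, hC.normR, fun j hj => hC.normD j (Finset.mem_filter.mp hj).1⟩ hJact
  obtain ⟨c, hc⟩ := ((Hyperplane.isPGroup f.elemV).to_le
    ((inf_le_left : U ⊓ fixS x S ≤ U).trans hU.le)).exists_card_eq
  obtain ⟨c', hc'⟩ := ((Hyperplane.isPGroup f.elemV).to_le
    ((inf_le_left : C ⊓ fixS x J ≤ C).trans hC.le)).exists_card_eq
  have hcc' : c ≤ c' := by
    have h1 : U ⊓ fixS x S ≤ C ⊓ fixS x J := by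
      rintro v ⟨hv, hfx⟩
      exact ⟨hCeq ▸ ⟨hv, mem_centralizer_singleton_iff.mpr (mem_fixS.mp hfx i hi).eq.symm⟩,
        fixS_anti hJS hfx⟩
    have := card_le_of_le h1
    rwa [hc, hc', Nat.pow_le_pow_iff_right hp.out.one_lt] at this
  have hJa : J.card + c' ≤ a := by
    rwa [hc', ha, ← pow_add, Nat.pow_le_pow_iff_right hp.out.one_lt] at hJb
  have hc'1 : 1 ≤ c' := by
    rcases c' with _ | k
    · exfalso
      have hRJ : closure (x '' (J : Set (Fin n))) ≤ R :=
        (closure_le _).mpr (by rintro _ ⟨j, -, rfl⟩; exact fam.mem j)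
      have h1 := fixed_ne_bot ((Hyperplane.isPGroup f.elemV).to_le hC.le)
        ((Hyperplane.isPGroup hR).to_le hRJ) (hRJ.trans hC.normR) hC1
      rw [centralizer_closure] at h1
      exact h1 (eq_bot_of_card_eq _ (by simpa [fixS] using hc'))
    · omega
  have hplane : J.card = 0 → b ≠ 2 := by
    intro hJ0 hb2
    have hJe : J = ∅ := Finset.card_eq_zero.mp hJ0
    have hUV : ⁅V, D i⁆ = U := hUeq ▸
      le_antisymm (hpres i hi) (commutator_mono hW.le le_rfl)
    have h := f.no_small_plane (hRT (fam.mem i)) (fam.le i) (fam.norm i (fam.mem i))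
      (by rw [hUV, hb, hb2])
    exact fam.moved i h
  refine ⟨U, W', S', hU, hW', hW'eq, hsup, hdisj, hcard, Finset.filter_subset _ _, hwhole', J.card,
    hcardS, ?_, ?_⟩
  · rw [hc, hb, ← pow_mul, ← pow_add, ← pow_mul, Nat.pow_le_pow_iff_right hp.out.one_lt]
    have hz : J.card = 0 → b ≠ 2 := hplane
    omega
  · intro he
    rw [hc, hb, ← pow_mul, ← pow_add, ← pow_mul] at he
    have he' := Nat.pow_right_injective hp.out.two_le he
    have hk1 : J.card = 1 ∧ a = 2 ∧ b = 4 ∧ c' = 1 ∧ c = 1 := by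
      have hz : J.card = 0 → b ≠ 2 := hplane
      omega
    obtain ⟨hk, rfl, rfl, -, hc1⟩ := hk1
    obtain ⟨j, hj⟩ := Finset.card_eq_one.mp hk
    have hjJ : j ∈ J := by rw [hj]; exact Finset.mem_singleton_self j
    obtain ⟨hjm, -⟩ := Finset.mem_filter.mp hjJ
    have hji := Finset.ne_of_mem_erase hjm
    have hjS := Finset.mem_of_mem_erase hjm
    have hnDC := hC.normD j hjm
    have hirr : ∀ Y : Subgroup G, Y ≤ C → Y ≠ ⊥ → x j ∈ normalizer (Y : Set G) →
        D j ≤ normalizer (Y : Set G) → Y = C := fun Y h1 h2 h3 h4 =>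
      fam.pair_rigid f hR hRT hji hC.le ha hC.normR hnDC (hJact j hjJ) h1 h2 h3 h4
    have hCcard : Nat.card ↥(U ⊓ centralizer {x i}) * Nat.card ↥(U ⊓ centralizer {x i}) =
        Nat.card U := by
      rw [← hCeq, ha, hb, ← pow_add]
    have hUspan : U = C ⊔ MulAut.conj d • C :=
      hCeq ▸ fam.piece_span f hR hRT hU.le (hU.normD i hi) hfree hd hnc hCcard
    have hxU := hU.normR (fam.mem i)
    have hUe := elem_le f.elemV hU.le
    have hmvle : mv U (x i) ≤ U := mv_le_self hxU
    have hmvc : Nat.card (mv U (x i)) = p ^ 2 := by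
      have h1 := card_mv hUe hxU
      rw [← hCeq, ha, hb, show p ^ 4 = p ^ 2 * p ^ 2 by ring] at h1
      exact Nat.eq_of_mul_eq_mul_right (pow_pos hp.out.pos 2) h1
    have hmvC : mv U (x i) = C := by
      set Y := mv U (x i) ⊓ C
      have hnormI : ∀ k : G, k ∈ normalizer (U : Set G) → Commute k (x i) →
          k ∈ normalizer ((mv U (x i) : Subgroup G) : Set G) := fun k hk hkx => by
        rw [← commutator_zpowers_eq hxU]
        exact le_normalizer_commutator' hk (le_normalizer_of_comm hkx.eq)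
      have hY1 : Y ≠ ⊥ := by
        intro e
        have h1 : mv U (x i) ⊓ centralizer (zpowers (x i) : Set G) ≠ ⊥ :=
          fixed_ne_bot ((Hyperplane.isPGroup f.elemV).to_le (hmvle.trans hU.le))
            (Hyperplane.zpowers_isPGroup hR (fam.mem i))
            (zpowers_le.mpr (hnormI _ hxU (Commute.refl _))) (fun e' => by
              rw [e', card_bot] at hmvc
              exact absurd hmvc.symm (Nat.one_lt_pow two_ne_zero hp.out.one_lt).ne')
        refine h1 (le_bot_iff.mp (e ▸ le_inf inf_le_left (hCeq ▸ le_inf (inf_le_left.trans hmvle) ?_)))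
        exact inf_le_right.trans_eq (centralizer_zpowers _)
      have hYC := hirr Y inf_le_right hY1
        (inf_normalizer_le_normalizer_inf ⟨hnormI _ (hU.normR (fam.mem j))
          (fam.comm_x hR j i), hC.normR (fam.mem j)⟩)
        (fun e he => inf_normalizer_le_normalizer_inf ⟨hnormI _ (hU.normD j hjS he)
          (fam.d_fix hji he).symm, hnDC he⟩)
      exact (eq_of_le_of_card_ge (hYC ▸ inf_le_left) (by rw [hmvc, ha])).symm
    refine ⟨hmvC.trans hCeq, hmvc, fun z hzU hzD hzfix => ?_⟩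
    set Y := U ⊓ centralizer {z}
    have hYn : ∀ l ∈ S, D l ≤ normalizer (Y : Set G) := fun l hl e he =>
      mem_norm_inf_cent (hU.normD l hl he) (hzD l hl e he).symm
    have hne : (U ⊓ fixS x S : Subgroup G) ≠ ⊥ := fun e => by
      rw [e, card_bot, hc1, pow_one] at hc
      exact hp.out.ne_one hc.symm
    obtain ⟨v, hv, hv1⟩ : ∃ v ∈ U ⊓ fixS x S, v ≠ 1 := by
      by_contra h
      push Not at h
      exact hne ((eq_bot_iff_forall _).mpr h)
    have hvC : v ∈ C := hCeq ▸ ⟨hv.1, mem_centralizer_singleton_iff.mpr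
      (mem_fixS.mp hv.2 i hi).eq.symm⟩
    have hCmem : C ≤ Y := by
      refine le_inf (hCeq ▸ inf_le_left) ?_
      let P : Subgroup G → Prop := fun X => v ∈ X ∧ D j ≤ normalizer (X : Set G) ∧ X ≤ C
      obtain ⟨X, -, hX⟩ := Finite.exists_le_minimal (a := C) (p := P) ⟨hvC, hnDC, le_rfl⟩
      have hXeq : X = C := by
        refine hirr X hX.prop.2.2 (fun e => hv1 (mem_bot.mp (e ▸ hX.prop.1))) ?_ hX.prop.2.1
        refine Coprime.conj_smul_eq_self_iff.mp ?_
        have hxv : Commute (x j) v := mem_fixS.mp hv.2 j hjS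
        have hP : P (MulAut.conj (x j) • X) := by
          refine ⟨⟨v, hX.prop.1, conj_eq_self hxv⟩, fun e he => ?_,
            (pointwise_smul_le_pointwise_smul_iff.mpr hX.prop.2.2).trans
              (Coprime.conj_smul_eq_self_iff.mpr (hC.normR (fam.mem j))).le⟩
          refine Coprime.conj_smul_eq_self_iff.mp ?_
          have he' : (x j)⁻¹ * e * x j ∈ D j := conj_mem_of_normalizer' (fam.norm j (fam.mem j)) he
          rw [smul_smul, ← map_mul, show e * x j = x j * ((x j)⁻¹ * e * x j) by group, map_mul,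
            ← smul_smul, Coprime.conj_smul_eq_self_iff.mpr (hX.prop.2.1 he')]
        have hboth : P (MulAut.conj (x j) • X ⊓ X) := ⟨⟨hP.1, hX.prop.1⟩,
          fun e he => inf_normalizer_le_normalizer_inf ⟨hP.2.1 he, hX.prop.2.1 he⟩,
          inf_le_right.trans hX.prop.2.2⟩
        have hle := hX.le_of_le hboth inf_le_right
        exact (eq_of_le_of_card_ge (hle.trans inf_le_left) (by rw [Coprime.card_conj_smul])).symm
      have hPY : P (C ⊓ centralizer {z}) := ⟨⟨hvC, mem_centralizer_singleton_iff.mpr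
          (hzfix v hv).eq.symm⟩,
        fun e he => mem_norm_inf_cent (hnDC he) (hzD j hjS e he).symm, inf_le_left⟩
      rw [← hXeq]
      have hinter : P (X ⊓ (C ⊓ centralizer {z})) := ⟨⟨hX.prop.1, hPY.1⟩,
        fun e he => inf_normalizer_le_normalizer_inf ⟨hX.prop.2.1 he, hPY.2.1 he⟩,
        inf_le_left.trans hX.prop.2.2⟩
      exact (hX.le_of_le hinter inf_le_left).trans (inf_le_right.trans inf_le_right)
    have hUY : U ≤ Y := by
      rw [hUspan]
      refine sup_le hCmem ((pointwise_smul_le_pointwise_smul_iff.mpr hCmem).trans ?_)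
      exact (Coprime.conj_smul_eq_self_iff.mpr (hYn i hi hd)).le
    exact mem_centralizer_iff.mpr fun u hu => mem_centralizer_singleton_iff.mp (hUY hu).2

/-- The main induction. -/
theorem main_bound : ∀ (S : Finset (Fin n)) (W : Subgroup G), Inv V R D S W →
    (∀ j ∈ S, ⁅V, D j⁆ ≤ W) →
    p ^ (3 * S.card) * Nat.card ↥(W ⊓ fixS x S) ^ 2 ≤ Nat.card W ^ 2 ∧
    (p ^ (3 * S.card) * Nat.card ↥(W ⊓ fixS x S) ^ 2 = Nat.card W ^ 2 →
      ∀ z : G, z ∈ normalizer (W : Set G) → (∀ j ∈ S, ∀ d ∈ D j, Commute z d) →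
        (∀ v ∈ W ⊓ fixS x S, Commute z v) → z ∈ centralizer (W : Set G)) := by
  intro S
  induction S using Finset.strongInduction with
  | H S ih =>
  intro W hW hwhole
  rcases S.eq_empty_or_nonempty with rfl | ⟨i, hi⟩
  · have h : fixS x (∅ : Finset (Fin n)) = ⊤ := by
      ext v; simp [mem_fixS]
    simp only [h, inf_top_eq, Finset.card_empty, mul_zero, pow_zero, one_mul]
    exact ⟨le_rfl, fun _ z _ _ hz => mem_centralizer_iff.mpr fun v hv => (hz v hv).eq.symm⟩
  obtain ⟨U, W', S', hU, hW', hW'eq, hsup, hdisj, hcard, hS'e, hwhole', k, hk, hUb, hUeq⟩ :=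
    fam.step f hR hRT hi hW hwhole
  have hS'S : S' ⊂ S := lt_of_le_of_lt hS'e (Finset.erase_ssubset hi)
  obtain ⟨h'b, h'eq⟩ := ih S' hS'S W' ⟨hW'.le, hW'.normR, fun j hj => hW'.normD j (hS'S.1 hj)⟩ hwhole'
  have hfixW : Nat.card ↥(W ⊓ fixS x S) =
      Nat.card ↥(U ⊓ fixS x S) * Nat.card ↥(W' ⊓ fixS x S) := by
    conv_lhs => rw [← hsup]
    exact fixed_split f.elemV hU.le hW'.le hdisj (fun j _ => hU.normR (fam.mem j))
      fun j _ => hW'.normR (fam.mem j)
  have hmono : Nat.card ↥(W' ⊓ fixS x S) ≤ Nat.card ↥(W' ⊓ fixS x S') :=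
    card_le_of_le (inf_le_inf_left _ (fixS_anti hS'S.1))
  have he : p ^ (3 * S.card) * Nat.card ↥(W ⊓ fixS x S) ^ 2 =
      (p ^ (3 * (k + 1)) * Nat.card ↥(U ⊓ fixS x S) ^ 2) *
        (p ^ (3 * S'.card) * Nat.card ↥(W' ⊓ fixS x S) ^ 2) := by
    rw [hk, hfixW]; ring
  have hW'b : p ^ (3 * S'.card) * Nat.card ↥(W' ⊓ fixS x S) ^ 2 ≤ Nat.card W' ^ 2 :=
    (Nat.mul_le_mul_left _ (Nat.pow_le_pow_left hmono 2)).trans h'b
  refine ⟨?_, fun heq z hz hzD hzfix => ?_⟩
  · rw [he, ← hcard, mul_pow]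
    exact Nat.mul_le_mul hUb hW'b
  rw [he, ← hcard, mul_pow] at heq
  have hpos1 : 0 < Nat.card U ^ 2 := pow_pos Nat.card_pos 2
  have hpos2 : 0 < Nat.card W' ^ 2 := pow_pos Nat.card_pos 2
  have hUe : p ^ (3 * (k + 1)) * Nat.card ↥(U ⊓ fixS x S) ^ 2 = Nat.card U ^ 2 := by
    refine le_antisymm hUb ?_
    by_contra hlt
    exact (Nat.mul_lt_mul_of_lt_of_le (not_le.mp hlt) hW'b hpos2).ne heq
  have hW'e : p ^ (3 * S'.card) * Nat.card ↥(W' ⊓ fixS x S) ^ 2 = Nat.card W' ^ 2 :=
    Nat.eq_of_mul_eq_mul_left hpos1 (by rw [← hUe] at heq ⊢; exact heq)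
  have hsame : W' ⊓ fixS x S = W' ⊓ fixS x S' := by
    refine eq_of_le_of_card_ge (inf_le_inf_left _ (fixS_anti hS'S.1)) ?_
    have h1 : p ^ (3 * S'.card) * Nat.card ↥(W' ⊓ fixS x S') ^ 2 ≤
        p ^ (3 * S'.card) * Nat.card ↥(W' ⊓ fixS x S) ^ 2 := by rw [hW'e]; exact h'b
    exact (Nat.pow_le_pow_iff_left two_ne_zero).mp
      (Nat.le_of_mul_le_mul_left h1 (pow_pos hp.out.pos _))
  have hzW' : z ∈ normalizer (W' : Set G) := by
    rw [hW'eq]
    refine inf_normalizer_le_normalizer_inf ⟨hz, normalizer_le_centralizer' _ ?_⟩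
    exact centralizer_le_normalizer _ (mem_centralizer_iff.mpr fun d hd => (hzD i hi d hd).eq.symm)
  have h' := h'eq (by rw [← hsame]; exact hW'e) z hzW' (fun j hj => hzD j (hS'S.1 hj)) fun v hv =>
    hzfix v (by rw [← hsame] at hv; exact ⟨(le_sup_right.trans_eq hsup) hv.1, hv.2⟩)
  have hzU : z ∈ normalizer (U : Set G) := by
    have hUV : U = ⁅W, D i⁆ := by
      refine (eq_of_le_of_card_ge ?_ ?_).symm
      · rw [← hsup]
        refine (Coprime.commutator_le_of_forall_eq_mul fun w hw => ?_).trans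
          (Coprime.commutator_le_of_le_normalizer (hU.normD i hi))
        obtain ⟨u, hu, v, hv, rfl⟩ := (Coprime.mem_sup_of_le_normalizer
          (hW'.le.trans (abelian_le_normalizer f.elemV hU.le))).mp hw
        exact ⟨u, hu, v, (hW'eq ▸ hv : v ∈ W ⊓ _).2, rfl⟩
      · have h1 := (split (elem_le f.elemV hW.le) (f.not_dvd (fam.le i)) (hW.normD i hi)).2.2
        rw [← hW'eq, ← hcard] at h1
        exact (Nat.eq_of_mul_eq_mul_right Nat.card_pos h1).ge
    rw [hUV]
    exact le_normalizer_commutator' hz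
      (centralizer_le_normalizer _ (mem_centralizer_iff.mpr fun d hd => (hzD i hi d hd).eq.symm))
  have hzUc := (hUeq hUe).2.2 z hzU hzD fun v hv => hzfix v ⟨(le_sup_left.trans_eq hsup) hv.1, hv.2⟩
  rw [← hsup]
  have hle : U ⊔ W' ≤ centralizer {z} := sup_le
    (fun v hv => mem_centralizer_singleton_iff.mpr (mem_centralizer_iff.mp hzUc v hv))
    (fun v hv => mem_centralizer_singleton_iff.mpr (mem_centralizer_iff.mp h' v hv))
  exact mem_centralizer_iff.mpr fun v hv => mem_centralizer_singleton_iff.mp (hle hv)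

/-- The top of the induction is strict. -/
theorem strict (hn : 0 < n) :
    p ^ (3 * n) * Nat.card ↥(V ⊓ fixS x Finset.univ) ^ 2 < Nat.card V ^ 2 := by
  have hV : Inv V R D Finset.univ V := ⟨le_rfl, hRT.trans f.normT, fun i _ => fam.d_norm f i⟩
  have hwhole : ∀ j ∈ (Finset.univ : Finset (Fin n)), ⁅V, D j⁆ ≤ V := fun j _ =>
    Coprime.commutator_le_of_le_normalizer (fam.d_norm f j)
  obtain ⟨hb, -⟩ := fam.main_bound f hR hRT _ V hV hwhole
  rw [Finset.card_univ, Fintype.card_fin] at hb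
  refine lt_of_le_of_ne hb fun heq => ?_
  set S : Finset (Fin n) := Finset.univ
  set i : Fin n := ⟨0, hn⟩
  obtain ⟨U, W', S', hU, hW', hW'eq, hsup, hdisj, hcard, hS'e, hwhole', k, hk, hUb, hUeq⟩ :=
    fam.step f hR hRT (Finset.mem_univ i) hV hwhole
  obtain ⟨h'b, h'eq⟩ := fam.main_bound f hR hRT S' W'
    ⟨hW'.le, hW'.normR, fun j _ => hW'.normD j (Finset.mem_univ j)⟩ hwhole'
  have hfixW : Nat.card ↥(V ⊓ fixS x S) =
      Nat.card ↥(U ⊓ fixS x S) * Nat.card ↥(W' ⊓ fixS x S) := by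
    conv_lhs => rw [← hsup]
    exact fixed_split f.elemV hU.le hW'.le hdisj (fun j _ => hU.normR (fam.mem j))
      fun j _ => hW'.normR (fam.mem j)
  have hmono : Nat.card ↥(W' ⊓ fixS x S) ≤ Nat.card ↥(W' ⊓ fixS x S') :=
    card_le_of_le (inf_le_inf_left _ (fixS_anti (Finset.subset_univ _)))
  have hn' : n = S'.card + k + 1 := by
    rw [← hk, Finset.card_univ, Fintype.card_fin]
  rw [hfixW, show p ^ (3 * n) = p ^ (3 * (k + 1)) * p ^ (3 * S'.card) by rw [← pow_add]; congr 1; omega,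
    ← hcard, mul_pow (Nat.card U)] at heq
  have hW'b : p ^ (3 * S'.card) * Nat.card ↥(W' ⊓ fixS x S) ^ 2 ≤ Nat.card W' ^ 2 :=
    (Nat.mul_le_mul_left _ (Nat.pow_le_pow_left hmono 2)).trans h'b
  have heq' : (p ^ (3 * (k + 1)) * Nat.card ↥(U ⊓ fixS x S) ^ 2) *
        (p ^ (3 * S'.card) * Nat.card ↥(W' ⊓ fixS x S) ^ 2) = Nat.card U ^ 2 * Nat.card W' ^ 2 := by
    rw [← heq]; ring
  have hpos1 : 0 < Nat.card U ^ 2 := pow_pos Nat.card_pos 2
  have hpos2 : 0 < Nat.card W' ^ 2 := pow_pos Nat.card_pos 2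
  have hUe : p ^ (3 * (k + 1)) * Nat.card ↥(U ⊓ fixS x S) ^ 2 = Nat.card U ^ 2 := by
    refine le_antisymm hUb ?_
    by_contra hlt
    exact (Nat.mul_lt_mul_of_lt_of_le (not_le.mp hlt) hW'b hpos2).ne heq'
  have hW'e : p ^ (3 * S'.card) * Nat.card ↥(W' ⊓ fixS x S) ^ 2 = Nat.card W' ^ 2 :=
    Nat.eq_of_mul_eq_mul_left hpos1 (by rw [← hUe] at heq' ⊢; exact heq')
  have hsame : W' ⊓ fixS x S = W' ⊓ fixS x S' := by
    refine eq_of_le_of_card_ge (inf_le_inf_left _ (fixS_anti (Finset.subset_univ _))) ?_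
    have h1 : p ^ (3 * S'.card) * Nat.card ↥(W' ⊓ fixS x S') ^ 2 ≤
        p ^ (3 * S'.card) * Nat.card ↥(W' ⊓ fixS x S) ^ 2 := by rw [hW'e]; exact h'b
    exact (Nat.pow_le_pow_iff_left two_ne_zero).mp
      (Nat.le_of_mul_le_mul_left h1 (pow_pos hp.out.pos _))
  -- `x i` only moves its piece
  have hxW' : x i ∈ centralizer (W' : Set G) := h'eq (by rw [← hsame]; exact hW'e) (x i)
    (hW'.normR (fam.mem i))
    (fun j hj d hd => fam.d_fix (Finset.ne_of_mem_erase (hS'e hj)) hd)
    fun v hv => by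
      rw [← hsame] at hv
      exact mem_fixS.mp hv.2 i (Finset.mem_univ i)
  obtain ⟨hmv, hmvc, -⟩ := hUeq hUe
  have hxV : x i ∈ normalizer (V : Set G) := fam.x_mem f hRT i
  have hmvV : mv V (x i) ≤ mv U (x i) := mv_le fun v hv => by
    obtain ⟨u, hu, w, hw, rfl⟩ := (Coprime.mem_sup_of_le_normalizer
      (hW'.le.trans (abelian_le_normalizer f.elemV hU.le))).mp (hsup.ge hv)
    have h1 : ⁅x i, u * w⁆ = ⁅x i, u⁆ * (u * ⁅x i, w⁆ * u⁻¹) := by
      simp only [commutatorElement_def]; group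
    rw [h1, commutatorElement_eq_one_iff_mul_comm.mpr (mem_centralizer_iff.mp hxW' w hw).symm,
      mul_one, mul_inv_cancel, mul_one]
    exact comm_mem_mv hu
  refine f.no_small (hRT (fam.mem i)) (fun e => fam.moved i (e ▸ one_mem _)) (fun v hv => ?_)
    ((card_le_of_le hmvV).trans hmvc.le)
  exact (mem_centralizer_singleton_iff.mp (hmv.le (hmvV (comm_mem_mv hv))).2).symm

end Family

/-- An elementary abelian subgroup of `T` is no offender, with room to spare. -/
theorem Frame.offender_bound (f : Frame r p V F T A) (hR : Cfsg.IsElementaryAbelian p R) (hRT : R ≤ T)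
    (hR1 : R ≠ ⊥) :
    Nat.card R ^ 3 * Nat.card ↥(V ⊓ centralizer (R : Set G)) ^ 2 < Nat.card V ^ 2 := by
  obtain ⟨n, x, D, fam, hgen, hcard⟩ := exists_family f.nilF f.primeF hR (hRT.trans f.TF)
    (le_bot_iff.mp (f.faithT ▸ inf_le_inf_right _ hRT))
  have hn : 0 < n := by
    by_contra h
    rw [Nat.eq_zero_of_not_pos h, pow_zero] at hcard
    exact hR1 (eq_bot_of_card_eq R hcard)
  have := fam.strict f hR hRT hn
  rw [hcard, centralizer_eq_fixS hgen, ← pow_mul, mul_comm n 3]
  exact this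

end Cfsg.Agent.SolvableSignalizer.Linear
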