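import Cfsg.Agent.Lib.SolvableSignalizer.Linear.Plane
import Cfsg.Agent.Lib.SolvableSignalizer.LocalCores

/-!
A minimal `A T`-invariant `q`-subgroup of `F` moved by an element `x` of `T`.
-/

set_option autoImplicit false
set_option linter.style.haveILetI false
set_option linter.unusedSectionVars false

namespace Cfsg.Agent.SolvableSignalizer.Linear

open Subgroup
open Cfsg.Agent.Components
open scoped commutatorElement Pointwise

variable {p : ℕ} [hp : Fact p.Prime] {G : Type*} [Group G] [Finite G]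

/-- `B` is minimal, `Z` is central in it and centralised by `x`. -/
structure Core (q : ℕ) (F T A B Z : Subgroup G) (x : G) : Prop where
  prime : q.Prime
  le : B ≤ F
  pgroup : IsPGroup q B
  normA : A ≤ normalizer (B : Set G)
  normT : T ≤ normalizer (B : Set G)
  moved : x ∉ centralizer (B : Set G)
  zle : Z ≤ B
  zcentral : Z ≤ centralizer (B : Set G)
  zA : A ≤ normalizer (Z : Set G)
  zfix : x ∈ centralizer (Z : Set G)
  comm : ∀ b ∈ B, ∀ c ∈ B, ⁅b, c⁆ ∈ Z
  pow : ∀ b ∈ B, b ^ q ∈ Z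
  small : ∀ U : Subgroup G, U ≤ B → U ≠ B → A ≤ normalizer (U : Set G) →
    T ≤ normalizer (U : Set G) → x ∈ centralizer (U : Set G)

variable {r : ℕ} {V F T A : Subgroup G}

namespace Frame

variable (f : Frame r p V F T A)
include f

/-- A quadratic element of `T` has order dividing `p`. -/
lemma pow_eq_one {x : G} (hx : x ∈ T) (hsq : Sq V x) : x ^ p = 1 := by
  have key : ∀ n : ℕ, ∀ v ∈ V, x ^ n * v * (x ^ n)⁻¹ = ⁅x, v⁆ ^ n * v := by
    intro n
    induction n with
    | zero => intro v _; simp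
    | succ n ih =>
      intro v hv
      have hc : x * ⁅x, v⁆ ^ n * x⁻¹ = ⁅x, v⁆ ^ n := conj_eq_self ((hsq v hv).pow_right n)
      calc x ^ (n + 1) * v * (x ^ (n + 1))⁻¹ = x * (x ^ n * v * (x ^ n)⁻¹) * x⁻¹ := by
            rw [pow_succ']; group
        _ = x * (⁅x, v⁆ ^ n * v) * x⁻¹ := by rw [ih v hv]
        _ = (x * ⁅x, v⁆ ^ n * x⁻¹) * (x * v * x⁻¹) := by group
        _ = ⁅x, v⁆ ^ (n + 1) * v := by rw [hc, conj_eq_comm_mul x v, pow_succ, mul_assoc]
  have hfix : x ^ p ∈ centralizer (V : Set G) := mem_centralizer_iff.mpr fun v hv => by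
    refine (mem_centralizer_conj.mp ?_).eq.symm
    rw [key p v hv, f.elemV.2 _ (comm_mem (f.normT hx) hv), one_mul]
  refine f.eq_one_of_fix (T.pow_mem hx p) fun z hz => ?_
  refine commutatorElement_eq_one_iff_mul_comm.mp (f.faith ?_ ?_)
  · rw [commutatorElement_def]
    exact F.mul_mem (conj_mem_of_normalizer (f.TF (T.pow_mem hx p)) hz) (F.inv_mem hz)
  · rw [commutatorElement_def]
    rw [mul_assoc _ z, mul_assoc]
    refine (centralizer (V : Set G)).mul_mem hfix ?_
    have hz' : z ∈ normalizer (V : Set G) := f.normF hz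
    refine mem_centralizer_iff.mpr fun v hv => ?_
    have h1 : z⁻¹ * v * z ∈ V := conj_mem_of_normalizer' hz' hv
    have h2 := mem_centralizer_iff.mp ((centralizer (V : Set G)).inv_mem hfix) _ h1
    calc v * (z * (x ^ p)⁻¹ * z⁻¹) = z * (z⁻¹ * v * z * (x ^ p)⁻¹) * z⁻¹ := by group
      _ = z * ((x ^ p)⁻¹ * (z⁻¹ * v * z)) * z⁻¹ := by rw [h2]
      _ = z * (x ^ p)⁻¹ * z⁻¹ * v := by group

omit [Finite G] in
lemma normalizer_map_char {B : Subgroup G} (C : Subgroup B) [C.Characteristic] {H : Subgroup G}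
    (h : H ≤ normalizer (B : Set G)) : H ≤ normalizer ((C.map B.subtype : Subgroup G) : Set G) :=
  h.trans (SolvableSignalizer.le_normalizer_map C)

theorem exists_core {x : G} (hx : x ∈ T) (hx1 : x ≠ 1) : ∃ q B Z, Core q F T A B Z x := by
  haveI := f.nilF
  -- some Sylow subgroup of `F` is moved
  obtain ⟨q, hq, B₀, hB₀⟩ : ∃ q, q.Prime ∧ ∃ B₀ : Subgroup G, B₀ ≤ F ∧ IsPGroup q B₀ ∧
      A ≤ normalizer (B₀ : Set G) ∧ T ≤ normalizer (B₀ : Set G) ∧
      x ∉ centralizer (B₀ : Set G) := by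
    by_contra hc
    push Not at hc
    apply hx1
    have hall : F ≤ centralizer {x} := by
      intro z hz
      have htop : (centralizer {x}).subgroupOf F = ⊤ := by
        refine eq_top_of_card_eq _ (Nat.dvd_antisymm (card_subgroup_dvd_card _) ?_)
        rw [Nat.dvd_iff_prime_pow_dvd_dvd]
        intro q k hq hdvd
        haveI := Fact.mk hq
        obtain ⟨P⟩ := (inferInstance : Nonempty (Sylow q F))
        haveI := Sylow.characteristic_of_normal P
          (P.normal_of_normalizerCondition Group.normalizerCondition_of_isNilpotent)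
        have h1 : x ∈ centralizer (((P : Subgroup F).map F.subtype : Subgroup G) : Set G) :=
          hc q hq _ (map_subtype_le _) (P.isPGroup'.map _) (normalizer_map_char f _ f.AF)
            (normalizer_map_char f _ f.TF)
        have hle : (P : Subgroup F) ≤ (centralizer {x}).subgroupOf F := fun y hy =>
          mem_subgroupOf.mpr (mem_centralizer_singleton_iff.mpr
            (mem_centralizer_iff.mp h1 y ⟨y, hy, rfl⟩))
        exact (P.pow_dvd_card_of_pow_dvd_card hdvd).trans (card_dvd_of_le hle)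
      exact subgroupOf_eq_top.mp htop hz
    exact f.eq_one_of_fix hx fun z hz => (mem_centralizer_singleton_iff.mp (hall hz)).symm
  haveI := Fact.mk hq
  -- minimal such
  obtain ⟨B, -, hBmin⟩ := Finite.exists_le_minimal (a := B₀)
    (p := fun U : Subgroup G => U ≤ F ∧ IsPGroup q U ∧
      A ≤ normalizer (U : Set G) ∧ T ≤ normalizer (U : Set G) ∧ x ∉ centralizer (U : Set G)) hB₀
  obtain ⟨hBF, hBq, hBA, hBT, hBx⟩ := hBmin.prop
  have hsmall : ∀ U : Subgroup G, U ≤ B → U ≠ B → A ≤ normalizer (U : Set G) →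
      T ≤ normalizer (U : Set G) → x ∈ centralizer (U : Set G) := fun U hU hne hUA hUT => by
    by_contra h
    exact hne (le_antisymm hU (hBmin.le_of_le ⟨hU.trans hBF, hBq.to_le hU, hUA, hUT, h⟩ hU))
  haveI : Group.IsNilpotent B := Group.nilpotent_of_mulEquiv (subgroupOfEquivOfLe hBF)
  set Z := (frattini B).map B.subtype with hZ
  have hZA : A ≤ normalizer (Z : Set G) := normalizer_map_char f _ hBA
  have hZT : T ≤ normalizer (Z : Set G) := normalizer_map_char f _ hBT
  have hZB : Z ≤ B := map_subtype_le _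
  have hZne : Z ≠ B := by
    intro e
    have hB1 : B ≠ ⊥ := fun e => hBx (by rw [e]; simp [mem_centralizer_iff])
    haveI := (nontrivial_iff_ne_bot B).mpr hB1
    have htop : frattini B = ⊤ := Subgroup.map_injective B.subtype_injective (by
      rw [← MonoidHom.range_eq_map, range_subtype]; exact e)
    obtain ⟨M, hM, -⟩ := (eq_top_or_exists_le_coatom (⊥ : Subgroup B)).resolve_left bot_ne_top
    exact hM.1 (top_le_iff.mp (htop ▸ frattini_le_coatom hM))
  have hZx : x ∈ centralizer (Z : Set G) := hsmall Z hZB hZne hZA hZT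
  have hpn : zpowers x ≤ normalizer (B : Set G) := zpowers_le.mpr (hBT hx)
  have hcen : Z ≤ centralizer (B : Set G) := by
    rw [le_centralizer_iff]
    by_contra hne
    have hU : B ⊓ centralizer (Z : Set G) ≠ B := fun e => hne (e ▸ inf_le_right)
    have hn : ∀ H : Subgroup G, H ≤ normalizer (B : Set G) → H ≤ normalizer (Z : Set G) →
        H ≤ normalizer ((B ⊓ centralizer (Z : Set G) : Subgroup G) : Set G) :=
      fun H h1 h2 g hg => le_normalizer_centralizer_inf (h1 hg) (h2 hg)
    have hUx := hsmall _ inf_le_left hU (hn A hBA hZA) (hn T hBT hZT)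
    have := centralizes_of_self_centralizing (R := zpowers x) (C := Z) (p := p) (F := B)
      inferInstance (fun h => f.primeF (h.trans (card_dvd_of_le hBF)))
      (f.pT.to_le (zpowers_le.mpr hx)) hpn hZB (zpowers_le.mpr hZx)
      (le_centralizer_iff.mp (zpowers_le.mpr hUx))
    exact hBx (this (mem_zpowers x))
  refine ⟨q, B, Z, hq, hBF, hBq, hBA, hBT, hBx, hZB, hcen, hZA, hZx, fun b hb c hc => ?_,
    fun b hb => ?_, hsmall⟩
  · exact ⟨⁅(⟨b, hb⟩ : B), ⟨c, hc⟩⁆,
      Coprime.commutator_le_frattini B (commutator_mem_commutator (mem_top _) (mem_top _)), rfl⟩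
  · exact ⟨(⟨b, hb⟩ : B) ^ q, Solvable.Basics.pow_mem_frattini hBq _, rfl⟩

end Frame

namespace Core

variable {q : ℕ} {B Z : Subgroup G} {x : G} (c : Core q F T A B Z x)
include c

lemma fix_conj {a : G} (ha : a ∈ A) {z : G} (hz : z ∈ Z) : Commute (a * x * a⁻¹) z := by
  have h := mem_centralizer_iff.mp c.zfix _ (conj_mem_of_normalizer' (c.zA ha) hz)
  show a * x * a⁻¹ * z = z * (a * x * a⁻¹)
  calc a * x * a⁻¹ * z = a * (x * (a⁻¹ * z * a)) * a⁻¹ := by group
    _ = a * (a⁻¹ * z * a * x) * a⁻¹ := by rw [h]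
    _ = z * (a * x * a⁻¹) := by group

/-- In the abelian case `B` has exponent `q`. -/
lemma pow_eq_one (f : Frame r p V F T A) (hx : x ∈ T) (hab : IsMulCommutative B) {b : G}
    (hb : b ∈ B) : b ^ q = 1 := by
  haveI := hab
  have hcomm : ∀ u ∈ B, ∀ v ∈ B, Commute u v := fun u hu v hv =>
    congrArg Subtype.val (hab.is_comm.comm ⟨u, hu⟩ ⟨v, hv⟩)
  let U : Subgroup G :=
    { carrier := {b | b ∈ B ∧ b ^ q = 1}
      one_mem' := ⟨one_mem _, one_pow q⟩
      mul_mem' := fun {u v} hu hv => ⟨B.mul_mem hu.1 hv.1, by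
        rw [(hcomm u hu.1 v hv.1).mul_pow, hu.2, hv.2, one_mul]⟩
      inv_mem' := fun {u} hu => ⟨B.inv_mem hu.1, by rw [inv_pow, hu.2, inv_one]⟩ }
  by_contra hne
  have hU : ∀ g ∈ normalizer (B : Set G), g ∈ normalizer (U : Set G) := by
    have key : ∀ g ∈ normalizer (B : Set G), ∀ u ∈ U, g * u * g⁻¹ ∈ U := fun g hg u hu =>
      ⟨conj_mem_of_normalizer hg hu.1, by rw [conj_pow, hu.2, mul_one, mul_inv_cancel]⟩
    exact fun g hg => mem_normalizer_iff.mpr fun u => ⟨key g hg u, fun hu => by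
      simpa [mul_assoc] using key g⁻¹ (inv_mem hg) _ hu⟩
  have hfix := c.small U (fun _ h => h.1) (fun e => hne (e.ge hb).2) (fun g hg => hU g (c.normA hg))
    (fun g hg => hU g (c.normT hg))
  refine c.moved ((Coprime.le_centralizer_of_prime_order_abelian (A := zpowers x)
    (zpowers_le.mpr (c.normT hx)) ?_ fun v hv hpr y hy => ?_) (mem_zpowers x))
  · obtain ⟨k, hk⟩ := (f.pT.to_le (zpowers_le.mpr hx)).exists_card_eq
    rw [hk]
    exact (hp.out.coprime_iff_not_dvd.mpr (f.not_dvd c.le)).pow_left k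
  · obtain ⟨k, hk⟩ := c.pgroup ⟨v, hv⟩
    have hk' : v ^ q ^ k = 1 := congrArg Subtype.val hk
    have hvq : v ^ q = 1 := by
      rw [← (Nat.prime_dvd_prime_iff_eq hpr c.prime).mp (hpr.dvd_of_dvd_pow
        (orderOf_dvd_of_pow_eq_one hk')), pow_orderOf_eq_one]
    obtain ⟨n, rfl⟩ := mem_zpowers_iff.mp hy
    exact (Commute.zpow_left (mem_centralizer_iff.mp hfix v ⟨hv, hvq⟩).symm n).eq

end Core

end Cfsg.Agent.SolvableSignalizer.Linear
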