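import Cfsg.Agent.Lib.SolvableSignalizer.Linear.Bad

/-!
An elementary abelian `p`-group of operators of a nilpotent `p'`-group `F`, acting faithfully, has a
basis whose members move pairwise commuting subgroups of `F`, each fixed by the other members.
-/

set_option autoImplicit false
set_option linter.style.haveILetI false
set_option linter.unusedSectionVars false

namespace Cfsg.Agent.SolvableSignalizer.Linear

open Subgroup
open Cfsg.Agent.Components
open scoped commutatorElement Pointwise

variable {p : ℕ} [hp : Fact p.Prime] {G : Type*} [Group G] [Finite G]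

/-- `x i` moves the minimal `D i`, the other members centralise it. -/
structure Family (F R : Subgroup G) {n : ℕ} (x : Fin n → G) (D : Fin n → Subgroup G) : Prop where
  mem : ∀ i, x i ∈ R
  le : ∀ i, D i ≤ F
  norm : ∀ i, R ≤ normalizer (D i : Set G)
  comm : ∀ i j, i ≠ j → D i ≤ centralizer (D j : Set G)
  fix : ∀ i j, i ≠ j → x j ∈ centralizer (D i : Set G)
  moved : ∀ i, x i ∉ centralizer (D i : Set G)
  small : ∀ i, ∀ U : Subgroup G, U ≤ D i → U ≠ D i → x i ∈ normalizer (U : Set G) →
    x i ∈ centralizer (U : Set G)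

/-- The induction. -/
theorem exists_family_aux {F R : Subgroup G} (hF : Group.IsNilpotent F) (hpF : ¬ p ∣ Nat.card F)
    (hR : Cfsg.IsElementaryAbelian p R) (hRF : R ≤ normalizer (F : Set G))
    (hfaith : R ⊓ centralizer (F : Set G) = ⊥) :
    ∀ (K : Subgroup G) (n : ℕ) (x : Fin n → G) (D : Fin n → Subgroup G), Family F R x D → K ≤ R →
      (∀ i, K ≤ centralizer (D i : Set G)) → R = K ⊔ closure (Set.range x) →
      Nat.card R = Nat.card K * p ^ n →
      ∃ (n : ℕ) (x : Fin n → G) (D : Fin n → Subgroup G), Family F R x D ∧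
        R = closure (Set.range x) ∧ Nat.card R = p ^ n := by
  intro K
  induction hc : Nat.card K using Nat.strong_induction_on generalizing K with
  | _ c ih =>
  subst hc
  intro n x D fam hKR hKD hgen hcard
  by_cases hK : K = ⊥
  · subst hK
    exact ⟨n, x, D, fam, by simpa using hgen, by simpa using hcard⟩
  set C := ⨆ i, D i with hC
  set F₁ := F ⊓ centralizer (C : Set G) with hF₁
  have hRC : R ≤ normalizer (C : Set G) := fun t ht => Coprime.conj_smul_eq_self_iff.mp (by
    show Subgroup.map (MulAut.conj t).toMonoidHom C = C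
    rw [hC, Subgroup.map_iSup]
    exact iSup_congr fun i => Coprime.conj_smul_eq_self_iff.mpr (fam.norm i ht))
  have hRF₁ : R ≤ normalizer (F₁ : Set G) :=
    le_trans (le_inf hRF (hRC.trans (normalizer_le_centralizer' _))) inf_normalizer_le_normalizer_inf
  have hpF₁ : ¬ p ∣ Nat.card F₁ := fun h => hpF (h.trans (card_dvd_of_le inf_le_left))
  have hmove : ¬ K ≤ centralizer (F₁ : Set G) := by
    intro h
    refine hK (le_bot_iff.mp (hfaith ▸ le_inf hKR ?_))
    exact centralizes_of_self_centralizing hF hpF ((Hyperplane.isPGroup hR).to_le hKR)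
      (hKR.trans hRF) (iSup_le fam.le)
      (le_centralizer_iff.mp (iSup_le fun i => le_centralizer_iff.mp (hKD i)))
      (le_centralizer_iff.mp h)
  obtain ⟨H, hHR, hidx, hH⟩ : ∃ H ≤ R, H.relIndex R = p ∧
      ¬ K ≤ centralizer ((F₁ ⊓ centralizer (H : Set G) : Subgroup G) : Set G) := by
    by_cases h2 : p ^ 2 ≤ Nat.card R
    · by_contra hc
      push Not at hc
      apply hmove
      rw [le_centralizer_iff, Hyperplane.eq_iSup_hyperplane hR h2 hpF₁ hRF₁]
      exact iSup_le fun H => le_centralizer_iff.mp (hc H.1 H.2.1 H.2.2)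
    · refine ⟨⊥, bot_le, ?_, fun h => hmove (h.trans (centralizer_le ?_))⟩
      · rw [relIndex_bot_left]
        obtain ⟨k, hk⟩ := (Hyperplane.isPGroup hR).exists_card_eq
        rcases k with _ | _ | k
        · exact absurd (le_bot_iff.mp (eq_bot_of_card_eq R (by simpa using hk) ▸ hKR)) hK
        · simpa using hk
        · exact absurd (hk ▸ Nat.pow_le_pow_right hp.out.pos (by omega)) h2
      · exact SetLike.coe_subset_coe.mpr (le_inf le_rfl (fun v _ => by simp [mem_centralizer_iff]))
  obtain ⟨y, hyK, hyH⟩ : ∃ y ∈ K, y ∉ H := by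
    by_contra hc
    push Not at hc
    exact hH ((show K ≤ H from hc).trans (le_centralizer_iff.mp inf_le_right))
  have hyR := hKR hyK
  have hy1 : y ≠ 1 := fun e => hyH (e ▸ H.one_mem)
  have hyord : orderOf y = p := Hyperplane.orderOf_eq hR hyR hy1
  have hdisj : Disjoint H (zpowers y) := by
    rw [disjoint_def]
    intro z hzH hzy
    by_contra hz1
    refine hyH ?_
    have := eq_of_le_of_card_ge (zpowers_le.mpr hzy) (by
      rw [Nat.card_zpowers, Nat.card_zpowers, Hyperplane.orderOf_eq hR (hHR hzH) hz1, hyord])
    exact zpowers_le.mpr hzH (this ▸ mem_zpowers y)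
  have hnH : zpowers y ≤ normalizer (H : Set G) :=
    (zpowers_le.mpr hyR).trans (abelian_le_normalizer hR hHR)
  have hHy : H ⊔ zpowers y = R := by
    refine eq_of_le_of_card_ge (sup_le hHR (zpowers_le.mpr hyR)) ?_
    rw [Coprime.card_sup_of_disjoint hnH hdisj, Nat.card_zpowers, hyord,
      ← relIndex_bot_left R, ← relIndex_mul_relIndex ⊥ H R bot_le hHR, relIndex_bot_left, hidx]
  -- the new members
  set E := F₁ ⊓ centralizer (H : Set G) with hE
  have hyE : y ∈ normalizer (E : Set G) := inf_normalizer_le_normalizer_inf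
    ⟨hRF₁ hyR, normalizer_le_centralizer' _ (abelian_le_normalizer hR hHR hyR)⟩
  have hymove : y ∉ centralizer (E : Set G) := fun h => hH (hKR.trans (hHy ▸
    sup_le (le_centralizer_iff.mp inf_le_right) (zpowers_le.mpr h)))
  obtain ⟨D₀, -, hD₀⟩ := Finite.exists_le_minimal (a := E)
    (p := fun U : Subgroup G => U ≤ E ∧ y ∈ normalizer (U : Set G) ∧ y ∉ centralizer (U : Set G))
    ⟨le_rfl, hyE, hymove⟩
  obtain ⟨hD₀E, hyD₀, hD₀move⟩ := hD₀.prop
  have hsplit : ∀ i, ∃ h ∈ H, ∃ m ∈ zpowers y, h * m = x i := fun i =>
    (Coprime.mem_sup_of_le_normalizer hnH).mp (hHy.ge (fam.mem i))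
  choose x' hx' m hm hxm using hsplit
  have hmK : ∀ i, m i ∈ K := fun i => zpowers_le.mpr hyK (hm i)
  have hx'eq : ∀ i, x' i = x i * (m i)⁻¹ := fun i => by rw [← hxm i, mul_inv_cancel_right]
  have hD₀C : ∀ i, D₀ ≤ centralizer (D i : Set G) := fun i =>
    hD₀E.trans (inf_le_left.trans (inf_le_right.trans
      (centralizer_le (SetLike.coe_subset_coe.mpr (le_iSup D i)))))
  have hHD₀ : H ≤ centralizer (D₀ : Set G) :=
    le_centralizer_iff.mp (hD₀E.trans inf_le_right)
  have fam' : Family F R (Fin.cons y x' : Fin (n + 1) → G) (Fin.cons D₀ D : Fin (n + 1) → Subgroup G) := by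
    constructor
    · intro i
      induction i using Fin.cases with
      | zero => exact hyR
      | succ i => exact hHR (hx' i)
    · intro i
      induction i using Fin.cases with
      | zero => exact hD₀E.trans (inf_le_left.trans inf_le_left)
      | succ i => exact fam.le i
    · intro i
      induction i using Fin.cases with
      | zero =>
        show R ≤ normalizer (D₀ : Set G)
        rw [← hHy]
        exact sup_le (hHD₀.trans (centralizer_le_normalizer _)) (zpowers_le.mpr hyD₀)
      | succ i => exact fam.norm i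
    · intro i j hij
      induction i using Fin.cases with
      | zero =>
        induction j using Fin.cases with
        | zero => exact absurd rfl hij
        | succ j => exact hD₀C j
      | succ i =>
        induction j using Fin.cases with
        | zero => exact le_centralizer_iff.mp (hD₀C i)
        | succ j => exact fam.comm i j fun e => hij (by rw [e])
    · intro i j hij
      induction i using Fin.cases with
      | zero =>
        induction j using Fin.cases with
        | zero => exact absurd rfl hij
        | succ j => exact hHD₀ (hx' j)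
      | succ i =>
        induction j using Fin.cases with
        | zero => exact hKD i hyK
        | succ j =>
          show x' j ∈ centralizer (D i : Set G)
          rw [hx'eq]
          exact mul_mem (fam.fix i j fun e => hij (by rw [e])) (inv_mem (hKD i (hmK j)))
    · intro i
      induction i using Fin.cases with
      | zero => exact hD₀move
      | succ i =>
        intro h
        have h' : x' i ∈ centralizer (D i : Set G) := h
        exact fam.moved i (hxm i ▸ mul_mem h' (hKD i (hmK i)))
    · intro i U hU hne hn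
      induction i using Fin.cases with
      | zero =>
        by_contra hU'
        exact hne (le_antisymm hU (hD₀.le_of_le ⟨hU.trans hD₀E, hn, hU'⟩ hU))
      | succ i =>
        have hU₀ : U ≤ D i := hU
        have hn' : x' i ∈ normalizer (U : Set G) := hn
        have hmU : m i ∈ centralizer (U : Set G) :=
          centralizer_le (SetLike.coe_subset_coe.mpr hU₀) (hKD i (hmK i))
        have h := fam.small i U hU₀ hne (hxm i ▸ mul_mem hn' (centralizer_le_normalizer _ hmU))
        show x' i ∈ centralizer (U : Set G)
        rw [hx'eq]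
        exact mul_mem h (inv_mem hmU)
  have hKsup : K ⊓ H ⊔ zpowers y = K := by
    refine le_antisymm (sup_le inf_le_left (zpowers_le.mpr hyK)) fun k hk => ?_
    obtain ⟨h, hh, z, hz, rfl⟩ := (Coprime.mem_sup_of_le_normalizer hnH).mp (hHy.ge (hKR hk))
    refine mul_mem_sup ⟨?_, hh⟩ hz
    have := K.mul_mem hk (K.inv_mem (zpowers_le.mpr hyK hz))
    rwa [mul_inv_cancel_right] at this
  have hKcard : Nat.card K = Nat.card ↥(K ⊓ H) * p := by
    have h1 := Coprime.card_sup_of_disjoint
      ((zpowers_le.mpr hyR).trans (abelian_le_normalizer hR (inf_le_right.trans hHR)))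
      (hdisj.mono_left (inf_le_right : K ⊓ H ≤ H))
    rwa [hKsup, Nat.card_zpowers, hyord] at h1
  refine ih _ ?_ (K ⊓ H) rfl (n + 1) _ _ fam' (inf_le_right.trans hHR) ?_ ?_ ?_
  · rw [hKcard]
    exact lt_mul_of_one_lt_right Nat.card_pos hp.out.one_lt
  · intro i
    induction i using Fin.cases with
    | zero => exact inf_le_right.trans hHD₀
    | succ i => exact inf_le_left.trans (hKD i)
  · set S := closure (Set.range (Fin.cons y x' : Fin (n + 1) → G))
    have hyS : y ∈ S := subset_closure ⟨0, rfl⟩
    refine le_antisymm ?_ (sup_le (inf_le_right.trans hHR) ((closure_le _).mpr ?_))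
    · rw [hgen]
      refine sup_le (hKsup.ge.trans (sup_le le_sup_left (zpowers_le.mpr (mem_sup_right hyS))))
        ((closure_le _).mpr ?_)
      rintro _ ⟨i, rfl⟩
      rw [← hxm i]
      exact mem_sup_right (mul_mem (subset_closure ⟨i.succ, by simp⟩) (zpowers_le.mpr hyS (hm i)))
    · rintro _ ⟨i, rfl⟩
      exact fam'.mem i
  · rw [hcard, hKcard, pow_succ]; ring

theorem exists_family {F R : Subgroup G} (hF : Group.IsNilpotent F) (hpF : ¬ p ∣ Nat.card F)
    (hR : Cfsg.IsElementaryAbelian p R) (hRF : R ≤ normalizer (F : Set G))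
    (hfaith : R ⊓ centralizer (F : Set G) = ⊥) :
    ∃ (n : ℕ) (x : Fin n → G) (D : Fin n → Subgroup G), Family F R x D ∧
      R = closure (Set.range x) ∧ Nat.card R = p ^ n :=
  exists_family_aux hF hpF hR hRF hfaith R 0 Fin.elim0 Fin.elim0
    ⟨fun i => i.elim0, fun i => i.elim0, fun i => i.elim0, fun i => i.elim0, fun i => i.elim0,
      fun i => i.elim0, fun i => i.elim0⟩ le_rfl (fun i => i.elim0)
    (le_antisymm le_sup_left (sup_le le_rfl ((closure_le _).mpr (by rintro _ ⟨i, -⟩; exact i.elim0))))
    (by simp)

end Cfsg.Agent.SolvableSignalizer.Linear
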