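import Cfsg.Agent.Lib.SolvableSignalizer.Linear.Support
import Mathlib.Tactic.NoncommRing

/-!
Operators of an abelian subgroup as elements of its endomorphism ring, and identities in a ring of
characteristic three with an element `1 + N`, `N * N = 0`.
-/

set_option autoImplicit false
set_option linter.style.haveILetI false
set_option linter.unusedSectionVars false

namespace Cfsg.Agent.SolvableSignalizer.Linear

open Subgroup
open scoped commutatorElement IsMulCommutative

variable {G : Type*} [Group G]

/-- The operator of `g` on the abelian group `Y`. -/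
def op (Y : Subgroup G) [IsMulCommutative Y] :
    normalizer (Y : Set G) →* AddMonoid.End (Additive Y) where
  toFun g := MonoidHom.toAdditive (normalizerMonoidHom Y g).toMonoidHom
  map_one' := by
    ext v
    rw [map_one]
    rfl
  map_mul' g h := by
    ext v
    rw [map_mul]
    rfl

section

variable {Y : Subgroup G} [IsMulCommutative Y]

lemma op_val (g : normalizer (Y : Set G)) (v : Additive Y) :
    ((op Y g v).toMul : G) = g * (v.toMul : G) * (g : G)⁻¹ := rfl

lemma op_eq_iff {g h : normalizer (Y : Set G)} :
    op Y g = op Y h ↔ ∀ v ∈ Y, (g : G) * v * (g : G)⁻¹ = h * v * (h : G)⁻¹ := by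
  refine ⟨fun e v hv => ?_, fun e => DFunLike.ext _ _ fun v => ?_⟩
  · have := congrArg (fun f : AddMonoid.End (Additive Y) => ((f (Additive.ofMul ⟨v, hv⟩)).toMul : G)) e
    simpa only [op_val, toMul_ofMul] using this
  · exact Additive.toMul.injective (Subtype.ext (e _ v.toMul.2))

lemma op_eq_one_iff {g : normalizer (Y : Set G)} :
    op Y g = 1 ↔ (g : G) ∈ centralizer (Y : Set G) := by
  rw [← map_one (op Y), op_eq_iff]
  simp only [OneMemClass.coe_one, one_mul, inv_one, mul_one]
  exact ⟨fun h => mem_centralizer_iff.mpr fun v hv => (mul_inv_eq_iff_eq_mul.mp (h v hv)).symm,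
    fun h v hv => mul_inv_eq_iff_eq_mul.mpr (mem_centralizer_iff.mp h v hv).symm⟩

lemma op_natCast_eq_zero {n : ℕ} (h : ∀ v ∈ Y, v ^ n = (1 : G)) :
    (n : AddMonoid.End (Additive Y)) = 0 := by
  ext v
  rw [AddMonoid.End.natCast_apply]
  exact congrArg Subtype.val (show (v.toMul : Y) ^ n = 1 from Subtype.ext (h _ v.toMul.2))

end

lemma pow_two_pow_eq_one {M : Type*} [Monoid M] {a : M} {k : ℕ} (h3 : a ^ 3 = 1)
    (hk : a ^ 2 ^ k = 1) : a = 1 :=
  orderOf_eq_one_iff.mp (Nat.eq_one_of_dvd_coprimes
    (Nat.Coprime.pow_right k (by norm_num : Nat.Coprime 3 2)) (orderOf_dvd_of_pow_eq_one h3)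
    (orderOf_dvd_of_pow_eq_one hk))

/-! ### Identities -/

section Ring

variable {R : Type*} [Ring R] {N g : R}

lemma neg_of_three (h3 : (3 : R) = 0) (a : R) : a + a = -a := by
  have h : a + a + a = 0 := by
    calc a + a + a = 3 * a := by noncomm_ring
      _ = 0 := by rw [h3, zero_mul]
  exact eq_neg_of_add_eq_zero_left h

/-- The conjugate of `g` by `1 + N`. -/
lemma conj_expand : (1 + N) * g * (1 - N) = g + N * g - g * N - N * g * N := by noncomm_ring

/-- If `g` commutes with its conjugate by `1 + N` and the three conjugates have product one then the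
`2`-element `g` is one. -/
theorem triple_eq_one (h3 : (3 : R) = 0) (hN : N * N = 0) (hC : g * g * N = N * (g * g))
    (hcomm : g * ((1 + N) * g * (1 - N)) = (1 + N) * g * (1 - N) * g)
    (hprod : g * ((1 + N) * g * (1 - N)) * ((1 + N) * ((1 + N) * g * (1 - N)) * (1 - N)) = 1)
    {k : ℕ} (hk : g ^ 2 ^ k = 1) : g = 1 := by
  have h1 : g * N * g + g * N * g - g * g * N - g * g * N - g * N * g * N + N * g * N * g = 0 := by
    have := sub_eq_zero.mpr hcomm
    rw [conj_expand] at this
    calc _ = g * (g + N * g - g * N - N * g * N) - (g + N * g - g * N - N * g * N) * g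
          + (N * (g * g) - g * g * N) := by noncomm_ring
      _ = 0 := by rw [this, hC, sub_self, add_zero]
  have hz : ∀ y : R, N * (N * y) = 0 := fun y => by rw [← mul_assoc, hN, zero_mul]
  set U := g * N * g * N
  have hU : U = N * U := by
    have h2 : (g * N * g + g * N * g - g * g * N - g * g * N - g * N * g * N + N * g * N * g) * N
        = U + U + N * U := by
      simp only [add_mul, sub_mul, mul_assoc, hN, mul_zero, sub_zero, U]
    rw [h1, zero_mul, neg_of_three h3] at h2
    exact (neg_add_eq_zero.mp h2.symm)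
  have hU0 : U = 0 := by rw [hU, hU, hz]
  have hgi : g ^ (2 ^ k - 1) * g = 1 := by
    rw [← pow_succ, Nat.sub_add_cancel (Nat.one_le_two_pow), hk]
  have hunit : ∀ y : R, g * y = 0 → y = 0 := fun y hy => by
    rw [← one_mul y, ← hgi, mul_assoc, hy, mul_zero]
  have hNgN : N * g * N = 0 := hunit _ (by simp only [← mul_assoc]; exact hU0)
  have hcom : N * g = g * N := by
    have h2 : g * (N * g - g * N) + g * (N * g - g * N) = 0 := by
      calc _ = (g * N * g + g * N * g - g * g * N - g * g * N - U + N * g * N * g)
            + g * (N * g * N) - (N * g * N) * g := by simp only [U]; noncomm_ring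
        _ = 0 := by rw [h1, hNgN, zero_mul, mul_zero, sub_zero, add_zero]
    rw [neg_of_three h3, neg_eq_zero] at h2
    exact sub_eq_zero.mp (hunit _ h2)
  have he : (1 + N) * g * (1 - N) = g := by
    rw [conj_expand, hcom, add_sub_cancel_right, mul_assoc g, hN, mul_zero, sub_zero]
  rw [he, he] at hprod
  exact pow_two_pow_eq_one (by rw [pow_succ, pow_two, hprod]) hk

/-- The same with anticommuting conjugates. -/
theorem triple_quat (h3 : (3 : R) = 0) (hN : N * N = 0) (hC : g * g * N = N * (g * g))
    (hanti : g * ((1 + N) * g * (1 - N)) + (1 + N) * g * (1 - N) * g = 0)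
    (hprod : g * ((1 + N) * g * (1 - N)) * ((1 + N) * ((1 + N) * g * (1 - N)) * (1 - N)) = 1)
    {k : ℕ} (hk : g ^ 2 ^ k = 1) : g * g * N = -N ∧ N * g * N = -N := by
  have hz : ∀ y : R, N * (N * y) = 0 := fun y => by rw [← mul_assoc, hN, zero_mul]
  have hC' : ∀ y : R, N * (g * (g * y)) = g * (g * (N * y)) := fun y => by
    rw [← mul_assoc g g, ← mul_assoc N, ← hC]
    simp only [mul_assoc]
  set U := N * g * N * g * N
  have hU : g * g * N + g * g * N = U := by
    have h1 : (g * ((1 + N) * g * (1 - N)) + (1 + N) * g * (1 - N) * g) * N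
        = g * g * N + g * g * N - U := by
      rw [conj_expand]
      simp only [add_mul, sub_mul, mul_assoc, mul_add, mul_sub, hN, hC', mul_zero, sub_zero, add_zero, U]
      noncomm_ring
    rw [hanti, zero_mul] at h1
    exact sub_eq_zero.mp h1.symm
  have hHN : (1 + N) * g * (1 - N) * N = (1 + N) * (g * N) := by
    calc (1 + N) * g * (1 - N) * N = (1 + N) * (g * N) - (1 + N) * g * (N * N) := by noncomm_ring
      _ = _ := by rw [hN, mul_zero, sub_zero]
  have h4 : g * g * (N * g * N) = N := by
    have h1 : g * ((1 + N) * g * (1 - N)) * ((1 + N) * ((1 + N) * g * (1 - N)) * (1 - N)) * N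
        = g * ((1 + N) * g * (1 - N) * ((1 + N) * ((1 + N) * (g * N)))) := by
      calc _ = g * ((1 + N) * g * (1 - N) * ((1 + N) * ((1 + N) * g * (1 - N) * N))) -
            g * ((1 + N) * g * (1 - N)) * ((1 + N) * ((1 + N) * g * (1 - N))) * (N * N) := by
              noncomm_ring
        _ = _ := by rw [hHN, hN, mul_zero, sub_zero]
    rw [hprod, one_mul] at h1
    have h2 : (1 + N) * g * (1 - N) * ((1 + N) * ((1 + N) * (g * N)))
        = g * g * N + g * N * g * N + U := by
      simp only [add_mul, sub_mul, mul_add, mul_sub, one_mul, mul_one, mul_assoc, hN, hz, hC',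
        mul_zero, sub_zero, add_zero, U]
      noncomm_ring
    rw [h2, ← hU] at h1
    calc g * g * (N * g * N) = g * (g * N * g * N) + 3 * (g * (g * g * N)) := by
          rw [h3, zero_mul, add_zero]; noncomm_ring
      _ = g * (g * g * N + g * N * g * N + (g * g * N + g * g * N)) := by noncomm_ring
      _ = N := h1.symm
  set C := g * g
  have hCg : g * C = C * g := by simp only [C, mul_assoc]
  have hC3 : C * C * C * N = -N := by
    have h5 : C * C * U = N := by
      calc C * C * U = C * (C * N) * (g * N * g * N) := by simp only [U, mul_assoc]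
        _ = C * (N * C) * (g * N * g * N) := by rw [hC]
        _ = C * N * (C * g) * (N * g * N) := by simp only [mul_assoc]
        _ = C * N * g * (C * (N * g * N)) := by rw [← hCg]; simp only [mul_assoc]
        _ = N := by rw [h4, mul_assoc, mul_assoc, ← mul_assoc N, h4]
    have h6 : C * C * C * N + C * C * C * N = N := by
      calc C * C * C * N + C * C * C * N = C * C * (C * N + C * N) := by noncomm_ring
        _ = N := by rw [hU, h5]
    rw [neg_of_three h3, neg_eq_iff_eq_neg] at h6
    exact h6
  have hC2 : C * C * N = N := by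
    set D := C * C
    have hD : D * D * D * N = N := by
      calc D * D * D * N = C * C * C * (C * C * C * N) := by simp only [D, mul_assoc]
        _ = N := by rw [hC3, mul_neg, hC3, neg_neg]
    have hDk : D ^ 2 ^ k = 1 := by
      rw [show D = g ^ 4 by simp only [D, C]; noncomm_ring, ← pow_mul, mul_comm, pow_mul, hk, one_pow]
    have hD3 : ∀ j : ℕ, D ^ (3 * j) * N = N := by
      intro j
      induction j with
      | zero => simp
      | succ j ih =>
        rw [Nat.mul_succ, pow_add, mul_assoc, show D ^ 3 = D * D * D by noncomm_ring, hD, ih]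
    rcases (show 2 ^ k % 3 = 1 ∨ 2 ^ k % 3 = 2 by
        have h1 : 2 ^ k % 3 ≠ 0 := fun h => by
          have := Nat.Prime.dvd_of_dvd_pow Nat.prime_three (Nat.dvd_of_mod_eq_zero h)
          norm_num at this
        omega) with h | h
    · calc D * N = D * (D ^ (3 * (2 ^ k / 3)) * N) := by rw [hD3]
        _ = D ^ 2 ^ k * N := by
          rw [← mul_assoc, ← pow_succ', ← h, Nat.div_add_mod]
        _ = N := by rw [hDk, one_mul]
    · have h2 : D * D * N = N := by
        calc D * D * N = D * D * (D ^ (3 * (2 ^ k / 3)) * N) := by rw [hD3]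
          _ = D ^ 2 ^ k * N := by
            rw [← mul_assoc, ← pow_two, ← pow_add,
              show 2 + 3 * (2 ^ k / 3) = 2 ^ k by omega]
          _ = N := by rw [hDk, one_mul]
      calc D * N = D * (D * D * N) := by rw [h2]
        _ = N := by rw [← mul_assoc, ← mul_assoc, hD]
  have hCN : C * N = -N := by
    calc C * N = C * (C * C * N) := by rw [hC2]
      _ = -N := by rw [← mul_assoc, ← mul_assoc, hC3]
  refine ⟨hCN, ?_⟩
  calc N * g * N = C * C * N * (g * N) := by rw [hC2]; noncomm_ring
    _ = C * (C * (N * g * N)) := by simp only [mul_assoc]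
    _ = -N := by rw [h4, hCN]

/-- In the situation of `triple_quat`, `N` is determined by `g` and its conjugate. -/
theorem quat_formula (h3 : (3 : R) = 0) (hgg : g * g = -1) (hNgN : N * g * N = -N)
    (hanti : g * ((1 + N) * g * (1 - N)) + (1 + N) * g * (1 - N) * g = 0) :
    N = -((1 + N) * g * (1 - N) * g + g + (1 + N) * g * (1 - N)) := by
  have hc : g * N + N * g = -1 := by
    have h1 : g * ((1 + N) * g * (1 - N)) + (1 + N) * g * (1 - N) * g
        = g * g + g * g + N * (g * g) - g * g * N - g * (N * g * N) - N * g * N * g := by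
      rw [conj_expand]; noncomm_ring
    rw [hanti, hgg, hNgN, mul_neg, mul_one, neg_mul, neg_mul, one_mul] at h1
    have h2 : (-1 + -1 : R) = 1 := by
      rw [neg_of_three h3 (-1 : R), neg_neg]
    have h4 : (-1 + -1 + -N - -N - g * -N - -(N * g) : R) = -1 + -1 + (g * N + N * g) := by
      noncomm_ring
    rw [h4, h2] at h1
    exact eq_neg_of_add_eq_zero_right h1.symm
  have hgN : g * N = -1 - N * g := eq_sub_of_add_eq hc
  have h1 : (1 + N) * g * (1 - N) = g + N * g - g * N + N := by
    rw [conj_expand, hNgN, sub_neg_eq_add]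
  rw [h1, hgN]
  have h2 : (g + N * g - (-1 - N * g) + N) * g = g * g + (N * (g * g) + N * (g * g)) + g + N * g := by
    noncomm_ring
  rw [h2, hgg, mul_neg, mul_one]
  calc N = -(-1 + (-N + -N) + g + N * g + g + (g + N * g - (-1 - N * g) + N)) +
        3 * (g + N * g) := by noncomm_ring
    _ = _ := by rw [h3, zero_mul, add_zero]

end Ring

end Cfsg.Agent.SolvableSignalizer.Linear
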