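import Cfsg.Agent.Lib.SolvableSignalizer.Linear.Basic
import Cfsg.Agent.Lib.Components.Signalizer
import Cfsg.Agent.Lib.PLocal.Quadratic
import Cfsg.Agent.Lib.PLocal.SolvableSeparable
import Cfsg.Agent.Lib.PLocal.Offender.Section

/-!
Quadratic `p`-elements normalising solvable `p'`-groups of operators, `p` odd.
-/

set_option autoImplicit false
set_option linter.style.haveILetI false
set_option linter.unusedSectionVars false

namespace Cfsg.Agent.SolvableSignalizer.Linear

open Subgroup
open Cfsg.Agent.Components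
open scoped commutatorElement

variable {p : ℕ} [hp : Fact p.Prime] {G : Type*} [Group G] [Finite G]

lemma comm_pow_mem_mv {V : Subgroup G} {x : G} (hx : x ∈ normalizer (V : Set G)) (n : ℕ) :
    ∀ v ∈ V, ⁅x ^ n, v⁆ ∈ mv V x := by
  induction n with
  | zero => intro v _; simp
  | succ n ih =>
    intro v hv
    have h2 : ⁅x ^ (n + 1), v⁆ = ⁅x, x ^ n * v * (x ^ n)⁻¹⁆ * ⁅x ^ n, v⁆ := by
      simp only [commutatorElement_def, pow_succ']; group
    rw [h2]
    exact mul_mem (comm_mem_mv ((mem_normalizer_iff.mp (pow_mem hx n) v).mp hv)) (ih v hv)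

lemma Sq.quad {V : Subgroup G} {x : G} (h : Sq V x) (hx : x ∈ normalizer (V : Set G)) :
    Cfsg.Agent.PLocal.Quadratic.Quad V x := by
  have hle : ⁅V, zpowers x⁆ ≤ mv V x := by
    rw [commutator_comm, commutator_le]
    intro y hy v hv
    obtain ⟨n, rfl⟩ := (IsOfFinOrder.mem_powers_iff_mem_zpowers (isOfFinOrder_of_finite x)).mpr hy
    exact comm_pow_mem_mv hx n v hv
  refine Coprime.commutator_eq_bot_iff_le_centralizer'.mpr (zpowers_le.mpr ?_)
  exact mem_centralizer_iff.mpr fun w hw =>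
    mem_centralizer_singleton_iff.mp (h.mv_le hx (hle hw)).2

/-- A quadratic `p`-element moving a solvable `p'`-group: `p = 3` and a nonabelian 2-group. -/
theorem quad_moved {V B : Subgroup G} (hp2 : p ≠ 2) (hV : Cfsg.IsElementaryAbelian p V)
    (hBV : B ≤ normalizer (V : Set G)) {x : G} (hxV : x ∈ normalizer (V : Set G))
    (hsq : Sq V x) (hxB : x ∈ normalizer (B : Set G)) (hB : ¬ p ∣ Nat.card B)
    (hBs : Group.IsSolvable B) (hxp : IsPGroup p (zpowers x))
    (hmove : ¬ ⁅B, zpowers x⁆ ≤ centralizer (V : Set G)) :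
    p = 3 ∧ ∃ S : Subgroup G, S ≤ B ∧ IsPGroup 2 S ∧ ¬ IsMulCommutative S := by
  set H := B ⊔ zpowers x with hH
  have hHV : H ≤ normalizer (V : Set G) := sup_le hBV (zpowers_le.mpr hxV)
  have hnB : H ≤ normalizer (B : Set G) := sup_le le_normalizer (zpowers_le.mpr hxB)
  haveI : ((centralizer (V : Set G)).subgroupOf H).Normal :=
    normal_subgroupOf_of_le_normalizer (hHV.trans (by
      intro g hg
      refine mem_normalizer_iff.mpr fun y => ?_
      simp only [mem_centralizer_iff]
      constructor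
      · intro hy v hv
        have hw : g⁻¹ * v * g ∈ V := by simpa using (mem_normalizer_iff.mp (inv_mem hg) v).mp hv
        calc v * (g * y * g⁻¹) = g * (g⁻¹ * v * g * y) * g⁻¹ := by group
          _ = g * (y * (g⁻¹ * v * g)) * g⁻¹ := by rw [hy _ hw]
          _ = g * y * g⁻¹ * v := by group
      · intro hy v hv
        have hw : g * v * g⁻¹ ∈ V := (mem_normalizer_iff.mp hg v).mp hv
        calc v * y = g⁻¹ * (g * v * g⁻¹ * (g * y * g⁻¹)) * g := by group
          _ = g⁻¹ * (g * y * g⁻¹ * (g * v * g⁻¹)) * g := by rw [hy _ hw]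
          _ = y * v := by group))
  set C := (centralizer (V : Set G)).subgroupOf H
  obtain ⟨g, hg, hbad⟩ := PLocal.Quadratic.exists_bad_pair (H := H) hV hHV
    (mem_sup_right (mem_zpowers x)) (hsq.quad hxV) (by
      intro hc
      apply hmove
      rw [commutator_le]
      intro b hb y hy
      set q := QuotientGroup.mk' C
      set bH : H := ⟨b, mem_sup_left hb⟩
      set yH : H := ⟨y, mem_sup_right hy⟩
      have hy' : q yH ∈ Cfsg.pCore p (H ⧸ C) := by
        obtain ⟨n, hn⟩ := mem_zpowers_iff.mp hy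
        have : yH = (⟨x, mem_sup_right (mem_zpowers x)⟩ : H) ^ n := Subtype.ext (by simp [yH, hn])
        rw [this, map_zpow]
        exact zpow_mem hc n
      have hcore : q ⁅bH, yH⁆ ∈ Cfsg.pCore p (H ⧸ C) := by
        rw [map_commutatorElement, commutatorElement_def]
        exact mul_mem ((inferInstance : (Cfsg.pCore p (H ⧸ C)).Normal).conj_mem _ hy' (q bH))
          (inv_mem hy')
      have hB' : ⁅b, y⁆ ∈ B := by
        rw [commutatorElement_def, mul_assoc, mul_assoc]
        refine B.mul_mem hb ?_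
        rw [← mul_assoc]
        exact (mem_normalizer_iff.mp (hnB (mem_sup_right hy)) b⁻¹).mp (B.inv_mem hb)
      obtain ⟨k, hk⟩ := ((Cores.pCore_isPGroup p : IsPGroup p (Cfsg.pCore p (H ⧸ C)))) ⟨_, hcore⟩
      have h1 : ⁅b, y⁆ ^ p ^ k ∈ centralizer (V : Set G) := by
        have := congrArg Subtype.val hk
        simp only [SubmonoidClass.coe_pow, ← map_pow, OneMemClass.coe_one] at this
        exact mem_subgroupOf.mp ((QuotientGroup.eq_one_iff _).mp this :
          ⁅bH, yH⁆ ^ p ^ k ∈ C)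
      have hcop : (orderOf ⁅b, y⁆).Coprime (p ^ k) := by
        refine Nat.Coprime.pow_right k (Nat.Coprime.symm (hp.out.coprime_iff_not_dvd.mpr fun hd => ?_))
        exact hB (hd.trans (Subgroup.orderOf_dvd_natCard _ hB'))
      obtain ⟨m, hm⟩ := exists_pow_eq_self_of_coprime hcop.symm
      rw [← hm]
      exact pow_mem h1 m)
  set b := g * x * g⁻¹
  have hbH : b ∈ H := H.mul_mem (H.mul_mem hg (mem_sup_right (mem_zpowers x))) (H.inv_mem hg)
  have hbV : b ∈ normalizer (V : Set G) := hHV hbH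
  have hquadb := PLocal.Quadratic.quad_conj g (hHV hg) (hsq.quad hxV)
  have hcl : closure ({x, b} : Set G) ≤ H := (closure_le _).mpr (by
    rintro z (rfl | rfl)
    · exact mem_sup_right (mem_zpowers _)
    · exact hbH)
  haveI hHs : Group.IsSolvable H :=
    Signalizer.isSolvable_sup (zpowers_le.mpr hxB) hBs
      (Coprime.isSolvable_of_isPGroup hxp)
  haveI : Group.IsSolvable (closure ({x, b} : Set G)) := Coprime.isSolvable_of_le hcl hHs
  refine ⟨(PLocal.Quadratic.pair_sl23 hp2 hV hxV hbV (hsq.quad hxV) hquadb hbad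
    (PLocal.SolvableSeparable.isPSolvable_of_isSolvable p _)).1, ?_⟩
  obtain ⟨T⟩ := (inferInstance : Nonempty (Sylow 2 (closure ({x, b} : Set G))))
  have hT := PLocal.Quadratic.pair_sylow_two hp2 hV hxV hbV (hsq.quad hxV) hquadb hbad T
  refine ⟨(T : Subgroup _).map (closure ({x, b} : Set G)).subtype, ?_, T.isPGroup'.map _, ?_⟩
  · rintro _ ⟨t, ht, rfl⟩
    obtain ⟨b₀, hb₀, y, hy, he⟩ :=
      (Coprime.mem_sup_of_le_normalizer (zpowers_le.mpr hxB)).mp (hcl t.2)
    obtain ⟨k, hk⟩ := T.isPGroup' ⟨t, ht⟩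
    have ht2 : (t : G) ^ 2 ^ k = 1 := by simpa using congrArg Subtype.val (congrArg Subtype.val hk)
    -- modulo `B` the element has both `2`-power and `p`-power order
    haveI : (B.subgroupOf H).Normal := normal_subgroupOf_of_le_normalizer hnB
    set q := QuotientGroup.mk' (B.subgroupOf H)
    obtain ⟨j, hj⟩ := hxp ⟨y, hy⟩
    set tH : H := ⟨t, hcl t.2⟩
    have hqy : q tH = q ⟨y, mem_sup_right hy⟩ := by
      have : tH = (⟨b₀, mem_sup_left hb₀⟩ : H) * ⟨y, mem_sup_right hy⟩ := Subtype.ext he.symm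
      rw [this, map_mul, show q ⟨b₀, mem_sup_left hb₀⟩ = 1 from
        (QuotientGroup.eq_one_iff _).mpr (mem_subgroupOf.mpr hb₀), one_mul]
    have h1 : q tH ^ 2 ^ k = 1 := by
      rw [← map_pow, show tH ^ 2 ^ k = 1 from Subtype.ext ht2, map_one]
    have h2 : q tH ^ p ^ j = 1 := by
      have hyj : y ^ p ^ j = 1 := congrArg Subtype.val hj
      rw [hqy, ← map_pow]
      exact (QuotientGroup.eq_one_iff _).mpr (mem_subgroupOf.mpr (by simp [hyj]))
    have hone : q tH = 1 := orderOf_eq_one_iff.mp (Nat.eq_one_of_dvd_coprimes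
      (Nat.Coprime.pow k j ((Nat.coprime_primes Nat.prime_two hp.out).mpr hp2.symm))
      (orderOf_dvd_of_pow_eq_one h1) (orderOf_dvd_of_pow_eq_one h2))
    have h3 : tH ∈ B.subgroupOf H := (QuotientGroup.eq_one_iff tH).mp hone
    exact mem_subgroupOf.mp h3
  · intro hc
    refine hT ⟨⟨fun u v => Subtype.ext (Subtype.ext ?_)⟩⟩
    have := congrArg Subtype.val (hc.is_comm.comm ⟨_, u.1, u.2, rfl⟩ ⟨_, v.1, v.2, rfl⟩)
    simpa using this

end Cfsg.Agent.SolvableSignalizer.Linear
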