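import Cfsg.Agent.Lib.SolvableSignalizer.Linear.Product
import Cfsg.Agent.Lib.SolvableSignalizer.Linear.Quad

/-!
`T` centralises every subgroup of `F` moving only a plane of `V`.
-/

set_option autoImplicit false
set_option linter.style.haveILetI false
set_option linter.unusedSectionVars false

namespace Cfsg.Agent.SolvableSignalizer.Linear

open Subgroup
open Cfsg.Agent.Components
open scoped commutatorElement Pointwise

variable {p : ℕ} [hp : Fact p.Prime] {G : Type*} [Group G] [Finite G]

/-- An element of prime order `r` normalising `U` moves a number of elements divisible by `r`. -/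
lemma card_fixed_modEq {r : ℕ} [Fact r.Prime] {U : Subgroup G} {a : G} (ha : a ^ r = 1)
    (hn : a ∈ normalizer (U : Set G)) :
    Nat.card U ≡ Nat.card ↥(U ⊓ centralizer {a}) [MOD r] := by
  have hR : IsPGroup r (zpowers a) := by
    rintro ⟨y, hy⟩
    obtain ⟨n, rfl⟩ := mem_zpowers_iff.mp hy
    refine ⟨1, Subtype.ext ?_⟩
    show (a ^ n) ^ r ^ 1 = 1
    rw [pow_one, ← zpow_natCast, ← zpow_mul, mul_comm, zpow_mul, zpow_natCast, ha, one_zpow]
  have hle : zpowers a ≤ normalizer (U : Set G) := zpowers_le.mpr hn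
  let ac : zpowers a →* MulAut U := (normalizerMonoidHom U).comp (inclusion hle)
  letI : MulAction (zpowers a) U :=
    { smul := fun t v => ac t v
      one_smul := fun v => by show ac 1 v = v; rw [map_one]; rfl
      mul_smul := fun s t v => by show ac (s * t) v = ac s (ac t v); rw [map_mul]; rfl }
  refine (hR.card_modEq_card_fixedPoints U).trans (Eq.congr_right ?_ |>.mp rfl)
  congr 1
  refine Nat.card_congr
    { toFun := fun v => ⟨(v.1 : G), v.1.2, mem_centralizer_singleton_iff.mpr
        (mul_inv_eq_iff_eq_mul.mp (congrArg Subtype.val (v.2 ⟨a, mem_zpowers a⟩))).symm⟩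
      invFun := fun v => ⟨⟨v.1, v.2.1⟩, fun t => Subtype.ext ?_⟩
      left_inv := fun v => rfl
      right_inv := fun v => rfl }
  obtain ⟨n, hn'⟩ := mem_zpowers_iff.mp t.2
  show (t : G) * (v : G) * (t : G)⁻¹ = v
  refine conj_eq_self ?_
  rw [← hn']
  exact Commute.zpow_left (mem_centralizer_singleton_iff.mp v.2.2).symm n

lemma le_normalizer_centralizer_inf {V D : Subgroup G} {x : G} (hV : x ∈ normalizer (V : Set G))
    (hD : x ∈ normalizer (D : Set G)) :
    x ∈ normalizer ((V ⊓ centralizer (D : Set G) : Subgroup G) : Set G) := by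
  refine (inf_normalizer_le_normalizer_inf (H := V) (K := centralizer (D : Set G))) ⟨hV, ?_⟩
  have key : ∀ g ∈ normalizer (D : Set G), ∀ y ∈ centralizer (D : Set G),
      g * y * g⁻¹ ∈ centralizer (D : Set G) := by
    intro g hg y hy
    refine mem_centralizer_iff.mpr fun z hz => ?_
    have h2 := mem_centralizer_iff.mp hy _ (conj_mem_of_normalizer' hg hz)
    calc z * (g * y * g⁻¹) = g * (g⁻¹ * z * g * y) * g⁻¹ := by group
      _ = g * (y * (g⁻¹ * z * g)) * g⁻¹ := by rw [h2]
      _ = g * y * g⁻¹ * z := by group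
  refine mem_normalizer_iff.mpr fun y => ⟨key x hD y, fun hy => ?_⟩
  simpa [mul_assoc] using key x⁻¹ (inv_mem hD) _ hy

lemma le_normalizer_commutator' {V D : Subgroup G} {x : G} (hV : x ∈ normalizer (V : Set G))
    (hD : x ∈ normalizer (D : Set G)) : x ∈ normalizer ((⁅V, D⁆ : Subgroup G) : Set G) := by
  rw [← Coprime.conj_smul_eq_self_iff, Coprime.conj_smul_commutator,
    Coprime.conj_smul_eq_self_iff.mpr hV, Coprime.conj_smul_eq_self_iff.mpr hD]

/-- A subgroup of `F` irreducible on the plane it moves. -/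
structure IsPlaneGroup (p : ℕ) (V F D : Subgroup G) : Prop where
  le : D ≤ F
  card : Nat.card (⁅V, D⁆ : Subgroup G) = p ^ 2
  irr : ∀ L : Subgroup G, L ≤ ⁅V, D⁆ → D ≤ normalizer (L : Set G) → L = ⊥ ∨ L = ⁅V, D⁆
  big : 2 < Nat.card D

variable {r : ℕ} {V F T A : Subgroup G}

lemma IsPlaneGroup.conj {D : Subgroup G} (h : IsPlaneGroup p V F D) {g : G}
    (hV : g ∈ normalizer (V : Set G)) (hF : g ∈ normalizer (F : Set G)) :
    IsPlaneGroup p V F (MulAut.conj g • D) := by
  have hW : ⁅V, MulAut.conj g • D⁆ = MulAut.conj g • ⁅V, D⁆ := by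
    rw [Coprime.conj_smul_commutator, Coprime.conj_smul_eq_self_iff.mpr hV]
  refine ⟨?_, ?_, ?_, ?_⟩
  · rw [← Coprime.conj_smul_eq_self_iff.mpr hF]
    exact pointwise_smul_le_pointwise_smul_iff.mpr h.le
  · rw [hW, Coprime.card_conj_smul, h.card]
  · intro L hL hn
    rw [hW] at hL ⊢
    have hL' : MulAut.conj g⁻¹ • L ≤ ⁅V, D⁆ := by
      rw [← Coprime.conj_inv_smul_smul g ⁅V, D⁆]
      exact pointwise_smul_le_pointwise_smul_iff.mpr hL
    have hn' : D ≤ normalizer ((MulAut.conj g⁻¹ • L : Subgroup G) : Set G) := by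
      rw [← Coprime.conj_inv_smul_smul g D, ← Coprime.conj_smul_normalizer]
      exact pointwise_smul_le_pointwise_smul_iff.mpr hn
    have e : L = MulAut.conj g • MulAut.conj g⁻¹ • L := by
      rw [← Coprime.conj_smul_mul, mul_inv_cancel, Coprime.conj_smul_one]
    rcases h.irr _ hL' hn' with h' | h'
    · exact Or.inl (by rw [e, h', Coprime.conj_smul_eq_map, Subgroup.map_bot])
    · exact Or.inr (by rw [e, h'])
  · rw [Coprime.card_conj_smul]; exact h.big

namespace Frame

variable (f : Frame r p V F T A)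
include f

/-- Two plane groups move the same plane or commute. -/
theorem plane_pair {D D' : Subgroup G} (h : IsPlaneGroup p V F D) (h' : IsPlaneGroup p V F D') :
    ⁅V, D'⁆ = ⁅V, D⁆ ∨
      (D' ≤ centralizer ((⁅V, D⁆ : Subgroup G) : Set G) ∧
        D ≤ centralizer ((⁅V, D'⁆ : Subgroup G) : Set G)) := by
  haveI := f.elemV.1
  induction hn : Nat.card ↥(D ⊔ D') using Nat.strongRecOn generalizing D D' with
  | ind n ih =>
  have hV1 := h.le.trans f.normF
  have hV2 := h'.le.trans f.normF
  set W := ⁅V, D⁆ with hW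
  set W' := ⁅V, D'⁆ with hW'
  have hWV : W ≤ V := Coprime.commutator_le_of_le_normalizer hV1
  have hW'V : W' ≤ V := Coprime.commutator_le_of_le_normalizer hV2
  by_cases hE : D' ≤ D
  · exact Or.inl (eq_of_le_of_card_ge (commutator_mono le_rfl hE) (by rw [h.card, h'.card]))
  by_cases hE' : D ≤ D'
  · exact Or.inl (eq_of_le_of_card_ge (commutator_mono le_rfl hE') (by rw [h.card, h'.card])).symm
  -- a proper normal subgroup of `D ⊔ D'` containing either
  have small : ∀ {U U' : Subgroup G}, U ≤ F → U' ≤ F → ¬ U' ≤ U → ∀ e ∈ U',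
      Nat.card ↥(U ⊔ MulAut.conj e • U) < Nat.card ↥(U ⊔ U') := by
    intro U U' hU hU' hne e he
    set E := U ⊔ U'
    haveI : Group.IsNilpotent E :=
      haveI := f.nilF
      Group.nilpotent_of_mulEquiv (subgroupOfEquivOfLe (sup_le hU hU' : E ≤ F))
    have htop : U.subgroupOf E ≠ ⊤ := fun e' => hne (le_sup_right.trans (subgroupOf_eq_top.mp e'))
    obtain ⟨M, hM, hUM⟩ := (eq_top_or_exists_le_coatom (U.subgroupOf E)).resolve_left htop
    haveI : M.Normal :=
      Subgroup.NormalizerCondition.normal_of_coatom M Group.normalizerCondition_of_isNilpotent hM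
    have hle : U ⊔ MulAut.conj e • U ≤ M.map E.subtype := by
      refine sup_le (fun u hu => ⟨⟨u, mem_sup_left hu⟩, hUM (mem_subgroupOf.mpr hu), rfl⟩) ?_
      rintro _ ⟨u, hu, rfl⟩
      exact ⟨_, Subgroup.Normal.conj_mem inferInstance _ (hUM (mem_subgroupOf.mpr hu :
        (⟨u, mem_sup_left hu⟩ : E) ∈ U.subgroupOf E)) (⟨e, mem_sup_right he⟩ : E), rfl⟩
    refine lt_of_le_of_lt (card_le_of_le hle) (lt_of_le_of_ne (card_le_of_le (map_subtype_le M)) ?_)
    intro hc
    refine hM.1 (top_le_iff.mp fun z _ => ?_)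
    obtain ⟨w, hw, e'⟩ := (eq_of_le_of_card_ge (map_subtype_le M) hc.ge).ge z.2
    exact Subtype.ext e' ▸ hw
  have step : ∀ e ∈ D', MulAut.conj e • W = W ∨
      D ≤ centralizer ((MulAut.conj e • W : Subgroup G) : Set G) := by
    intro e he
    have hc := h.conj (hV2 he) (le_normalizer (h'.le he))
    have hWe : ⁅V, MulAut.conj e • D⁆ = MulAut.conj e • W := by
      rw [hW, Coprime.conj_smul_commutator, Coprime.conj_smul_eq_self_iff.mpr (hV2 he)]
    have hlt := small h.le h'.le hE e he
    rw [hn] at hlt
    rcases ih _ hlt h hc rfl with h1 | ⟨-, h2⟩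
    · exact Or.inl (hWe.symm.trans h1)
    · exact Or.inr (hWe ▸ h2)
  have step' : ∀ d ∈ D, MulAut.conj d • W' = W' ∨
      D' ≤ centralizer ((MulAut.conj d • W' : Subgroup G) : Set G) := by
    intro d hd
    have hc := h'.conj (hV1 hd) (le_normalizer (h.le hd))
    have hWe : ⁅V, MulAut.conj d • D'⁆ = MulAut.conj d • W' := by
      rw [hW', Coprime.conj_smul_commutator, Coprime.conj_smul_eq_self_iff.mpr (hV1 hd)]
    have hlt := small h'.le h.le hE' d hd
    rw [sup_comm D' D, hn] at hlt
    rcases ih _ hlt h' hc rfl with h1 | ⟨-, h2⟩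
    · exact Or.inl (hWe.symm.trans h1)
    · exact Or.inr (hWe ▸ h2)
  have hfree : ∀ {U : Subgroup G} {v : G}, U ≤ F → v ∈ ⁅V, U⁆ → v ∈ centralizer (U : Set G) →
      v = 1 := fun {U v} hU hv hvc =>
    mem_bot.mp ((f.splitV hU).2.1 ▸
      ⟨hv, (Coprime.commutator_le_of_le_normalizer (hU.trans f.normF)) hv, hvc⟩)
  have hnV : ∀ {U : Subgroup G}, U ≤ V → V ≤ normalizer (U : Set G) := fun {U} hU c hc =>
    mem_normalizer_iff.mpr fun w =>
      ⟨fun hw => by rw [Hyperplane.mem_comm f.elemV hc (hU hw), mul_inv_cancel_right]; exact hw,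
      fun hw => by
        have hwV : w ∈ V := by simpa [mul_assoc] using V.mul_mem (V.mul_mem (V.inv_mem hc) (hU hw)) hc
        rwa [Hyperplane.mem_comm f.elemV hc hwV, mul_inv_cancel_right] at hw⟩
  by_cases hstab : D' ≤ normalizer (W : Set G)
  · have hn' : D' ≤ normalizer ((W' ⊓ W : Subgroup G) : Set G) := fun g hg =>
      inf_normalizer_le_normalizer_inf
        ⟨le_normalizer_commutator' (hV2 hg) (le_normalizer hg), hstab hg⟩
    rcases h'.irr _ inf_le_left hn' with h1 | h1
    swap
    · exact Or.inl (eq_of_le_of_card_ge (inf_eq_left.mp h1) (by rw [h.card, h'.card]))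
    have hD'W : D' ≤ centralizer (W : Set G) := by
      refine Coprime.commutator_eq_bot_iff_le_centralizer'.mp (le_bot_iff.mp ?_)
      rw [← h1]
      exact le_inf (commutator_mono hWV le_rfl) (Coprime.commutator_le_of_le_normalizer hstab)
    refine Or.inr ⟨hD'W, ?_⟩
    by_cases hd' : D ≤ normalizer (W' : Set G)
    · refine Coprime.commutator_eq_bot_iff_le_centralizer'.mp (le_bot_iff.mp ?_)
      rw [← h1]
      exact le_inf (Coprime.commutator_le_of_le_normalizer hd') (commutator_mono hW'V le_rfl)
    exfalso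
    obtain ⟨d, hd, hdn⟩ := SetLike.not_le_iff_exists.mp hd'
    have hdW : MulAut.conj d • W' ≤ W := by
      intro v hv
      have hv' : v ∈ W' ⊔ W := by
        obtain ⟨u, hu, rfl⟩ := hv
        show d * u * d⁻¹ ∈ W' ⊔ W
        rw [conj_eq_comm_mul]
        refine mul_mem (mem_sup_right ?_) (mem_sup_left hu)
        rw [hW, ← commutatorElement_inv]
        exact inv_mem (commutator_mem_commutator (hW'V hu) hd)
      obtain ⟨u, hu, w, hw, rfl⟩ :=
        (Coprime.mem_sup_of_le_normalizer (hWV.trans (hnV hW'V))).mp hv'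
      have hfix : u * w ∈ centralizer (D' : Set G) := le_centralizer_iff.mp
        ((step' d hd).resolve_left fun e => hdn (Coprime.conj_smul_eq_self_iff.mp e)) hv
      have hu' : u ∈ centralizer (D' : Set G) := by
        simpa using mul_mem hfix (inv_mem (le_centralizer_iff.mp hD'W hw))
      rw [hfree h'.le hu hu', one_mul]
      exact hw
    have heq : MulAut.conj d • W' = W :=
      eq_of_le_of_card_ge hdW (by rw [Coprime.card_conj_smul, h.card, h'.card])
    have hW'W : W' = W := by
      rw [← Coprime.conj_inv_smul_smul d W', heq]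
      exact Coprime.conj_smul_eq_self_iff.mpr
        (inv_mem (le_normalizer_commutator' (hV1 hd) (le_normalizer hd)))
    have h1' : W = ⊥ := by
      refine le_bot_iff.mp (le_of_le_of_eq (le_inf ?_ le_rfl) h1)
      exact hW'W.ge
    have := h.card
    rw [← hW, h1', card_bot] at this
    exact absurd (Nat.one_lt_pow two_ne_zero hp.out.one_lt) (by omega)
  -- some element of `D'` moves `W`
  exfalso
  obtain ⟨e, he, hen⟩ := SetLike.not_le_iff_exists.mp hstab
  set We := MulAut.conj e • W with hWe
  have hDWe : D ≤ centralizer (We : Set G) :=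
    (step e he).resolve_left fun h1 => hen (Coprime.conj_smul_eq_self_iff.mp h1)
  have hWeV : We ≤ V := by
    rw [hWe, ← Coprime.conj_smul_eq_self_iff.mpr (hV2 he)]
    exact pointwise_smul_le_pointwise_smul_iff.mpr hWV
  have hd1 : Disjoint W We := disjoint_def.mpr fun hv hv' =>
    hfree h.le hv (le_centralizer_iff.mp hDWe hv')
  have hin : ∀ g ∈ D', MulAut.conj g • W ≤ W ⊔ W' := by
    rintro g hg _ ⟨w, hw, rfl⟩
    show g * w * g⁻¹ ∈ W ⊔ W'
    rw [conj_eq_comm_mul]
    refine mul_mem (mem_sup_right ?_) (mem_sup_left hw)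
    rw [hW', ← commutatorElement_inv]
    exact inv_mem (commutator_mem_commutator (hWV hw) hg)
  have hWWe : W ⊔ We ≤ W ⊔ W' := sup_le le_sup_left (hin e he)
  have hcard : Nat.card ↥(W ⊔ We) = p ^ 2 * p ^ 2 := by
    rw [Coprime.card_sup_of_disjoint (hWeV.trans (hnV hWV)) hd1, hWe, Coprime.card_conj_smul, h.card]
  have hsup : W ⊔ We = W ⊔ W' := by
    refine eq_of_le_of_card_ge hWWe (le_of_le_of_eq ?_ hcard.symm)
    exact (Nat.le_of_dvd (Nat.mul_pos Nat.card_pos Nat.card_pos)
      (Signalizer.card_sup_dvd (hW'V.trans (hnV hWV)))).trans_eq (by rw [h.card, h'.card])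
  have hd2 : Disjoint W W' := by
    rw [disjoint_iff]
    by_contra hne
    have hlt : Nat.card ↥(W ⊔ W') < p ^ 2 * p ^ 2 := by
      have h1 := card_eq_card_quotient_mul_card_subgroup ((W ⊓ W').subgroupOf W')
      have h2 : Nat.card ↥(W ⊔ W') = Nat.card W * W.relIndex (W ⊔ W') := by
        rw [← relIndex_bot_left, ← relIndex_bot_left, relIndex_mul_relIndex _ _ _ bot_le le_sup_left]
      have h2' : W.relIndex (W ⊔ W') = W.relIndex W' := by
        have hn : W' ≤ normalizer (W : Set G) := hW'V.trans (hnV hWV)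
        have : (W.subgroupOf (normalizer (W : Set G))).Normal := normal_in_normalizer
        have h := relIndex_sup_right (W'.subgroupOf (normalizer (W : Set G)))
          (W.subgroupOf (normalizer (W : Set G)))
        rw [← subgroupOf_sup hn le_normalizer, relIndex_subgroupOf (sup_le hn le_normalizer),
          relIndex_subgroupOf hn, sup_comm] at h
        exact h
      rw [h2'] at h2
      have h3 : W.relIndex W' < p ^ 2 := by
        rw [← inf_relIndex_right, relIndex, index_eq_card]
        rw [h'.card] at h1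
        have : 1 < Nat.card ↥((W ⊓ W').subgroupOf W') := by
          rw [Nat.card_congr (subgroupOfEquivOfLe inf_le_right).toEquiv]
          exact (one_lt_card_iff_ne_bot _).mpr hne
        rw [h1]
        exact lt_mul_of_one_lt_right Nat.card_pos this
      rw [h2, h.card]
      exact Nat.mul_lt_mul_of_pos_left h3 (pow_pos hp.out.pos 2)
    rw [← hsup, hcard] at hlt
    exact lt_irrefl _ hlt
  have hcover : ∀ g ∈ D', g ∉ normalizer (W : Set G) → MulAut.conj g • W = We := by
    intro g hg hgn
    refine eq_of_le_of_card_ge ?_ (by rw [hWe, Coprime.card_conj_smul, Coprime.card_conj_smul])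
    intro v hv
    have hvc : v ∈ centralizer (D : Set G) := le_centralizer_iff.mp
      ((step g hg).resolve_left fun h1 => hgn (Coprime.conj_smul_eq_self_iff.mp h1)) hv
    obtain ⟨w, hw, u, hu, rfl⟩ :=
      (Coprime.mem_sup_of_le_normalizer (hWeV.trans (hnV hWV))).mp (hsup ▸ hin g hg hv)
    have hw' : w ∈ centralizer (D : Set G) := by
      simpa using mul_mem hvc (inv_mem (le_centralizer_iff.mp hDWe hu))
    rw [hfree h.le hw hw', one_mul]
    exact hu
  obtain ⟨g, hg, hg1⟩ : ∃ g ∈ D' ⊓ normalizer (W : Set G), g ≠ 1 := by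
    by_contra hc
    push Not at hc
    classical
    have hinj : Function.Injective (fun g : D' => decide ((g : G) = 1)) := by
      intro g k hgk
      simp only [decide_eq_decide] at hgk
      by_cases h1 : (g : G) = 1
      · exact Subtype.ext (h1.trans (hgk.mp h1).symm)
      · have h2 : (k : G) ≠ 1 := fun h2 => h1 (hgk.mpr h2)
        have e1 := hcover g g.2 fun hn => h1 (hc g ⟨g.2, hn⟩)
        have e2 := hcover k k.2 fun hn => h2 (hc k ⟨k.2, hn⟩)
        have : (k : G)⁻¹ * g ∈ normalizer (W : Set G) := Coprime.conj_smul_eq_self_iff.mp (by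
          rw [Coprime.conj_smul_mul, e1, ← e2, Coprime.conj_inv_smul_smul])
        exact Subtype.ext (inv_mul_eq_one.mp (hc _ ⟨D'.mul_mem (D'.inv_mem k.2) g.2, this⟩)).symm
    have := Nat.card_le_card_of_injective _ hinj
    have h2 := h'.big
    rw [Nat.card_eq_fintype_card (α := Bool)] at this
    simp at this
    omega
  obtain ⟨hgD, hgW⟩ := hg
  have hfixW : ∀ w ∈ W, ⁅g, w⁆ = 1 := by
    intro w hw
    refine disjoint_def.mp hd2 (comm_mem hgW hw) ?_
    rw [hW', ← commutatorElement_inv]
    exact inv_mem (commutator_mem_commutator (hWV hw) hgD)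
  have hgWe : g ∈ normalizer (We : Set G) := by
    refine Coprime.conj_smul_eq_self_iff.mp ?_
    rw [hWe, ← Coprime.conj_smul_mul]
    refine hcover _ (D'.mul_mem hgD he) fun hmem => hen ?_
    simpa using (normalizer (W : Set G)).mul_mem ((normalizer (W : Set G)).inv_mem hgW) hmem
  have hd3 : Disjoint We W' := by
    have hW'e : MulAut.conj e • W' = W' :=
      Coprime.conj_smul_eq_self_iff.mpr (le_normalizer_commutator' (hV2 he) (le_normalizer he))
    refine disjoint_def.mpr fun {v} hv hv' => ?_
    obtain ⟨w, hw, rfl⟩ := hv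
    obtain ⟨u, hu, hue⟩ := hW'e.ge hv'
    have huw : u = w := (MulAut.conj e).injective hue
    subst huw
    rw [disjoint_def.mp hd2 hw hu]
    simp
  have hfixWe : ∀ w ∈ We, ⁅g, w⁆ = 1 := by
    intro w hw
    refine disjoint_def.mp hd3 (comm_mem hgWe hw) ?_
    rw [hW', ← commutatorElement_inv]
    exact inv_mem (commutator_mem_commutator (hWeV hw) hgD)
  apply hg1
  have hsupc : W ⊔ We ≤ centralizer {g} := by
    refine sup_le (fun w hw => ?_) (fun w hw => ?_) <;>
      refine mem_centralizer_singleton_iff.mpr (commutatorElement_eq_one_iff_mul_comm.mp ?_).symm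
    · exact hfixW w hw
    · exact hfixWe w hw
  refine f.eq_of_agree (h'.le hgD) F.one_mem (f.splitV h'.le).1.ge ?_ ?_
  · intro v hv
    rw [conj_eq_self (mem_centralizer_singleton_iff.mp (hsupc (hsup ▸ mem_sup_right hv))).symm]
    simp
  · intro v hv
    rw [conj_eq_self (mem_centralizer_iff.mp hv.2 g hgD)]
    simp

/-- `T` centralises every subgroup of `F` moving only a plane. -/
theorem no_small_plane {x : G} (hx : x ∈ T) {D : Subgroup G} (hD : D ≤ F)
    (hxD : x ∈ normalizer (D : Set G)) (hcard : Nat.card (⁅V, D⁆ : Subgroup G) = p ^ 2) :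
    x ∈ centralizer (D : Set G) := by
  haveI := f.elemV.1
  haveI := Fact.mk f.primeR
  haveI := f.nilF
  refine mem_centralizer_iff.mpr fun d₀ hd₀ => ?_
  by_contra hmove
  set W := ⁅V, D⁆ with hW
  set C := V ⊓ centralizer (D : Set G) with hC
  obtain ⟨hsup, hdisj, -⟩ := f.splitV hD
  have hWV : W ≤ V := Coprime.commutator_le_of_le_normalizer (hD.trans f.normF)
  have hDW : D ≤ normalizer (W : Set G) := fun g hg =>
    le_normalizer_commutator' (hD.trans f.normF hg) (le_normalizer hg)
  have hxW : x ∈ normalizer (W : Set G) := le_normalizer_commutator' (f.normT hx) hxD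
  have hxC : x ∈ normalizer (C : Set G) := le_normalizer_centralizer_inf (f.normT hx) hxD
  have hDC : D ≤ centralizer (C : Set G) := le_centralizer_iff.mp inf_le_right
  have heq : ∀ k ∈ D, ∀ l ∈ D, (∀ w ∈ W, k * w * k⁻¹ = l * w * l⁻¹) → k = l := fun k hk l hl h =>
    f.eq_of_agree (hD hk) (hD hl) hsup.ge h fun v hv => by
      rw [conj_eq_self (mem_centralizer_iff.mp (hDC hk) v hv).symm,
        conj_eq_self (mem_centralizer_iff.mp (hDC hl) v hv).symm]
  have hfaith : D ⊓ centralizer (W : Set G) = ⊥ := by
    refine eq_bot_iff.mpr fun k hk => mem_bot.mpr (heq k hk.1 1 D.one_mem fun w hw => ?_)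
    rw [conj_eq_self (mem_centralizer_iff.mp hk.2 w hw).symm]; simp
  -- `x` moves exactly a line of `W`
  have hWe : Cfsg.IsElementaryAbelian p W := elem_le f.elemV hWV
  have hxz : IsPGroup p (zpowers x) := f.pT.to_le (zpowers_le.mpr hx)
  have hxnc : ¬ W ≤ centralizer {x} := fun hle => hmove ((mem_centralizer_conj.mp
      (heq _ (conj_mem_of_normalizer hxD hd₀) d₀ hd₀ fun w hw => by
        have hw' := conj_mem_of_normalizer' hxW hw
        have e1 : x⁻¹ * w * x = w := by
          have := mem_centralizer_singleton_iff.mp (hle hw)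
          rw [mul_assoc, this, inv_mul_cancel_left]
        have e2 : d₀ * w * d₀⁻¹ ∈ W := conj_mem_of_normalizer (hDW hd₀) hw
        calc x * d₀ * x⁻¹ * w * (x * d₀ * x⁻¹)⁻¹ = x * (d₀ * (x⁻¹ * w * x) * d₀⁻¹) * x⁻¹ := by
              group
          _ = d₀ * w * d₀⁻¹ := by
            rw [e1]; exact conj_eq_self (mem_centralizer_singleton_iff.mp (hle e2)).symm)).eq.symm)
  have hW1 : W ≠ ⊥ := fun e => hxnc (e ▸ bot_le)
  have hdiv : ∀ U : Subgroup G, U ≤ W → U = ⊥ ∨ U = W ∨ Nat.card U = p := by
    intro U hU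
    have h1 := card_dvd_of_le hU
    rw [hcard] at h1
    obtain ⟨i, hi, e⟩ := (Nat.dvd_prime_pow hp.out).mp h1
    interval_cases i
    · exact Or.inl (eq_bot_of_card_eq U (by simpa using e))
    · exact Or.inr (Or.inr (by simpa using e))
    · exact Or.inr (Or.inl (eq_of_le_of_card_ge hU (by rw [hcard, e])))
  have hzW : zpowers x ≤ normalizer (W : Set G) := zpowers_le.mpr hxW
  have hCx : W ⊓ centralizer {x} ≠ ⊥ := by
    have := fixed_ne_bot (Hyperplane.isPGroup hWe) hxz hzW hW1
    rwa [zpowers_eq_closure, centralizer_closure] at this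
  have hcx : Nat.card ↥(W ⊓ centralizer {x}) = p :=
    ((hdiv _ inf_le_left).resolve_left hCx).resolve_left fun e => hxnc (e ▸ inf_le_right)
  have hmvc : Nat.card (mv W x) = p := by
    have h1 := card_mv hWe hxW
    rw [hcx, hcard, sq] at h1
    exact Nat.eq_of_mul_eq_mul_right hp.out.pos h1
  have hsq : Sq W x := by
    intro w hw
    have hm : mv W x ≤ centralizer {x} := by
      have hn : zpowers x ≤ normalizer ((mv W x : Subgroup G) : Set G) := by
        refine zpowers_le.mpr (mem_normalizer_iff.mpr fun z => ?_)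
        have key : ∀ g ∈ zpowers x, ∀ z ∈ mv W x, g * z * g⁻¹ ∈ mv W x := by
          intro g hg z hz
          have hle : (mv W x).map (MulAut.conj g).toMonoidHom ≤ mv W x := by
            rw [mv, MonoidHom.map_closure, closure_le]
            rintro _ ⟨_, ⟨v, hv, rfl⟩, rfl⟩
            have hgx : Commute g x := by
              obtain ⟨n, rfl⟩ := mem_zpowers_iff.mp hg
              exact (Commute.refl x).zpow_left n
            refine subset_closure ⟨g * v * g⁻¹, conj_mem_of_normalizer (hzW hg) hv, ?_⟩
            show ⁅x, g * v * g⁻¹⁆ = g * ⁅x, v⁆ * g⁻¹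
            simp only [commutatorElement_def]
            calc x * (g * v * g⁻¹) * x⁻¹ * (g * v * g⁻¹)⁻¹
                = (x * g) * v * (g⁻¹ * x⁻¹) * g * v⁻¹ * g⁻¹ := by group
              _ = (g * x) * v * (g⁻¹ * x⁻¹) * g * v⁻¹ * g⁻¹ := by rw [hgx.eq]
              _ = g * x * v * (x * g)⁻¹ * g * v⁻¹ * g⁻¹ := by group
              _ = g * x * v * (g * x)⁻¹ * g * v⁻¹ * g⁻¹ := by rw [hgx.eq]
              _ = g * (x * v * x⁻¹ * v⁻¹) * g⁻¹ := by group
          exact hle ⟨z, hz, rfl⟩
        exact ⟨key x (mem_zpowers x) z, fun hz => by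
          simpa [mul_assoc] using key x⁻¹ (inv_mem (mem_zpowers x)) _ hz⟩
      have h1 : mv W x ⊓ centralizer (zpowers x : Set G) ≠ ⊥ :=
        fixed_ne_bot (Hyperplane.isPGroup (elem_le hWe (mv_le_self hxW))) hxz hn fun e => by
          rw [e, card_bot] at hmvc
          exact hp.out.ne_one hmvc.symm
      rw [zpowers_eq_closure, centralizer_closure] at h1
      refine (eq_of_le_of_card_ge inf_le_left ?_).ge.trans inf_le_right
      rw [hmvc]
      rcases hdiv _ (inf_le_left.trans (mv_le_self hxW)) with e | e | e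
      · exact absurd e h1
      · rw [e, hcard]
        exact le_self_pow₀ hp.out.one_lt.le two_ne_zero
      · exact e.ge
    exact (mem_centralizer_singleton_iff.mp (hm (comm_mem_mv hw))).symm
  -- `p = 3` and `D` nonabelian, or `p = 2`
  have hcases : p = 2 ∨ (p = 3 ∧ 2 ∣ Nat.card D ∧ ¬ IsMulCommutative D) := by
    by_cases hp2 : p = 2
    · exact Or.inl hp2
    have hsol : Group.IsSolvable D :=
      haveI : Group.IsNilpotent D := Group.nilpotent_of_mulEquiv (subgroupOfEquivOfLe hD)
      inferInstance
    obtain ⟨h3, S, hS, hS2, hSc⟩ := quad_moved hp2 hWe hDW hxW hsq hxD (f.not_dvd hD) hsol hxz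
      fun hle => hmove (by
        have h1 : ⁅d₀, x⁆ ∈ D ⊓ centralizer (W : Set G) :=
          ⟨D.mul_mem (D.mul_mem (D.mul_mem hd₀ (one_mem D)) (D.one_mem)) (one_mem D) |> fun _ => by
            rw [commutatorElement_def, mul_assoc, mul_assoc, ← mul_assoc x]
            exact D.mul_mem hd₀ (conj_mem_of_normalizer hxD (D.inv_mem hd₀)),
          hle (commutator_mem_commutator hd₀ (mem_zpowers x))⟩
        exact commutatorElement_eq_one_iff_mul_comm.mp (mem_bot.mp (hfaith ▸ h1)))
    refine Or.inr ⟨h3, ?_, fun hc => hSc ⟨⟨fun u v => Subtype.ext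
      (congrArg Subtype.val (hc.is_comm.comm ⟨_, hS u.2⟩ ⟨_, hS v.2⟩) :)⟩⟩⟩
    obtain ⟨k, hk⟩ := IsPGroup.iff_card.mp hS2
    rcases k with _ | k
    · exfalso
      apply hSc
      rw [eq_bot_of_card_eq S (by simpa using hk)]
      infer_instance
    · exact (Dvd.intro_left _ (pow_succ 2 k).symm).trans (hk ▸ card_dvd_of_le hS)
  have hfree : ∀ U : Subgroup G, U ≤ W → U ≤ centralizer (D : Set G) → U = ⊥ := fun U h1 h2 =>
    le_bot_iff.mp (hdisj ▸ le_inf h1 (le_inf (h1.trans hWV) h2))
  have hpl : IsPlaneGroup p V F D := by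
    refine ⟨hD, hcard, fun L hL hn => ?_, ?_⟩
    · rcases hdiv L hL with e | e | e
      · exact Or.inl e
      · exact Or.inr e
      · exfalso
        have hLne : L ≠ ⊥ := fun e' => by rw [e', card_bot] at e; exact hp.out.ne_one e.symm
        rcases hcases with rfl | ⟨rfl, -, hnc⟩
        · refine hLne (hfree L hL fun v hv => mem_centralizer_iff.mpr fun k hk => ?_)
          by_cases hv1 : v = 1
          · subst hv1; simp
          have huniq : ∀ w ∈ L, w ≠ 1 → w = v := by
            intro w hw hw1
            have h2 := Nat.card_eq_two_iff' (1 : L) |>.mp e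
            obtain ⟨y, -, hy⟩ := h2
            exact congrArg Subtype.val ((hy ⟨w, hw⟩ (fun h => hw1 (congrArg Subtype.val h))).trans
              (hy ⟨v, hv⟩ (fun h => hv1 (congrArg Subtype.val h))).symm)
          have h3 := huniq _ (conj_mem_of_normalizer (hn hk) hv) (by simpa using hv1)
          exact mul_inv_eq_iff_eq_mul.mp h3
        · -- every element of `D` squares to one
          have hidx : Nat.card (W ⧸ L.subgroupOf W) = 3 := by
            have h4 := card_eq_card_quotient_mul_card_subgroup (L.subgroupOf W)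
            rw [hcard, Nat.card_congr (subgroupOfEquivOfLe hL).toEquiv, e, sq] at h4
            exact (Nat.eq_of_mul_eq_mul_right (by norm_num) h4).symm
          haveI : (L.subgroupOf W).Normal := by
            haveI := hWe.1
            infer_instance
          have hline : ∀ a ∈ W, a ∉ L → ∀ b ∈ W, b ∉ L → ∀ c ∈ W, c ∉ L →
              a⁻¹ * b ∈ L ∨ a⁻¹ * c ∈ L ∨ b⁻¹ * c ∈ L := by
            intro a ha haL b hb hbL c hc hcL
            by_contra hno
            push Not at hno
            haveI := Fintype.ofFinite (W ⧸ L.subgroupOf W)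
            classical
            set q := QuotientGroup.mk' (L.subgroupOf W)
            have hinj : ({1, q ⟨a, ha⟩, q ⟨b, hb⟩, q ⟨c, hc⟩} : Finset _).card = 4 := by
              have hne1 : ∀ z (hz : z ∈ W), z ∉ L → (1 : W ⧸ L.subgroupOf W) ≠ q ⟨z, hz⟩ :=
                fun z hz hzL h => hzL (mem_subgroupOf.mp ((QuotientGroup.eq_one_iff _).mp h.symm))
              have hne2 : ∀ z (hz : z ∈ W) y (hy : y ∈ W), z⁻¹ * y ∉ L →
                  q ⟨z, hz⟩ ≠ q ⟨y, hy⟩ :=
                fun z hz y hy hzy h => hzy (mem_subgroupOf.mp (QuotientGroup.eq.mp h))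
              simp [Finset.card_insert_of_notMem, hne1 a ha haL, hne1 b hb hbL, hne1 c hc hcL,
                hne2 a ha b hb hno.1, hne2 a ha c hc hno.2.1, hne2 b hb c hc hno.2.2]
            have := Finset.card_le_univ ({1, q ⟨a, ha⟩, q ⟨b, hb⟩, q ⟨c, hc⟩} : Finset _)
            rw [hinj, ← Nat.card_eq_fintype_card, hidx] at this
            omega
          have hsq2 : ∀ m ∈ D, m * m = 1 := by
            intro m hm
            have hmm := D.mul_mem hm hm
            have hLc : m * m ∈ centralizer (L : Set G) := by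
              refine mem_centralizer_iff.mpr fun z hz => (mem_centralizer_conj.mp ?_).eq.symm
              haveI : IsCyclic L := isCyclic_of_prime_card e
              obtain ⟨g₀, hg₀⟩ := IsCyclic.exists_generator (α := L)
              obtain ⟨i, hi⟩ := mem_zpowers_iff.mp (hg₀ ⟨_, conj_mem_of_normalizer (hn hm) g₀.2⟩)
              obtain ⟨j, hj⟩ := mem_zpowers_iff.mp (hg₀ ⟨z, hz⟩)
              have hi' : (g₀ : G) ^ i = m * g₀ * m⁻¹ := congrArg Subtype.val hi
              have hj' : (g₀ : G) ^ j = z := congrArg Subtype.val hj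
              have h3 : (g₀ : G) ^ (3 : ℕ) = 1 := hWe.2 _ (hL g₀.2)
              have h3' : (g₀ : G) ^ (3 : ℤ) = 1 := by exact_mod_cast h3
              have hcs : (g₀ : G) ^ (i * i) = g₀ := by
                have hmod : (g₀ : G) ^ i = 1 ∨ (i * i) % 3 = 1 := by
                  rcases (show i % 3 = 0 ∨ i % 3 = 1 ∨ i % 3 = 2 by omega) with h | h | h
                  · left
                    rw [← Int.mul_ediv_add_emod i 3, h, add_zero, zpow_mul]
                    rw [h3', one_zpow]
                  · right; rw [Int.mul_emod, h]; norm_num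
                  · right; rw [Int.mul_emod, h]; norm_num
                rcases hmod with h | h
                · rw [h] at hi'
                  have hg1 : (g₀ : G) = 1 := conj_eq_one_iff.mp hi'.symm
                  rw [hg1, one_zpow]
                · rw [← Int.mul_ediv_add_emod (i * i) 3, h, zpow_add, zpow_one, zpow_mul]
                  rw [h3', one_zpow, one_mul]
              calc m * m * z * (m * m)⁻¹ = m * (m * z * m⁻¹) * m⁻¹ := by group
                _ = z := by
                  have hstep : ∀ l : ℤ, m * (g₀ : G) ^ l * m⁻¹ = (g₀ : G) ^ (i * l) := fun l => by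
                    rw [← conj_zpow, ← hi', zpow_mul]
                  rw [← hj', hstep, hstep, ← mul_assoc, zpow_mul, hcs]
            have hWL : ⁅W, zpowers (m * m)⁆ ≤ L := by
              rw [commutator_comm, commutator_le]
              intro y hy w hw
              obtain ⟨n, rfl⟩ :=
                (IsOfFinOrder.mem_powers_iff_mem_zpowers (isOfFinOrder_of_finite (m * m))).mpr hy
              have hmv : mv W (m * m) ≤ L := mv_le fun v hv => by
                by_cases hvL : v ∈ L
                · exact comm_mem (hn hmm) hvL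
                have h1 := conj_mem_of_normalizer (hDW hm) hv
                have h1L : m * v * m⁻¹ ∉ L := fun h => hvL (by
                  simpa [mul_assoc] using conj_mem_of_normalizer' (hn hm) h)
                have h2 := conj_mem_of_normalizer (hDW hm) h1
                have h2L : m * (m * v * m⁻¹) * m⁻¹ ∉ L := fun h => h1L (by
                  simpa [mul_assoc] using conj_mem_of_normalizer' (hn hm) h)
                have h3 : v⁻¹ * (m * (m * v * m⁻¹) * m⁻¹) ∈ L := by
                  rcases hline v hv hvL _ h1 h1L _ h2 h2L with h | h | h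
                  · have h' : m * (v⁻¹ * (m * v * m⁻¹)) * m⁻¹ ∈ L :=
                      conj_mem_of_normalizer (hn hm) h
                    simpa [mul_assoc] using L.mul_mem h h'
                  · exact h
                  · have h' := conj_mem_of_normalizer' (hn hm) h
                    have h'' : v⁻¹ * (m * v * m⁻¹) ∈ L := by simpa [mul_assoc] using h'
                    simpa [mul_assoc] using L.mul_mem h'' h
                have e1 : ⁅m * m, v⁆ = v⁻¹ * (m * (m * v * m⁻¹) * m⁻¹) := by
                  rw [Hyperplane.mem_comm hWe (W.inv_mem hv) h2, commutatorElement_def]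
                  group
                rw [e1]
                exact h3
              exact hmv (comm_pow_mem_mv (hDW hmm) n w hw)
            have h5 := le_centralizer_of_chain hWe
              (f.not_dvd (zpowers_le.mpr (hD hmm))) (zpowers_le.mpr (hDW hmm)) hWL
              (zpowers_le.mpr hLc)
            exact mem_bot.mp (hfaith ▸ ⟨hmm, h5 (mem_zpowers _)⟩)
          refine hnc ⟨⟨fun u v => Subtype.ext ?_⟩⟩
          have hinv : ∀ m ∈ D, m⁻¹ = m := fun m hm => inv_eq_of_mul_eq_one_right (hsq2 m hm)
          show (u : G) * v = v * u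
          rw [← hinv _ (D.mul_mem u.2 v.2), mul_inv_rev, hinv _ u.2, hinv _ v.2]
    · rcases hcases with rfl | ⟨-, -, hnc⟩
      · have h1 : Nat.card D ≠ 1 := fun e => hmove (by
          have := eq_bot_of_card_eq D e ▸ hd₀
          rw [mem_bot.mp this]; simp)
        have h2 : Nat.card D ≠ 2 := fun e => f.not_dvd hD (e ▸ dvd_refl _)
        have := Nat.card_pos (α := D)
        omega
      · by_contra hle
        refine hnc ?_
        have : Nat.card D = 1 ∨ Nat.card D = 2 := by
          have := Nat.card_pos (α := D)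
          omega
        rcases this with e | e
        · exact eq_bot_of_card_eq D e ▸ inferInstance
        · haveI := Fact.mk Nat.prime_two
          haveI : IsCyclic D := isCyclic_of_prime_card e
          exact IsCyclic.isMulCommutative
  -- an element of `A` fixing the plane fixes it pointwise
  have hr : r ≠ 2 ∧ r ≠ 3 := by
    rcases hcases with rfl | ⟨rfl, h2, -⟩
    · refine ⟨f.ne, fun e => f.coprimeF ?_⟩
      subst e
      have h1 : Nat.card D ≠ 1 := fun e => by
        have := hpl.big
        omega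
      obtain ⟨q, hq, hqd⟩ := Nat.exists_prime_and_dvd h1
      haveI := Fact.mk hq
      obtain ⟨y, hy⟩ := exists_prime_orderOf_dvd_card' q hqd
      have hyq : (y : G) ^ q = 1 := by
        rw [← orderOf_coe] at hy
        rw [← hy, pow_orderOf_eq_one]
      have hy1 : (y : G) ≠ 1 := fun e => by
        rw [← orderOf_coe, e, orderOf_one] at hy
        exact hq.ne_one hy.symm
      have hmod := card_fixed_modEq (r := q) hyq (hDW y.2)
      rw [hcard] at hmod
      have hdv := card_dvd_of_le (inf_le_left : W ⊓ centralizer {(y : G)} ≤ W)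
      rw [hcard] at hdv
      obtain ⟨i, hi, hiq⟩ := (Nat.dvd_prime_pow hp.out).mp hdv
      have hi2 : i ≠ 2 := fun e => hy1 (mem_bot.mp (hfaith ▸ ⟨y.2, mem_centralizer_iff.mpr fun w hw =>
        mem_centralizer_singleton_iff.mp ((eq_of_le_of_card_ge inf_le_left
          (by rw [hcard, hiq, e])).ge.trans inf_le_right hw)⟩))
      rw [hiq] at hmod
      have hq2 : q ≠ 2 := fun e => f.not_dvd hD (e ▸ hqd)
      interval_cases i
      · have h' := (Nat.modEq_iff_dvd' (by norm_num)).mp hmod.symm
        norm_num at h'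
        rw [(Nat.prime_dvd_prime_iff_eq hq Nat.prime_three).mp h'] at hqd
        exact hqd.trans (card_dvd_of_le hD)
      · have h' := (Nat.modEq_iff_dvd' (by norm_num)).mp hmod.symm
        norm_num at h'
        exact absurd ((Nat.prime_dvd_prime_iff_eq hq Nat.prime_two).mp h') hq2
      · exact absurd rfl hi2
    · exact ⟨fun e => f.coprimeF (e ▸ h2.trans (card_dvd_of_le hD)), f.ne⟩
  have hp23 : p = 2 ∨ p = 3 := hcases.imp_right fun h => h.1
  refine hmove (f.commute_of_blocks hWV inf_le_left hsup.ge (hD hd₀) (hDW hd₀) (hDC hd₀) hx hxW hxC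
    (fun a ha haW => ?_) (fun a ha haW => ?_)).eq.symm
  · have hfixa : W ≤ centralizer {a} := by
      have hmod := card_fixed_modEq (r := r) (f.elemA.2 a ha) haW
      rw [hcard] at hmod
      rcases hdiv _ (inf_le_left : W ⊓ centralizer {a} ≤ W) with e | e | e
      · exfalso
        rw [e, card_bot] at hmod
        have h' := (Nat.modEq_iff_dvd' (Nat.one_le_pow _ _ hp.out.pos)).mp hmod.symm
        rcases hp23 with rfl | rfl <;> norm_num at h'
        · exact hr.2 ((Nat.prime_dvd_prime_iff_eq f.primeR Nat.prime_three).mp h')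
        · exact hr.1 ((Nat.prime_dvd_prime_iff_eq f.primeR Nat.prime_two).mp
            (f.primeR.dvd_of_dvd_pow (show r ∣ 2 ^ 3 by norm_num; exact h')))
      · exact e.ge.trans inf_le_right
      · exfalso
        rw [e] at hmod
        have h' := (Nat.modEq_iff_dvd' (le_self_pow₀ hp.out.one_lt.le two_ne_zero)).mp hmod.symm
        rcases hp23 with rfl | rfl <;> norm_num at h'
        · exact hr.1 ((Nat.prime_dvd_prime_iff_eq f.primeR Nat.prime_two).mp h')
        · rcases f.primeR.dvd_mul.mp (show r ∣ 2 * 3 by norm_num; exact h') with h2 | h2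
          · exact hr.1 ((Nat.prime_dvd_prime_iff_eq f.primeR Nat.prime_two).mp h2)
          · exact hr.2 ((Nat.prime_dvd_prime_iff_eq f.primeR Nat.prime_three).mp h2)
    set D' := MulAut.conj a • D
    have hD'F : D' ≤ F := (hpl.conj (f.normA ha) (f.AF ha)).le
    set E := D ⊔ D'
    have hEF : E ≤ F := sup_le hD hD'F
    have hW' : ⁅V, D'⁆ = W := by
      rw [← Coprime.conj_smul_eq_self_iff.mpr (f.normA ha), ← Coprime.conj_smul_commutator]
      exact Coprime.conj_smul_eq_self_iff.mpr haW
    have hVE : ⁅V, E⁆ = W := by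
      refine le_antisymm ?_ (commutator_mono le_rfl le_sup_left)
      have hD'W : D' ≤ normalizer (W : Set G) := fun g hg => by
        rw [← hW']
        exact le_normalizer_commutator' (hD'F.trans f.normF hg) (le_normalizer hg)
      have hset : ∀ g ∈ E, ∀ v ∈ V, ⁅v, g⁆ ∈ W := by
        let S : Subgroup G :=
          { carrier := {g | g ∈ normalizer (W : Set G) ∧ ∀ v ∈ V, ⁅v, g⁆ ∈ W}
            one_mem' := ⟨one_mem _, fun v _ => by simp⟩
            mul_mem' := fun {g k} hg hk => ⟨mul_mem hg.1 hk.1, fun v hv => by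
              rw [commutatorElement_mul_right_eq_mul_conj]
              simpa [mul_assoc] using
                W.mul_mem (hg.2 v hv) (conj_mem_of_normalizer hg.1 (hk.2 v hv))⟩
            inv_mem' := fun {g} hg => ⟨inv_mem hg.1, fun v hv => by
              have e : ⁅v, g⁻¹⁆ = g⁻¹ * (⁅v, g⁆)⁻¹ * g := by
                simp only [commutatorElement_def]; group
              rw [e]
              exact conj_mem_of_normalizer' hg.1 (W.inv_mem (hg.2 v hv))⟩ }
        have hES : E ≤ S := sup_le
          (fun g hg => ⟨hDW hg, fun v hv => commutator_mem_commutator hv hg⟩)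
          (fun g hg => ⟨hD'W hg, fun v hv => hW' ▸ commutator_mem_commutator hv hg⟩)
        exact fun g hg => (hES hg).2
      exact commutator_le.mpr fun v hv g hg => hset g hg v hv
    have hCE : V ⊓ centralizer (E : Set G) = C := by
      refine eq_of_le_of_card_ge (inf_le_inf_left _ (centralizer_le (SetLike.coe_subset_coe.mpr le_sup_left))) ?_
      have h1 := (f.splitV hEF).2.2
      have h2 := (f.splitV hD).2.2
      rw [hVE, ← h2] at h1
      exact (Nat.eq_of_mul_eq_mul_left Nat.card_pos h1).ge
    have hadC : a * d₀ * a⁻¹ ∈ centralizer (C : Set G) := mem_centralizer_iff.mpr fun c hc =>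
      ((mem_centralizer_iff.mp (hCE.ge hc).2 (a * d₀ * a⁻¹) (mem_sup_right ⟨d₀, hd₀, rfl⟩))).symm
    refine mem_centralizer_conj.mp (f.eq_of_agree (conj_mem_of_normalizer (f.AF ha) (hD hd₀))
      (hD hd₀) hsup.ge ?_ ?_)
    · intro w hw
      have hw' : a⁻¹ * w * a = w := by
        rw [mul_assoc, mem_centralizer_singleton_iff.mp (hfixa hw), inv_mul_cancel_left]
      calc a * d₀ * a⁻¹ * w * (a * d₀ * a⁻¹)⁻¹ = a * (d₀ * (a⁻¹ * w * a) * d₀⁻¹) * a⁻¹ := by group
        _ = d₀ * w * d₀⁻¹ := by
          rw [hw']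
          exact conj_eq_self (mem_centralizer_singleton_iff.mp
            (hfixa (conj_mem_of_normalizer (hDW hd₀) hw))).symm
    · intro v hv
      rw [conj_eq_self (mem_centralizer_iff.mp hadC v hv).symm,
        conj_eq_self (mem_centralizer_iff.mp (hDC hd₀) v hv).symm]
  · rcases f.plane_pair hpl (hpl.conj (f.normA ha) (f.AF ha)) with h1 | ⟨h1, -⟩
    · refine absurd (Coprime.conj_smul_eq_self_iff.mp ?_) haW
      calc MulAut.conj a • W = ⁅V, MulAut.conj a • D⁆ := by
            rw [hW, Coprime.conj_smul_commutator, Coprime.conj_smul_eq_self_iff.mpr (f.normA ha)]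
        _ = W := h1
    · exact h1 ⟨d₀, hd₀, rfl⟩

end Frame

end Cfsg.Agent.SolvableSignalizer.Linear
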