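import Cfsg.Agent.Lib.SolvableSignalizer.Linear.Basic

/-!
An element of `F` supported on one member of a family of blocks permuted by `A` is centralised by
`T`: the product of its translates is fixed by `A`.
-/

set_option autoImplicit false
set_option linter.style.haveILetI false
set_option linter.unusedSectionVars false

namespace Cfsg.Agent.SolvableSignalizer.Linear

open Subgroup
open Cfsg.Agent.Components
open scoped commutatorElement

variable {p : ℕ} [hp : Fact p.Prime] {G : Type*} [Group G] [Finite G]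

lemma conj_mem_of_normalizer {U : Subgroup G} {g v : G} (hg : g ∈ normalizer (U : Set G))
    (hv : v ∈ U) : g * v * g⁻¹ ∈ U :=
  (mem_normalizer_iff.mp hg v).mp hv

lemma conj_mem_of_normalizer' {U : Subgroup G} {g v : G} (hg : g ∈ normalizer (U : Set G))
    (hv : v ∈ U) : g⁻¹ * v * g ∈ U := by
  simpa using conj_mem_of_normalizer (inv_mem hg) hv

theorem Frame.commute_of_blocks {r : ℕ} {V F T A : Subgroup G} (f : Frame r p V F T A)
    {W C : Subgroup G} (hW : W ≤ V) (hC : C ≤ V) (hWC : V ≤ W ⊔ C) {d : G} (hd : d ∈ F)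
    (hdW : d ∈ normalizer (W : Set G)) (hdC : d ∈ centralizer (C : Set G)) {x : G} (hx : x ∈ T)
    (hxW : x ∈ normalizer (W : Set G)) (hxC : x ∈ normalizer (C : Set G))
    (hfix : ∀ a ∈ A, a ∈ normalizer (W : Set G) → Commute a d)
    (hmove : ∀ a ∈ A, a ∉ normalizer (W : Set G) → a * d * a⁻¹ ∈ centralizer (W : Set G)) :
    Commute x d := by
  haveI := f.elemV.1
  have hsupp : ∀ v ∈ V, ⁅d, v⁆ ∈ W := by
    have hle : V ≤ W ⊔ C := hWC
    intro v hv
    have hn : C ≤ normalizer (W : Set G) := fun c hc => mem_normalizer_iff.mpr fun w =>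
      ⟨fun hw => by rw [Hyperplane.mem_comm f.elemV (hC hc) (hW hw), mul_inv_cancel_right]; exact hw,
      fun hw => by
        have hwV : w ∈ V := by
          simpa [mul_assoc] using V.mul_mem (V.mul_mem (V.inv_mem (hC hc)) (hW hw)) (hC hc)
        rwa [Hyperplane.mem_comm f.elemV (hC hc) hwV, mul_inv_cancel_right] at hw⟩
    obtain ⟨w, hw, c, hc, rfl⟩ := (Coprime.mem_sup_of_le_normalizer hn).mp (hle hv)
    have h1 : ⁅d, w * c⁆ = ⁅d, w⁆ * (w * ⁅d, c⁆ * w⁻¹) := by
      simp only [commutatorElement_def]; group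
    rw [h1, commutatorElement_eq_one_iff_mul_comm.mpr (mem_centralizer_iff.mp hdC c hc).symm]
    simpa using comm_mem hdW hw
  have hconj : ∀ a ∈ A, a * d * a⁻¹ ∈ F := fun a ha => conj_mem_of_normalizer (f.AF ha) hd
  have hcomm : ∀ a ∈ A, ∀ b ∈ A, a⁻¹ * b ∉ normalizer (W : Set G) →
      Commute (a * d * a⁻¹) (b * d * b⁻¹) := by
    intro a ha b hb hab
    set c := a⁻¹ * b
    have hc : c ∈ A := A.mul_mem (A.inv_mem ha) hb
    have h1 : c * d * c⁻¹ ∈ centralizer (W : Set G) := hmove c hc hab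
    have h2 : c⁻¹ * d * c⁻¹⁻¹ ∈ centralizer (W : Set G) :=
      hmove c⁻¹ (A.inv_mem hc) fun h => hab (by simpa using inv_mem h)
    have key : ⁅d, c * d * c⁻¹⁆ = 1 := by
      refine f.faith ?_ (commutator_mem_centralizer f.elemV (f.normF hd)
        (f.normF (hconj c hc)) ?_ ?_)
      · rw [commutatorElement_def]
        exact F.mul_mem (F.mul_mem (F.mul_mem hd (hconj c hc)) (F.inv_mem hd)) (F.inv_mem (hconj c hc))
      · intro v hv
        have hv' : c⁻¹ * v * c ∈ V := conj_mem_of_normalizer' (f.normA hc) hv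
        have h3 : ⁅c * d * c⁻¹, v⁆ = c * ⁅d, c⁻¹ * v * c⁆ * c⁻¹ := by
          simp only [commutatorElement_def]; group
        have h4 := mem_centralizer_iff.mp h2 _ (hsupp _ hv')
        rw [h3]
        show d * (c * ⁅d, c⁻¹ * v * c⁆ * c⁻¹) = c * ⁅d, c⁻¹ * v * c⁆ * c⁻¹ * d
        calc d * (c * ⁅d, c⁻¹ * v * c⁆ * c⁻¹)
            = c * ((c⁻¹ * d * c⁻¹⁻¹) * ⁅d, c⁻¹ * v * c⁆) * c⁻¹ := by group
          _ = c * (⁅d, c⁻¹ * v * c⁆ * (c⁻¹ * d * c⁻¹⁻¹)) * c⁻¹ := by rw [h4]
          _ = _ := by group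
      · intro v hv
        exact (mem_centralizer_iff.mp h1 _ (hsupp v hv)).symm
    have hc' : Commute d (c * d * c⁻¹) := commutatorElement_eq_one_iff_mul_comm.mp key
    have : b * d * b⁻¹ = a * (c * d * c⁻¹) * a⁻¹ := by simp only [c]; group
    rw [this]
    show a * d * a⁻¹ * (a * (c * d * c⁻¹) * a⁻¹) = a * (c * d * c⁻¹) * a⁻¹ * (a * d * a⁻¹)
    calc a * d * a⁻¹ * (a * (c * d * c⁻¹) * a⁻¹) = a * (d * (c * d * c⁻¹)) * a⁻¹ := by group
      _ = a * (c * d * c⁻¹ * d) * a⁻¹ := by rw [hc'.eq]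
      _ = _ := by group
  haveI := f.elemA.1
  set S : Subgroup A := (normalizer (W : Set G)).subgroupOf A
  letI : Fintype (A ⧸ S) := Fintype.ofFinite _
  set g : A ⧸ S → G := fun q => ((q.out : A) : G) * d * ((q.out : A) : G)⁻¹ with hg
  have hgc : ∀ q q' : A ⧸ S, Commute (g q) (g q') := by
    intro q q'
    by_cases e : q = q'
    · exact e ▸ Commute.refl _
    · refine hcomm _ (q.out).2 _ (q'.out).2 fun hmem => e ?_
      have : (q.out)⁻¹ * q'.out ∈ S := mem_subgroupOf.mpr (by simpa using hmem)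
      have h := QuotientGroup.eq.mpr this
      rwa [QuotientGroup.out_eq', QuotientGroup.out_eq'] at h
  set K : Subgroup G := closure (Set.range g)
  haveI hK : IsMulCommutative K := by
    refine isMulCommutative_closure ?_
    rintro _ ⟨q, rfl⟩ _ ⟨q', rfl⟩
    exact hgc q q'
  letI : CommGroup K := { (inferInstance : Group K) with mul_comm := fun u v => hK.is_comm.comm u v }
  set gK : A ⧸ S → K := fun q => ⟨g q, subset_closure ⟨q, rfl⟩⟩
  set P : K := ∏ q, gK q
  have hKF : K ≤ F := (closure_le _).mpr (by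
    rintro _ ⟨q, rfl⟩
    exact hconj _ (q.out).2)
  -- `A` fixes the product
  have hPA : ∀ c ∈ A, Commute c (P : G) := by
    intro c hc
    set cA : A := ⟨c, hc⟩
    have hval : ∀ q : A ⧸ S, c * g q * c⁻¹ = g (cA • q) := by
      intro q
      have hq : (QuotientGroup.mk (cA • q).out : A ⧸ S) = QuotientGroup.mk (cA * q.out) := by
        rw [QuotientGroup.out_eq']
        conv_lhs => rw [← QuotientGroup.out_eq' q]
        rfl
      set s : A := (cA * q.out)⁻¹ * (cA • q).out
      have hs : s ∈ S := QuotientGroup.eq.mp hq.symm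
      have hsd : Commute (s : G) d := hfix _ s.2 (mem_subgroupOf.mp hs)
      have he : (((cA • q).out : A) : G) = c * ((q.out : A) : G) * (s : G) := by
        simp [s, cA, mul_assoc]
      simp only [hg]
      rw [he]
      calc c * (((q.out : A) : G) * d * ((q.out : A) : G)⁻¹) * c⁻¹
          = c * ((q.out : A) : G) * d * (c * ((q.out : A) : G))⁻¹ := by group
        _ = c * ((q.out : A) : G) * ((s : G) * d * (s : G)⁻¹) * (c * ((q.out : A) : G))⁻¹ := by
          rw [conj_eq_self hsd]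
        _ = _ := by group
    have hpres : ∀ z ∈ K, c * z * c⁻¹ ∈ K := by
      intro z hz
      have hle : K.map (MulAut.conj c).toMonoidHom ≤ K := by
        rw [MonoidHom.map_closure, closure_le]
        rintro _ ⟨_, ⟨q, rfl⟩, rfl⟩
        exact subset_closure ⟨cA • q, (hval q).symm⟩
      exact hle ⟨z, hz, rfl⟩
    let ψ : K →* K :=
      ((MulAut.conj c).toMonoidHom.comp K.subtype).codRestrict K fun z => hpres z z.2
    have h1 : ψ P = P := by
      rw [map_prod]
      exact Fintype.prod_equiv (MulAction.toPerm cA) _ _ fun q => Subtype.ext (hval q)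
    exact mem_centralizer_conj.mp (congrArg Subtype.val h1)
  have hPT : Commute x (P : G) :=
    mem_centralizer_iff.mp (f.fixed ⟨hKF P.2, mem_centralizer_iff.mpr fun c hc => (hPA c hc).eq⟩) x hx
  -- on `W` the product acts as `d`
  have hPW : ∀ w ∈ W, (P : G) * w * (P : G)⁻¹ = d * w * d⁻¹ := by
    intro w hw
    classical
    set q₀ : A ⧸ S := QuotientGroup.mk 1
    have hrest : (∏ q ∈ Finset.univ.erase q₀, gK q) ∈ (centralizer (W : Set G)).subgroupOf K := by
      refine prod_mem fun q hq => mem_subgroupOf.mpr (hmove _ (q.out).2 fun hmem => ?_)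
      refine Finset.ne_of_mem_erase hq ?_
      rw [← QuotientGroup.out_eq' q]
      exact QuotientGroup.eq.mpr (mem_subgroupOf.mpr (by simpa using inv_mem hmem))
    have hd0 : g q₀ = d := by
      have hs : ((q₀.out : A) : G) ∈ normalizer (W : Set G) := by
        have := QuotientGroup.eq.mp (QuotientGroup.out_eq' q₀).symm
        exact mem_subgroupOf.mp (by simpa [S, q₀] using this)
      exact conj_eq_self (hfix _ (q₀.out).2 hs)
    have hP : P = gK q₀ * ∏ q ∈ Finset.univ.erase q₀, gK q :=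
      (Finset.mul_prod_erase _ _ (Finset.mem_univ q₀)).symm
    set R := ∏ q ∈ Finset.univ.erase q₀, gK q
    have hR : (R : G) * w * (R : G)⁻¹ = w :=
      conj_eq_self (mem_centralizer_iff.mp (mem_subgroupOf.mp hrest) w hw).symm
    rw [hP]
    calc ((gK q₀ * R : K) : G) * w * ((gK q₀ * R : K) : G)⁻¹
        = g q₀ * ((R : G) * w * (R : G)⁻¹) * (g q₀)⁻¹ := by simp only [coe_mul, gK]; group
      _ = d * w * d⁻¹ := by rw [hR, hd0]
  have hxd : x * d * x⁻¹ = d := by
    refine f.eq_of_agree (conj_mem_of_normalizer (f.TF hx) hd) hd hWC ?_ ?_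
    · intro w hw
      have hw' := conj_mem_of_normalizer' hxW hw
      calc x * d * x⁻¹ * w * (x * d * x⁻¹)⁻¹ = x * (d * (x⁻¹ * w * x) * d⁻¹) * x⁻¹ := by group
        _ = x * ((P : G) * (x⁻¹ * w * x) * (P : G)⁻¹) * x⁻¹ := by rw [hPW _ hw']
        _ = (x * (P : G) * x⁻¹) * w * (x * (P : G) * x⁻¹)⁻¹ := by group
        _ = d * w * d⁻¹ := by rw [conj_eq_self hPT, hPW w hw]
    · intro v hv
      have hv' := conj_mem_of_normalizer' hxC hv
      rw [conj_eq_self (mem_centralizer_iff.mp hdC v hv).symm]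
      calc x * d * x⁻¹ * v * (x * d * x⁻¹)⁻¹ = x * (d * (x⁻¹ * v * x) * d⁻¹) * x⁻¹ := by group
        _ = v := by rw [conj_eq_self (mem_centralizer_iff.mp hdC _ hv').symm]; group
  exact mem_centralizer_conj.mp hxd

end Cfsg.Agent.SolvableSignalizer.Linear
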