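import Cfsg.Agent.Lib.SolvableSignalizer.Linear.Bound

/-!
A quadratically acting elementary abelian subgroup of `T`: the index of its fixed points exceeds the
square of its order, and some conjugate of it moves that much of `⁅V, R⁆`.
-/

set_option autoImplicit false
set_option linter.style.haveILetI false
set_option linter.unusedSectionVars false

namespace Cfsg.Agent.SolvableSignalizer.Linear

open Subgroup
open Cfsg.Agent.Components
open scoped commutatorElement Pointwise

variable {p : ℕ} [hp : Fact p.Prime] {G : Type*} [Group G] [Finite G] {r : ℕ}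
  {V F T A R : Subgroup G} {n : ℕ} {x : Fin n → G} {D : Fin n → Subgroup G}

namespace Family

variable (f : Frame r p V F T A) (fam : Family F R x D) (hR : Cfsg.IsElementaryAbelian p R)
  (hRT : R ≤ T)
include f fam hR hRT

/-- The piece of `i` is moved by no other member and is twice its fixed points. -/
theorem quad_piece (hsq : SqOn V R) (i : Fin n) :
    ∃ U C : Subgroup G, U = ⁅V, D i⁆ ∧ C = U ⊓ centralizer {x i} ∧ Inv V R D Finset.univ U ∧
      U ⊓ centralizer (D i : Set G) = ⊥ ∧ mv U (x i) = C ∧ Nat.card C * Nat.card C = Nat.card U ∧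
      p ^ 2 ≤ Nat.card C ∧ (∀ j, j ≠ i → x j ∈ centralizer (U : Set G)) ∧
      (∀ j, j ≠ i → D j ≤ centralizer (U : Set G)) := by
  have hV : Inv V R D Finset.univ V := ⟨le_rfl, hRT.trans f.normT, fun i _ => fam.d_norm f i⟩
  obtain ⟨U, W', C, hUeq, -, hCeq, hU, -, -, -, -, -, hfree, hC1, hCC⟩ :=
    fam.piece f hR hRT (Finset.mem_univ i) hV
      (fam.active f (Coprime.commutator_le_of_le_normalizer (fam.d_norm f i)))
  have hxU := hU.normR (fam.mem i)
  have hUe := elem_le f.elemV hU.le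
  have hmvle : mv U (x i) ≤ C := hCeq ▸ mv_le fun v hv => ⟨comm_mem hxU hv,
    mem_centralizer_singleton_iff.mpr ((hsq.sq (fam.mem i)) v (hU.le hv)).eq.symm⟩
  have hcardU : Nat.card (mv U (x i)) * Nat.card C = Nat.card U := by
    rw [hCeq]; exact card_mv hUe hxU
  have hCU : Nat.card C * Nat.card C = Nat.card U :=
    le_antisymm hCC (hcardU ▸ Nat.mul_le_mul_right _ (card_le_of_le hmvle))
  have hmv : mv U (x i) = C := eq_of_le_of_card_ge hmvle
    (Nat.eq_of_mul_eq_mul_right Nat.card_pos (hcardU.trans hCU.symm)).ge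
  have hxj : ∀ j, j ≠ i → x j ∈ centralizer (U : Set G) := by
    intro j hji
    obtain ⟨d, hd, hnc⟩ := fam.exists_moved i
    have hspan := fam.piece_span f hR hRT hU.le (hU.normD i (Finset.mem_univ i)) hfree hd hnc
      (hCeq ▸ hCU)
    rw [← hCeq] at hspan
    have hC : C ≤ centralizer {x j} := by
      rw [← hmv]
      exact mv_le fun v hv =>
        mem_centralizer_singleton_iff.mpr (hsq _ (fam.mem j) _ (fam.mem i) v (hU.le hv)).eq.symm
    have hle : U ≤ centralizer {x j} := by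
      rw [hspan]
      refine sup_le hC ((pointwise_smul_le_pointwise_smul_iff.mpr hC).trans ?_)
      refine (Coprime.conj_smul_eq_self_iff.mpr ?_).le
      rw [← centralizer_zpowers]
      exact normalizer_le_centralizer' _ (le_normalizer_of_comm (fam.d_fix hji.symm hd).symm.eq)
    exact mem_centralizer_iff.mpr fun v hv => mem_centralizer_singleton_iff.mp (hle hv)
  refine ⟨U, C, hUeq, hCeq, hU, hfree, hmv, hCU, ?_, hxj, fun j hji =>
    fam.le_centralizer_of_x f hR (hxj j hji) (hU.normR (fam.mem j)) (hU.normD j (Finset.mem_univ j))⟩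
  obtain ⟨a, ha⟩ := ((Hyperplane.isPGroup f.elemV).to_le
    ((hCeq ▸ inf_le_left : C ≤ U).trans hU.le)).exists_card_eq
  rcases a with _ | _ | a
  · exact absurd (eq_bot_of_card_eq C (by simpa using ha)) hC1
  · exfalso
    have hcard : Nat.card (⁅V, D i⁆ : Subgroup G) = p ^ 2 := by
      rw [← hUeq, ← hCU, ha, zero_add, pow_one, sq]
    exact fam.moved i (f.no_small_plane (hRT (fam.mem i)) (fam.le i) (fam.norm i (fam.mem i)) hcard)
  · rw [ha]; exact Nat.pow_le_pow_right hp.out.pos (by omega)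

/-- The index of the fixed points, with the elements that attain the bound. -/
theorem quad_bound (hsq : SqOn V R) : ∀ (S : Finset (Fin n)) (W : Subgroup G),
    Inv V R D Finset.univ W → (∀ j ∈ S, ⁅V, D j⁆ ≤ W) →
    p ^ (2 * S.card) * Nat.card ↥(W ⊓ fixS x S) ≤ Nat.card W ∧
    (p ^ (2 * S.card) * Nat.card ↥(W ⊓ fixS x S) = Nat.card W →
      ∀ z : G, (∀ j ∈ S, z ∈ centralizer ((⁅V, D j⁆ : Subgroup G) : Set G)) →
        (∀ v ∈ W ⊓ fixS x S, Commute z v) → z ∈ centralizer (W : Set G)) := by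
  intro S
  induction S using Finset.strongInduction with
  | H S ih =>
  intro W hW hwhole
  rcases S.eq_empty_or_nonempty with rfl | ⟨i, hi⟩
  · have h : fixS x (∅ : Finset (Fin n)) = ⊤ := by
      ext v; simp [mem_fixS]
    simp only [h, inf_top_eq, Finset.card_empty, mul_zero, pow_zero, one_mul]
    exact ⟨le_rfl, fun _ z _ hz => mem_centralizer_iff.mpr fun v hv => (hz v hv).eq.symm⟩
  obtain ⟨U, C, hUeq, hCeq, hU, hfree, hmv, hCU, hC2, hxj, hDj⟩ := fam.quad_piece f hR hRT hsq i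
  have hWe := elem_le f.elemV hW.le
  have hDW := hW.normD i (Finset.mem_univ i)
  obtain ⟨hsup, hdisj, hcard⟩ := split hWe (f.not_dvd (fam.le i)) hDW
  have hUW : ⁅W, D i⁆ = U := by
    refine le_antisymm (hUeq ▸ commutator_mono hW.le le_rfl) ?_
    rw [hUeq]
    refine le_trans (Coprime.commutator_commutator_eq (fam.d_norm f i)
      (coprime_card f.elemV (f.not_dvd (fam.le i)))
      (Or.inr (haveI := f.elemV.1; Coprime.isSolvable_of_isMulCommutative V))).ge
      (commutator_mono (hwhole i hi) le_rfl)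
  rw [hUW] at hsup hdisj hcard
  set W' := W ⊓ centralizer (D i : Set G) with hW'def
  have hnD : ∀ j, D j ≤ normalizer (D i : Set G) := fun j => by
    by_cases h : j = i
    · subst h; exact le_normalizer
    · exact (fam.comm j i h).trans (centralizer_le_normalizer _)
  have hW' : Inv V R D Finset.univ W' := ⟨inf_le_left.trans hW.le,
    fun t ht => inf_normalizer_le_normalizer_inf
      ⟨hW.normR ht, normalizer_le_centralizer' _ (fam.norm i ht)⟩,
    fun j hj d hd => inf_normalizer_le_normalizer_inf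
      ⟨hW.normD j hj hd, normalizer_le_centralizer' _ (hnD j hd)⟩⟩
  have hwhole' : ∀ j ∈ S.erase i, ⁅V, D j⁆ ≤ W' := by
    intro j hj
    have hji := Finset.ne_of_mem_erase hj
    refine le_inf (hwhole j (Finset.mem_of_mem_erase hj)) ?_
    obtain ⟨Uj, Cj, hUjeq, -, -, -, -, -, -, -, hDi⟩ := fam.quad_piece f hR hRT hsq j
    rw [← hUjeq]
    exact le_centralizer_iff.mp (hDi i (Ne.symm hji))
  obtain ⟨h'b, h'eq⟩ := ih _ (Finset.erase_ssubset hi) W' hW' hwhole'
  have hfixW : Nat.card ↥(W ⊓ fixS x S) =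
      Nat.card ↥(U ⊓ fixS x S) * Nat.card ↥(W' ⊓ fixS x S) := by
    conv_lhs => rw [← hsup]
    exact fixed_split f.elemV hU.le hW'.le hdisj (fun j _ => hU.normR (fam.mem j))
      fun j _ => hW'.normR (fam.mem j)
  have hUC : Nat.card ↥(U ⊓ fixS x S) ≤ Nat.card C := card_le_of_le (by
    rintro v ⟨hv, hfx⟩
    exact hCeq ▸ ⟨hv, mem_centralizer_singleton_iff.mpr (mem_fixS.mp hfx i hi).eq.symm⟩)
  have hUb : p ^ 2 * Nat.card ↥(U ⊓ fixS x S) ≤ Nat.card U :=
    hCU ▸ Nat.mul_le_mul hC2 hUC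
  have hW'b : p ^ (2 * (S.erase i).card) * Nat.card ↥(W' ⊓ fixS x S) ≤ Nat.card W' :=
    (Nat.mul_le_mul_left _ (card_le_of_le (inf_le_inf_left _ (fixS_anti (Finset.erase_subset _ _))))).trans h'b
  have he : p ^ (2 * S.card) * Nat.card ↥(W ⊓ fixS x S) = (p ^ 2 * Nat.card ↥(U ⊓ fixS x S)) *
      (p ^ (2 * (S.erase i).card) * Nat.card ↥(W' ⊓ fixS x S)) := by
    rw [hfixW, ← Finset.card_erase_add_one hi]; ring
  refine ⟨?_, fun heq z hz hzfix => ?_⟩
  · rw [he, ← hcard]; exact Nat.mul_le_mul hUb hW'b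
  rw [he, ← hcard] at heq
  have hW'e : p ^ (2 * (S.erase i).card) * Nat.card ↥(W' ⊓ fixS x S) = Nat.card W' := by
    refine le_antisymm hW'b ?_
    by_contra hlt
    exact (Nat.mul_lt_mul_of_le_of_lt hUb (not_le.mp hlt) Nat.card_pos).ne heq
  have hsame : W' ⊓ fixS x S = W' ⊓ fixS x (S.erase i) :=
    eq_of_le_of_card_ge (inf_le_inf_left _ (fixS_anti (Finset.erase_subset _ _)))
      (Nat.le_of_mul_le_mul_left (hW'e ▸ h'b) (pow_pos hp.out.pos _))
  have h' := h'eq (by rw [← hsame]; exact hW'e) z (fun j hj => hz j (Finset.mem_of_mem_erase hj))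
    fun v hv => hzfix v (by rw [← hsame] at hv; exact ⟨hv.1.1, hv.2⟩)
  have hle : U ⊔ W' ≤ centralizer {z} := sup_le
    (fun v hv => mem_centralizer_singleton_iff.mpr
      (mem_centralizer_iff.mp (hz i hi) v (hUeq ▸ hv)))
    (fun v hv => mem_centralizer_singleton_iff.mpr (mem_centralizer_iff.mp h' v hv))
  rw [hsup] at hle
  exact mem_centralizer_iff.mpr fun v hv => mem_centralizer_singleton_iff.mp (hle hv)

/-- Some product of moved elements separates the images. -/
theorem quad_conj (hsq : SqOn V R) : ∀ S : Finset (Fin n),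
    ∃ (m : G) (Y : Subgroup G), m ∈ (⨆ j ∈ S, D j) ∧ Y ≤ ⨆ j ∈ S, ⁅V, D j⁆ ∧ Y ≤ ⁅V, R⁆ ∧
      p ^ (2 * S.card) ≤ Nat.card Y ∧
      ∀ v ∈ Y, (∀ j ∈ S, Commute (m * x j * m⁻¹) v) → v = 1 := by
  intro S
  induction S using Finset.induction_on with
  | empty => exact ⟨1, ⊥, one_mem _, bot_le, bot_le, by simp, fun v hv _ => mem_bot.mp hv⟩
  | insert i S hiS ih =>
  obtain ⟨m, Y, hm, hYle, hYR, hYcard, hYsep⟩ := ih
  obtain ⟨U, C, hUeq, hCeq, hU, hfree, hmv, hCU, hC2, hxj, hDj⟩ := fam.quad_piece f hR hRT hsq i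
  obtain ⟨d, hd, hnc⟩ := fam.exists_moved i
  set M := ⨆ j ∈ S, ⁅V, D j⁆ with hM
  have hjne : ∀ j ∈ S, j ≠ i := fun j hj e => hiS (e ▸ hj)
  have hMV : M ≤ V := iSup₂_le fun j _ => Coprime.commutator_le_of_le_normalizer (fam.d_norm f j)
  have hDiM : D i ≤ centralizer (M : Set G) := by
    refine le_centralizer_iff.mp (iSup₂_le fun j hj => ?_)
    obtain ⟨Uj, Cj, hUjeq, -, -, -, -, -, -, -, hDi⟩ := fam.quad_piece f hR hRT hsq j
    rw [← hUjeq]
    exact le_centralizer_iff.mp (hDi i (Ne.symm (hjne j hj)))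
  have hxiM : ∀ v ∈ M, Commute (x i) v := by
    intro v hv
    have hle : M ≤ centralizer {x i} := iSup₂_le fun j hj => by
      obtain ⟨Uj, Cj, hUjeq, -, -, -, -, -, -, hxi, -⟩ := fam.quad_piece f hR hRT hsq j
      rw [← hUjeq]
      exact fun w hw => mem_centralizer_singleton_iff.mpr
        (mem_centralizer_iff.mp (hxi i (Ne.symm (hjne j hj))) w hw)
    exact (mem_centralizer_singleton_iff.mp (hle hv)).symm
  have hmU : m ∈ centralizer (U : Set G) := (iSup₂_le fun j hj => hDj j (hjne j hj) :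
    (⨆ j ∈ S, D j) ≤ centralizer (U : Set G)) hm
  have hmx : Commute m (x i) := by
    have hle : (⨆ j ∈ S, D j) ≤ centralizer {x i} := iSup₂_le fun j hj e he =>
      mem_centralizer_singleton_iff.mpr (fam.d_fix (hjne j hj) he).eq.symm
    exact mem_centralizer_singleton_iff.mp (hle hm)
  have hmd : Commute m d := by
    have hle : (⨆ j ∈ S, D j) ≤ centralizer {d} := iSup₂_le fun j hj e he =>
      mem_centralizer_singleton_iff.mpr (fam.d_comm (hjne j hj) he hd).eq
    exact mem_centralizer_singleton_iff.mp (hle hm)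
  have hCU' : C ≤ U := hCeq ▸ inf_le_left
  have hdisjUM : U ⊓ M = ⊥ := le_bot_iff.mp (hfree ▸ le_inf inf_le_left
    (inf_le_right.trans (le_centralizer_iff.mp hDiM)))
  refine ⟨d * m, C ⊔ Y, mul_mem ?_ ?_, sup_le ?_ ?_, sup_le ?_ hYR, ?_, ?_⟩
  · exact (le_iSup₂ (f := fun j (_ : j ∈ insert i S) => D j) i (Finset.mem_insert_self i S)) hd
  · exact (iSup₂_le fun j hj =>
      le_iSup₂ (f := fun j (_ : j ∈ insert i S) => D j) j (Finset.mem_insert_of_mem hj) :
      (⨆ j ∈ S, D j) ≤ _) hm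
  · refine hCU'.trans ?_
    rw [hUeq]
    exact le_iSup₂ (f := fun j (_ : j ∈ insert i S) => ⁅V, D j⁆) i (Finset.mem_insert_self i S)
  · exact hYle.trans (iSup₂_le fun j hj =>
      le_iSup₂ (f := fun j (_ : j ∈ insert i S) => ⁅V, D j⁆) j (Finset.mem_insert_of_mem hj))
  · rw [← hmv]
    refine mv_le fun v hv => ?_
    rw [commutator_comm]
    exact commutator_mem_commutator (fam.mem i) (hU.le hv)
  · rw [Coprime.card_sup_of_disjoint ((hYle.trans hMV).trans
      (abelian_le_normalizer f.elemV (hCU'.trans hU.le)))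
      (disjoint_iff.mpr (le_bot_iff.mp (hdisjUM ▸ inf_le_inf hCU' hYle))),
      Finset.card_insert_of_notMem hiS, Nat.mul_succ, pow_add, mul_comm]
    exact Nat.mul_le_mul hC2 hYcard
  intro v hv hfix
  obtain ⟨c, hc, y, hy, rfl⟩ := (Coprime.mem_sup_of_le_normalizer ((hYle.trans hMV).trans
    (abelian_le_normalizer f.elemV (hCU'.trans hU.le)))).mp hv
  have hyM := hYle hy
  have hcU := hCU' hc
  -- the member `i`
  have hi' : d * m * x i * (d * m)⁻¹ = d * x i * d⁻¹ := by
    calc _ = d * (m * x i * m⁻¹) * d⁻¹ := by group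
      _ = _ := by rw [conj_eq_self hmx]
  have hc1 : c = 1 := by
    have h1 : Commute (d * x i * d⁻¹) (c * y) := hi' ▸ hfix i (Finset.mem_insert_self i S)
    have h2 : Commute (d * x i * d⁻¹) y := by
      have hdy : Commute d y := (mem_centralizer_iff.mp (hDiM hd) y hyM).symm
      exact (hdy.mul_left (hxiM y hyM)).mul_left hdy.inv_left
    have h3 : Commute (d * x i * d⁻¹) c := by
      have := h1.mul_right h2.inv_right
      rwa [mul_inv_cancel_right] at this
    have h4 : Commute (x i) (d⁻¹ * c * d) := by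
      show x i * (d⁻¹ * c * d) = d⁻¹ * c * d * x i
      calc x i * (d⁻¹ * c * d) = d⁻¹ * (d * x i * d⁻¹ * c) * d := by group
        _ = d⁻¹ * (c * (d * x i * d⁻¹)) * d := by rw [h3.eq]
        _ = _ := by group
    have hu : d⁻¹ * c * d ∈ U := conj_mem_of_normalizer' (hU.normD i (Finset.mem_univ i) hd) hcU
    have h5 := fam.fixed_meet f hR hd hnc hfree hu h4 (by
      rw [show d * (d⁻¹ * c * d) * d⁻¹ = c by group]
      exact (mem_centralizer_singleton_iff.mp (hCeq ▸ hc : c ∈ U ⊓ centralizer {x i}).2).symm)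
    calc c = d * (d⁻¹ * c * d) * d⁻¹ := by group
      _ = 1 := by rw [h5]; group
  subst hc1
  rw [one_mul] at hfix ⊢
  refine hYsep y hy fun j hj => ?_
  have hj' : d * m * x j * (d * m)⁻¹ = m * x j * m⁻¹ := by
    have h1 : Commute d (m * x j * m⁻¹) :=
      (hmd.symm.mul_right (fam.d_fix (Ne.symm (hjne j hj)) hd).symm).mul_right hmd.symm.inv_right
    calc _ = d * (m * x j * m⁻¹) * d⁻¹ := by group
      _ = _ := conj_eq_self h1
  exact hj' ▸ hfix j (Finset.mem_insert_of_mem hj)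

end Family

/-- The quadratic bound. -/
theorem Frame.quad_bound (f : Frame r p V F T A) (hR : Cfsg.IsElementaryAbelian p R) (hRT : R ≤ T)
    (hR1 : R ≠ ⊥) (hsq : SqOn V R) :
    Nat.card R ^ 2 * Nat.card ↥(V ⊓ centralizer (R : Set G)) < Nat.card V := by
  obtain ⟨n, x, D, fam, hgen, hcard⟩ := exists_family f.nilF f.primeF hR (hRT.trans f.TF)
    (le_bot_iff.mp (f.faithT ▸ inf_le_inf_right _ hRT))
  have hn : 0 < n := by
    by_contra h
    rw [Nat.eq_zero_of_not_pos h, pow_zero] at hcard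
    exact hR1 (eq_bot_of_card_eq R hcard)
  have hV : Inv V R D Finset.univ V := ⟨le_rfl, hRT.trans f.normT, fun i _ => fam.d_norm f i⟩
  obtain ⟨hb, heq⟩ := fam.quad_bound f hR hRT hsq Finset.univ V hV fun j _ =>
    Coprime.commutator_le_of_le_normalizer (fam.d_norm f j)
  rw [Finset.card_univ, Fintype.card_fin, ← centralizer_eq_fixS hgen, mul_comm 2 n, pow_mul,
    ← hcard] at hb
  refine lt_of_le_of_ne hb fun he => ?_
  rw [Finset.card_univ, Fintype.card_fin, ← centralizer_eq_fixS hgen, mul_comm 2 n, pow_mul,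
    ← hcard] at heq
  set i : Fin n := ⟨0, hn⟩
  obtain ⟨U, C, hUeq, hCeq, hU, hfree, hmv, hCU, hC2, -, -⟩ := fam.quad_piece f hR hRT hsq i
  -- `x i` moves only its piece
  obtain ⟨hsup, hdisj, hcardV⟩ := split f.elemV (f.not_dvd (fam.le i)) (fam.d_norm f i)
  rw [← hUeq] at hsup hdisj hcardV
  set W' := V ⊓ centralizer (D i : Set G)
  have hW' : Inv V R D Finset.univ W' := ⟨inf_le_left,
    fun t ht => inf_normalizer_le_normalizer_inf
      ⟨f.normT (hRT ht), normalizer_le_centralizer' _ (fam.norm i ht)⟩,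
    fun j _ d hd => inf_normalizer_le_normalizer_inf ⟨fam.d_norm f j hd,
      normalizer_le_centralizer' _ (by
        by_cases h : j = i
        · subst h; exact le_normalizer hd
        · exact centralizer_le_normalizer _ (fam.comm j i h hd))⟩⟩
  set S' := (Finset.univ : Finset (Fin n)).erase i
  obtain ⟨h'b, h'eq⟩ := fam.quad_bound f hR hRT hsq S' W' hW' fun j hj => by
    refine le_inf (Coprime.commutator_le_of_le_normalizer (fam.d_norm f j)) ?_
    obtain ⟨Uj, Cj, hUjeq, -, -, -, -, -, -, -, hDi⟩ := fam.quad_piece f hR hRT hsq j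
    rw [← hUjeq]
    exact le_centralizer_iff.mp (hDi i (Ne.symm (Finset.ne_of_mem_erase hj)))
  have hfixV : Nat.card ↥(V ⊓ fixS x Finset.univ) =
      Nat.card ↥(U ⊓ fixS x Finset.univ) * Nat.card ↥(W' ⊓ fixS x Finset.univ) := by
    conv_lhs => rw [← hsup]
    exact fixed_split f.elemV hU.le hW'.le hdisj (fun j _ => hU.normR (fam.mem j))
      fun j _ => hW'.normR (fam.mem j)
  have hUC : Nat.card ↥(U ⊓ fixS x Finset.univ) ≤ Nat.card C := card_le_of_le (by
    rintro v ⟨hv, hfx⟩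
    exact hCeq ▸ ⟨hv,
      mem_centralizer_singleton_iff.mpr (mem_fixS.mp hfx i (Finset.mem_univ i)).eq.symm⟩)
  have hS' : S'.card + 1 = n := by
    have := Finset.card_erase_add_one (Finset.mem_univ i)
    rwa [Finset.card_univ, Fintype.card_fin] at this
  have hUb : p ^ 2 * Nat.card ↥(U ⊓ fixS x Finset.univ) ≤ Nat.card U :=
    hCU ▸ Nat.mul_le_mul hC2 hUC
  have hW'b : p ^ (2 * S'.card) * Nat.card ↥(W' ⊓ fixS x Finset.univ) ≤ Nat.card W' :=
    (Nat.mul_le_mul_left _
      (card_le_of_le (inf_le_inf_left _ (fixS_anti (Finset.subset_univ _))))).trans h'b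
  rw [centralizer_eq_fixS hgen, hfixV, hcard, ← pow_mul,
    show p ^ (n * 2) = p ^ 2 * p ^ (2 * S'.card) by rw [← pow_add]; congr 1; omega,
    ← hcardV] at he
  have hW'e : p ^ (2 * S'.card) * Nat.card ↥(W' ⊓ fixS x Finset.univ) = Nat.card W' := by
    refine le_antisymm hW'b ?_
    by_contra hlt
    refine (Nat.mul_lt_mul_of_le_of_lt hUb (not_le.mp hlt) Nat.card_pos).ne ?_
    rw [← he]; ring
  have hUe : p ^ 2 * Nat.card ↥(U ⊓ fixS x Finset.univ) = Nat.card U := by
    refine le_antisymm hUb ?_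
    by_contra hlt
    refine (Nat.mul_lt_mul_of_lt_of_le (not_le.mp hlt) hW'b Nat.card_pos).ne ?_
    rw [← he]; ring
  have hC2' : Nat.card C ≤ p ^ 2 := by
    refine Nat.le_of_mul_le_mul_right ?_ (Nat.card_pos (α := C))
    calc Nat.card C * Nat.card C = Nat.card U := hCU
      _ = p ^ 2 * Nat.card ↥(U ⊓ fixS x Finset.univ) := hUe.symm
      _ ≤ _ := Nat.mul_le_mul_left _ hUC
  have hsame : W' ⊓ fixS x Finset.univ = W' ⊓ fixS x S' :=
    eq_of_le_of_card_ge (inf_le_inf_left _ (fixS_anti (Finset.subset_univ _)))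
      (Nat.le_of_mul_le_mul_left (hW'e ▸ h'b) (pow_pos hp.out.pos _))
  have hxW' : x i ∈ centralizer (W' : Set G) := h'eq (by rw [← hsame]; exact hW'e) (x i)
    (fun j hj => by
      obtain ⟨Uj, Cj, hUjeq, -, -, -, -, -, -, hxi, -⟩ := fam.quad_piece f hR hRT hsq j
      rw [← hUjeq]
      exact hxi i (Ne.symm (Finset.ne_of_mem_erase hj)))
    fun v hv => by
      rw [← hsame] at hv
      exact mem_fixS.mp hv.2 i (Finset.mem_univ i)
  have hmvV : mv V (x i) ≤ C := mv_le fun v hv => by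
    obtain ⟨u, hu, w, hw, rfl⟩ := (Coprime.mem_sup_of_le_normalizer
      (hW'.le.trans (abelian_le_normalizer f.elemV hU.le))).mp (hsup.ge hv)
    have h1 : ⁅x i, u * w⁆ = ⁅x i, u⁆ * (u * ⁅x i, w⁆ * u⁻¹) := by
      simp only [commutatorElement_def]; group
    rw [h1, commutatorElement_eq_one_iff_mul_comm.mpr (mem_centralizer_iff.mp hxW' w hw).symm,
      mul_one, mul_inv_cancel, mul_one]
    exact hmv ▸ comm_mem_mv hu
  exact f.no_small (hRT (fam.mem i)) (fun e => fam.moved i (e ▸ one_mem _)) (hsq.sq (fam.mem i))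
    ((card_le_of_le hmvV).trans hC2')

/-- Some conjugate moves enough of `⁅V, R⁆`. -/
theorem Frame.quad_conj (f : Frame r p V F T A) (hR : Cfsg.IsElementaryAbelian p R) (hRT : R ≤ T)
    (hsq : SqOn V R) :
    ∃ m ∈ F, Nat.card R ^ 2 *
      Nat.card ↥(⁅V, R⁆ ⊓ centralizer ((MulAut.conj m • R : Subgroup G) : Set G)) ≤
        Nat.card (⁅V, R⁆ : Subgroup G) := by
  obtain ⟨n, x, D, fam, hgen, hcard⟩ := exists_family f.nilF f.primeF hR (hRT.trans f.TF)
    (le_bot_iff.mp (f.faithT ▸ inf_le_inf_right _ hRT))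
  obtain ⟨m, Y, hm, -, hYR, hYcard, hsep⟩ := fam.quad_conj f hR hRT hsq Finset.univ
  rw [Finset.card_univ, Fintype.card_fin, mul_comm 2 n, pow_mul, ← hcard] at hYcard
  refine ⟨m, (iSup₂_le fun j _ => fam.le j : (⨆ j ∈ (Finset.univ : Finset (Fin n)), D j) ≤ F) hm, ?_⟩
  set K := ⁅V, R⁆ ⊓ centralizer ((MulAut.conj m • R : Subgroup G) : Set G) with hK
  have hdisj : Y ⊓ K = ⊥ := by
    rw [eq_bot_iff]
    rintro v ⟨hv, -, hvc⟩
    refine mem_bot.mpr (hsep v hv fun j _ => ?_)
    exact mem_centralizer_iff.mp hvc _ ⟨x j, fam.mem j, rfl⟩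
  have hVR : ⁅V, R⁆ ≤ V := Coprime.commutator_le_of_le_normalizer (hRT.trans f.normT)
  calc Nat.card R ^ 2 * Nat.card K ≤ Nat.card Y * Nat.card K := Nat.mul_le_mul_right _ hYcard
    _ = Nat.card ↥(Y ⊔ K) := (Coprime.card_sup_of_disjoint ((inf_le_left.trans hVR).trans
        (abelian_le_normalizer f.elemV (hYR.trans hVR))) (disjoint_iff.mpr hdisj)).symm
    _ ≤ _ := card_le_of_le (sup_le hYR inf_le_left)

end Cfsg.Agent.SolvableSignalizer.Linear
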