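import Cfsg.Agent.Lib.SolvableSignalizer.Linear.Core

/-!
Supports of elements of `F`, and automorphisms of small groups.
-/

set_option autoImplicit false
set_option linter.style.haveILetI false
set_option linter.unusedSectionVars false

namespace Cfsg.Agent.SolvableSignalizer.Linear

open Subgroup
open Cfsg.Agent.Components
open scoped commutatorElement Pointwise

variable {p : ℕ} [hp : Fact p.Prime] {G : Type*} [Group G] [Finite G]

/-- An automorphism of prime order `r` at least `5` of a group of order at most `5` or of order `9`. -/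
lemma aut_small {r : ℕ} [Fact r.Prime] (h2 : r ≠ 2) {Q : Type*} [Group Q] [Finite Q]
    (σ : MulAut Q) (hσ : σ ^ r = 1)
    (hQ : Nat.card Q = 5 ∨ r ≠ 3 ∧ (Nat.card Q ≤ 5 ∨ Nat.card Q = 9)) : σ = 1 := by
  have hR : IsPGroup r (zpowers σ) := by
    rintro ⟨y, hy⟩
    obtain ⟨n, rfl⟩ := mem_zpowers_iff.mp hy
    refine ⟨1, Subtype.ext ?_⟩
    show (σ ^ n) ^ r ^ 1 = 1
    rw [pow_one, ← zpow_natCast, ← zpow_mul, mul_comm, zpow_mul, zpow_natCast, hσ, one_zpow]
  letI : MulAction (zpowers σ) Q :=
    { smul := fun t v => (t : MulAut Q) v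
      one_smul := fun v => rfl
      mul_smul := fun s t v => rfl }
  let S : Subgroup Q :=
    { carrier := {v | σ v = v}
      one_mem' := map_one σ
      mul_mem' := fun {u v} hu hv => by
        simp only [Set.mem_ofPred_eq] at hu hv ⊢
        rw [map_mul, hu, hv]
      inv_mem' := fun {u} hu => by
        simp only [Set.mem_ofPred_eq] at hu ⊢
        rw [map_inv, hu] }
  have e : Nat.card (MulAction.fixedPoints (zpowers σ) Q) = Nat.card S := by
    refine Nat.card_congr (Equiv.subtypeEquivRight fun v => ?_)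
    refine ⟨fun h => h ⟨σ, mem_zpowers σ⟩, fun h t => ?_⟩
    obtain ⟨n, hn⟩ := mem_zpowers_iff.mp t.2
    show (t : MulAut Q) v = v
    rw [← hn]
    have hmem : σ ∈ MulAction.stabilizer (MulAut Q) v := h
    exact MulAction.mem_stabilizer_iff.mp (zpow_mem hmem n)
  have hmod := hR.card_modEq_card_fixedPoints Q
  rw [e] at hmod
  have hdvd : Nat.card S ∣ Nat.card Q := card_subgroup_dvd_card S
  refine MulEquiv.ext fun v => ?_
  have hS : S = ⊤ := by
    refine eq_top_of_card_eq S ?_
    have hle : Nat.card S ≤ Nat.card Q := Nat.le_of_dvd Nat.card_pos hdvd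
    have hd := (Nat.modEq_iff_dvd' hle).mp hmod.symm
    have hr : r.Prime := Fact.out
    have hpos : 0 < Nat.card S := Nat.card_pos
    by_contra hne
    rcases hQ with hQ | ⟨h3, hQ⟩
    · have hs : Nat.card S = 1 := by
        rcases (Nat.dvd_prime (by norm_num : Nat.Prime 5)).mp (hQ ▸ hdvd) with h | h
        · exact h
        · exact absurd (h.trans hQ.symm) hne
      rw [hQ, hs] at hd
      exact h2 ((Nat.prime_dvd_prime_iff_eq hr Nat.prime_two).mp
        (hr.dvd_of_dvd_pow (show r ∣ 2 ^ 2 from hd)))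
    have h4 : 5 ≤ r := by
      by_contra h5
      have := hr.two_le
      have : r = 4 := by omega
      subst this
      norm_num at hr
    have hn : 0 < Nat.card Q - Nat.card S := by omega
    rcases hQ with hQ | hQ
    · have := Nat.le_of_dvd hn hd
      omega
    · rw [hQ] at hdvd hd hne
      obtain ⟨i, hi, hiS⟩ := (Nat.dvd_prime_pow Nat.prime_three).mp (show Nat.card S ∣ 3 ^ 2 by
        norm_num; exact hdvd)
      interval_cases i <;> rw [hiS] at hd hne <;> norm_num at hd hne
      · have := Nat.le_of_dvd (by norm_num) ((hr.dvd_of_dvd_pow (show r ∣ 2 ^ 3 by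
          norm_num; exact hd)))
        omega
      · rcases hr.dvd_mul.mp (show r ∣ 2 * 3 by norm_num; exact hd) with h | h <;>
          · have := Nat.le_of_dvd (by norm_num) h
            omega
  exact hS.ge (mem_top v)

lemma commutator_zpowers_eq {V : Subgroup G} {d : G} (hd : d ∈ normalizer (V : Set G)) :
    ⁅V, zpowers d⁆ = mv V d := by
  refine le_antisymm ?_ (mv_le fun v hv => ?_)
  · rw [commutator_comm, commutator_le]
    intro y hy v hv
    obtain ⟨n, rfl⟩ := (IsOfFinOrder.mem_powers_iff_mem_zpowers (isOfFinOrder_of_finite d)).mpr hy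
    exact comm_pow_mem_mv hd n v hv
  · rw [commutator_comm]
    exact commutator_mem_commutator (mem_zpowers d) hv

lemma le_normalizer_of_comm {g k : G} (h : g * k = k * g) :
    g ∈ normalizer ((zpowers k : Subgroup G) : Set G) := by
  refine mem_normalizer_iff.mpr fun z => ?_
  have hfix : ∀ z ∈ zpowers k, g * z * g⁻¹ = z := fun z hz => by
    obtain ⟨n, rfl⟩ := mem_zpowers_iff.mp hz
    exact conj_eq_self ((show Commute g k from h).zpow_right n)
  refine ⟨fun hz => (hfix z hz).symm ▸ hz, fun hz => ?_⟩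
  have h1 := hfix _ hz
  have h2 : g * z * g⁻¹ = z := by
    have h3 : g⁻¹ * (g * (g * z * g⁻¹) * g⁻¹) * g = g⁻¹ * (g * z * g⁻¹) * g := by rw [h1]
    simpa [mul_assoc] using h3
  exact h2 ▸ hz

lemma normalizer_le_centralizer' (U : Subgroup G) :
    normalizer (U : Set G) ≤ normalizer ((centralizer (U : Set G) : Subgroup G) : Set G) := by
  have key : ∀ g ∈ normalizer (U : Set G), ∀ y ∈ centralizer (U : Set G),
      g * y * g⁻¹ ∈ centralizer (U : Set G) := fun g hg y hy => by
    refine mem_centralizer_iff.mpr fun z hz => ?_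
    have h2 := mem_centralizer_iff.mp hy _ (conj_mem_of_normalizer' hg hz)
    calc z * (g * y * g⁻¹) = g * (g⁻¹ * z * g * y) * g⁻¹ := by group
      _ = g * (y * (g⁻¹ * z * g)) * g⁻¹ := by rw [h2]
      _ = g * y * g⁻¹ * z := by group
  exact fun g hg => mem_normalizer_iff.mpr fun y => ⟨key g hg y, fun hy => by
    simpa [mul_assoc] using key g⁻¹ (inv_mem hg) _ hy⟩

lemma centralizer_zpowers (d : G) : centralizer ((zpowers d : Subgroup G) : Set G) = centralizer {d} := by
  rw [zpowers_eq_closure, centralizer_closure]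

lemma abelian_le_normalizer {p : ℕ} {V : Subgroup G} (hV : Cfsg.IsElementaryAbelian p V)
    {U : Subgroup G} (hU : U ≤ V) : V ≤ normalizer (U : Set G) := fun c hc =>
  mem_normalizer_iff.mpr fun w =>
    ⟨fun hw => by rw [Hyperplane.mem_comm hV hc (hU hw), mul_inv_cancel_right]; exact hw,
    fun hw => by
      have hwV : w ∈ V := by
        simpa [mul_assoc] using V.mul_mem (V.mul_mem (V.inv_mem hc) (hU hw)) hc
      rwa [Hyperplane.mem_comm hV hc hwV, mul_inv_cancel_right] at hw⟩

variable {r : ℕ} {V F T A : Subgroup G}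

namespace Frame

variable (f : Frame r p V F T A)
include f

/-- Subgroups of `F` with the same image on `V` have the same fixed points. -/
lemma fixed_eq {D D' : Subgroup G} (hD : D ≤ F) (hD' : D' ≤ F) (h : ⁅V, D'⁆ = ⁅V, D⁆) :
    V ⊓ centralizer (D' : Set G) = V ⊓ centralizer (D : Set G) := by
  have key : ∀ {D D' : Subgroup G}, D ≤ F → D' ≤ F → ⁅V, D'⁆ = ⁅V, D⁆ →
      V ⊓ centralizer ((D ⊔ D' : Subgroup G) : Set G) = V ⊓ centralizer (D : Set G) := by
    intro D D' hD hD' h
    have hV1 := hD.trans f.normF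
    have hV2 := hD'.trans f.normF
    have hVE : ⁅V, D ⊔ D'⁆ = ⁅V, D⁆ := by
      refine le_antisymm ?_ (commutator_mono le_rfl le_sup_left)
      let S : Subgroup G :=
        { carrier := {g | g ∈ normalizer ((⁅V, D⁆ : Subgroup G) : Set G) ∧
            ∀ v ∈ V, ⁅v, g⁆ ∈ ⁅V, D⁆}
          one_mem' := ⟨one_mem _, fun v _ => by simp⟩
          mul_mem' := fun {g k} hg hk => ⟨mul_mem hg.1 hk.1, fun v hv => by
            rw [commutatorElement_mul_right_eq_mul_conj]
            simpa [mul_assoc] using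
              ⁅V, D⁆.mul_mem (hg.2 v hv) (conj_mem_of_normalizer hg.1 (hk.2 v hv))⟩
          inv_mem' := fun {g} hg => ⟨inv_mem hg.1, fun v hv => by
            have e : ⁅v, g⁻¹⁆ = g⁻¹ * (⁅v, g⁆)⁻¹ * g := by
              simp only [commutatorElement_def]; group
            rw [e]
            exact conj_mem_of_normalizer' hg.1 (⁅V, D⁆.inv_mem (hg.2 v hv))⟩ }
      have hES : D ⊔ D' ≤ S := sup_le
        (fun g hg => ⟨le_normalizer_commutator' (hV1 hg) (le_normalizer hg),
          fun v hv => commutator_mem_commutator hv hg⟩)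
        (fun g hg => ⟨by rw [← h]; exact le_normalizer_commutator' (hV2 hg) (le_normalizer hg),
          fun v hv => h ▸ commutator_mem_commutator hv hg⟩)
      exact commutator_le.mpr fun v hv g hg => (hES hg).2 v hv
    refine eq_of_le_of_card_ge
      (inf_le_inf_left _ (centralizer_le (SetLike.coe_subset_coe.mpr le_sup_left))) ?_
    have h1 := (f.splitV (sup_le hD hD')).2.2
    have h2 := (f.splitV hD).2.2
    rw [hVE, ← h2] at h1
    exact (Nat.eq_of_mul_eq_mul_left Nat.card_pos h1).ge
  rw [← key hD hD' h, ← key hD' hD h.symm, sup_comm]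

/-- The image of `e⁻¹ y e y'` lies in the images of `y` and `y'`. -/
lemma mv_comm_le {e y : G} (he : e ∈ normalizer (V : Set G)) (hy : y ∈ normalizer (V : Set G))
    {y' : G} (hy' : ∀ v ∈ V, ⁅y', v⁆ ∈ mv V y) :
    mv V (e⁻¹ * y * e * y') ≤ mv V y ⊔ MulAut.conj e⁻¹ • mv V y := by
  refine mv_le fun v hv => ?_
  set J := mv V y ⊔ MulAut.conj e⁻¹ • mv V y
  have hJV : J ≤ V := sup_le (mv_le_self hy) (by
    exact (pointwise_smul_le_pointwise_smul_iff.mpr (mv_le_self hy)).trans
      (Coprime.conj_smul_eq_self_iff.mpr (inv_mem he)).le)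
  set k := e⁻¹ * y * e
  have hk : k ∈ normalizer (V : Set G) := mul_mem (mul_mem (inv_mem he) hy) he
  have hkm : ∀ w ∈ V, ⁅k, w⁆ ∈ J := fun w hw => by
    have h1 : ⁅k, w⁆ = e⁻¹ * ⁅y, e * w * e⁻¹⁆ * e := by
      simp only [k, commutatorElement_def]; group
    refine mem_sup_right ⟨_, comm_mem_mv (conj_mem_of_normalizer he hw), ?_⟩
    show e⁻¹ * ⁅y, e * w * e⁻¹⁆ * e⁻¹⁻¹ = _
    rw [inv_inv, h1]
  have h1 : ⁅k * y', v⁆ = k * ⁅y', v⁆ * k⁻¹ * ⁅k, v⁆ := by
    simp only [commutatorElement_def]; group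
  rw [h1]
  refine mul_mem ?_ (hkm v hv)
  rw [conj_eq_comm_mul]
  exact mul_mem (hkm _ (hJV (mem_sup_left (hy' v hv)))) (mem_sup_left (hy' v hv))

lemma card_sup_mv_le {e y : G} (he : e ∈ normalizer (V : Set G)) (hy : y ∈ normalizer (V : Set G)) :
    Nat.card ↥(mv V y ⊔ MulAut.conj e⁻¹ • mv V y) ≤ Nat.card (mv V y) * Nat.card (mv V y) := by
  have h2 : MulAut.conj e⁻¹ • mv V y ≤ V := by
    exact (pointwise_smul_le_pointwise_smul_iff.mpr (mv_le_self hy)).trans
      (Coprime.conj_smul_eq_self_iff.mpr (inv_mem he)).le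
  refine (Nat.le_of_dvd (Nat.mul_pos Nat.card_pos Nat.card_pos)
    (Signalizer.card_sup_dvd (h2.trans (abelian_le_normalizer f.elemV (mv_le_self hy))))).trans_eq ?_
  rw [Coprime.card_conj_smul]

end Frame

end Cfsg.Agent.SolvableSignalizer.Linear
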