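import Cfsg.Agent.Lib.SolvableSignalizer.Linear.ThreeQuat

/-!
A quadratic element of order three moving little: what commutes with it in `B`, and how two of
its quaternion groups meet.
-/

set_option autoImplicit false
set_option linter.style.haveILetI false
set_option linter.unusedSectionVars false

namespace Cfsg.Agent.SolvableSignalizer.Linear.Three

open Subgroup
open Cfsg.Agent.Components
open scoped commutatorElement Pointwise

variable {G : Type*} [Group G] [Finite G] {V B Z : Subgroup G} {x g : G}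

/-- The group generated by `g` and its conjugate under `x`. -/
def qgrp (x g : G) : Subgroup G := closure {g, x * g * x⁻¹}

lemma mem_qgrp (x g : G) : g ∈ qgrp x g := subset_closure (Set.mem_insert _ _)

lemma mem_qgrp' (x g : G) : x * g * x⁻¹ ∈ qgrp x g :=
  subset_closure (Set.mem_insert_of_mem _ rfl)

lemma eq_or_eq_inv {E : Subgroup G} (hE : Nat.card E = 3) {i v : G} (hi : i ∈ E) (hi1 : i ≠ 1)
    (hv : v ∈ E) : v = 1 ∨ v = i ∨ v = i⁻¹ := by
  classical
  haveI := Fintype.ofFinite E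
  by_contra hc
  push Not at hc
  have hi2 : (⟨i, hi⟩ : E) ≠ ⟨i⁻¹, E.inv_mem hi⟩ := fun h => by
    have h' : i = i⁻¹ := congrArg Subtype.val h
    have h2 : (⟨i, hi⟩ : E) ^ 2 = 1 := Subtype.ext (by
      show i ^ 2 = 1
      rw [sq]; nth_rw 1 [h']; exact inv_mul_cancel i)
    have h3 : (⟨i, hi⟩ : E) ^ 3 = 1 := hE ▸ pow_card_eq_one'
    rw [pow_succ, h2, one_mul] at h3
    exact hi1 (congrArg Subtype.val h3)
  have hne : ∀ {a b : G} {ha : a ∈ E} {hb : b ∈ E}, a ≠ b → (⟨a, ha⟩ : E) ≠ ⟨b, hb⟩ :=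
    fun h e => h (congrArg Subtype.val e)
  have h4 : ({⟨1, E.one_mem⟩, ⟨i, hi⟩, ⟨i⁻¹, E.inv_mem hi⟩, ⟨v, hv⟩} : Finset E).card = 4 := by
    simp [Finset.card_insert_of_notMem, hne hi1.symm, hne (inv_ne_one.mpr hi1).symm, hne hc.1.symm,
      hi2, hne hc.2.1.symm, hne hc.2.2.symm]
  have := Finset.card_le_univ ({⟨1, E.one_mem⟩, ⟨i, hi⟩, ⟨i⁻¹, E.inv_mem hi⟩, ⟨v, hv⟩} : Finset E)
  rw [h4, ← Nat.card_eq_fintype_card, hE] at this
  omega

/-- An element acting on a group of order three does not square to inversion. -/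
lemma no_sqrt_inv {E : Subgroup G} (hE : Nat.card E = 3) {k i : G} (hi : i ∈ E) (hi1 : i ≠ 1)
    (hk : k * i * k⁻¹ ∈ E) (h : k * (k * i * k⁻¹) * k⁻¹ = i⁻¹) : False := by
  have h2 : k * (k * i * k⁻¹) * k⁻¹ = i := by
    rcases eq_or_eq_inv hE hi hi1 hk with e | e | e
    · exact absurd (conj_eq_one_iff.mp e) hi1
    · rw [e, e]
    · rw [e, show k * i⁻¹ * k⁻¹ = (k * i * k⁻¹)⁻¹ by group, e, inv_inv]
  have h3 : i = i⁻¹ := h2.symm.trans h
  have h4 : (⟨i, hi⟩ : E) ^ 2 = 1 := Subtype.ext (by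
    show i ^ 2 = 1
    rw [sq]; nth_rw 1 [h3]; exact inv_mul_cancel i)
  have h5 : (⟨i, hi⟩ : E) ^ 3 = 1 := hE ▸ pow_card_eq_one'
  rw [pow_succ, h4, one_mul] at h5
  exact hi1 (congrArg Subtype.val h5)

lemma conj_swap {h k y : G} (hc : Commute h k) :
    h * k * y * (h * k)⁻¹ = k * h * y * (k * h)⁻¹ := by rw [hc.eq]

namespace Quat

variable (s : Setup V B Z x) (q : Quat V B Z x g)
include s q

lemma memX : x * g * x⁻¹ ∈ B := conj_mem_of_normalizer s.normX q.mem

lemma qgrp_le : qgrp x g ≤ B := (closure_le _).mpr (by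
  rintro _ (rfl | rfl)
  exacts [q.mem, q.memX s])

lemma zB : g * g ∈ B := B.mul_mem q.mem q.mem

lemma zD : g * g ∈ qgrp x g := (qgrp x g).mul_mem (mem_qgrp x g) (mem_qgrp x g)

lemma zinv : (g * g)⁻¹ = g * g := inv_eq_of_mul_eq_one_right q.ord

lemma xz : Commute x (g * g) := s.zx q.zmem

lemma WV : mv V (g * g) ≤ V := mv_le_self (s.normB (q.zB s))

lemma normW {k : G} (hk : k ∈ normalizer (V : Set G)) (h : Commute k (g * g)) :
    k ∈ normalizer ((mv V (g * g) : Subgroup G) : Set G) :=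
  normalizer_mv (s.normB (q.zB s)) hk h

lemma normW' {b : G} (hb : b ∈ B) : b ∈ normalizer ((mv V (g * g) : Subgroup G) : Set G) :=
  q.normW s (s.normB hb) (s.zcomm hb q.zmem)

lemma normWx : x ∈ normalizer ((mv V (g * g) : Subgroup G) : Set G) :=
  q.normW s s.normV (q.xz s)

lemma elemW : Cfsg.IsElementaryAbelian 3 (mv V (g * g)) :=
  haveI := Fact.mk Nat.prime_three
  elem_le s.elemV (q.WV s)

lemma neg_free {w : G} (hw : w ∈ mv V (g * g)) (h : Commute (g * g) w) : w = 1 :=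
  mem_bot.mp (q.disj ▸ ⟨hw, q.WV s hw, mem_centralizer_singleton_iff.mpr h.eq.symm⟩)

/-- An element commuting on `Y` with `g` and its conjugate commutes there with `x`. -/
theorem commute_on {Y : Subgroup G} (hY : Y ≤ mv V (g * g)) (_hxY : x ∈ normalizer (Y : Set G))
    (hgY : g ∈ normalizer (Y : Set G)) {h : G} (hhY : h ∈ normalizer (Y : Set G))
    (h1 : ∀ v ∈ Y, h * g * v * (h * g)⁻¹ = g * h * v * (g * h)⁻¹)
    (h2 : ∀ v ∈ Y, h * (x * g * x⁻¹) * v * (h * (x * g * x⁻¹))⁻¹ =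
      x * g * x⁻¹ * h * v * (x * g * x⁻¹ * h)⁻¹) :
    ∀ v ∈ Y, x * h * v * (x * h)⁻¹ = h * x * v * (h * x)⁻¹ := by
  intro v hv
  set g' := x * g * x⁻¹
  have hv' : h * v * h⁻¹ ∈ Y := conj_mem_of_normalizer hhY hv
  have hgv : g * v * g⁻¹ ∈ Y := conj_mem_of_normalizer hgY hv
  have e1 : h * (g * v * g⁻¹) * h⁻¹ = g * (h * v * h⁻¹) * g⁻¹ := by
    calc _ = h * g * v * (h * g)⁻¹ := by group
      _ = g * h * v * (g * h)⁻¹ := h1 v hv
      _ = _ := by group
  have e2 : h * (g' * v * g'⁻¹) * h⁻¹ = g' * (h * v * h⁻¹) * g'⁻¹ := by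
    calc _ = h * g' * v * (h * g')⁻¹ := by group
      _ = g' * h * v * (g' * h)⁻¹ := h2 v hv
      _ = _ := by group
  have e3 : h * (g' * (g * v * g⁻¹) * g'⁻¹) * h⁻¹ = g' * (g * (h * v * h⁻¹) * g⁻¹) * g'⁻¹ := by
    calc _ = h * g' * (g * v * g⁻¹) * (h * g')⁻¹ := by group
      _ = g' * h * (g * v * g⁻¹) * (g' * h)⁻¹ := h2 _ hgv
      _ = g' * (h * (g * v * g⁻¹) * h⁻¹) * g'⁻¹ := by group
      _ = _ := by rw [e1]
  have e4 : ⁅x, h * v * h⁻¹⁆ = h * ⁅x, v⁆ * h⁻¹ := by
    rw [q.formula v (hY hv), q.formula _ (hY hv'), ← e1, ← e2]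
    show _ = h * (g' * (g * v * g⁻¹) * g'⁻¹ * (g * v * g⁻¹) * (g' * v * g'⁻¹))⁻¹ * h⁻¹
    rw [show g' * (h * (g * v * g⁻¹) * h⁻¹) * g'⁻¹ = h * (g' * (g * v * g⁻¹) * g'⁻¹) * h⁻¹ by
      rw [e3, e1]]
    group
  calc x * h * v * (x * h)⁻¹ = x * (h * v * h⁻¹) * x⁻¹ := by group
    _ = h * ⁅x, v⁆ * h⁻¹ * (h * v * h⁻¹) := by rw [conj_eq_comm_mul, e4]
    _ = h * (⁅x, v⁆ * v) * h⁻¹ := by group
    _ = h * x * v * (h * x)⁻¹ := by rw [← conj_eq_comm_mul]; group

/-- An element of `B` whose action on part of `W` commutes with that of `x` commutes with `x`. -/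
theorem move {f : G} (hf : f ∈ B) {Y : Subgroup G} (hY : Y ≤ mv V (g * g)) (hY1 : Y ≠ ⊥)
    (hxY : x ∈ normalizer (Y : Set G))
    (hh : ∀ v ∈ Y, x * f * v * (x * f)⁻¹ = f * x * v * (f * x)⁻¹) : Commute x f := by
  by_contra hc
  have q' := s.exists_quat hf hc
  set k := f⁻¹ * x * f * x⁻¹
  have hkY : ∀ v ∈ Y, k * v * k⁻¹ = v := fun v hv => by
    have hw := conj_mem_of_normalizer' hxY hv
    calc k * v * k⁻¹ = f⁻¹ * (x * f * (x⁻¹ * v * x) * (x * f)⁻¹) * f := by simp only [k]; group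
      _ = f⁻¹ * (f * x * (x⁻¹ * v * x) * (f * x)⁻¹) * f := by rw [hh _ hw]
      _ = v := by group
  obtain ⟨v, hv, hv1⟩ : ∃ v ∈ Y ⊓ centralizer {x}, v ≠ 1 := by
    by_contra h
    push Not at h
    exact s.fixed_inter (hY.trans (q.WV s)) hxY hY1 ((eq_bot_iff_forall _).mpr h)
  have hvI : v ∈ mv V x := q.fixed.le ⟨hY hv.1, hv.2⟩
  have hvW : v ∈ mv V (k * k) := q'.span.ge (mem_sup_left hvI)
  refine hv1 (q'.neg_free s hvW (mem_centralizer_conj.mp ?_))
  calc k * k * v * (k * k)⁻¹ = k * (k * v * k⁻¹) * k⁻¹ := by group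
    _ = v := by rw [hkY v hv.1, hkY v hv.1]

/-- An element of `B` centralised by `x` commutes with `g`. -/
theorem cent {f : G} (hf : f ∈ B) (hxf : Commute x f) :
    f ∈ centralizer (qgrp x g : Set G) := by
  set g' := x * g * x⁻¹ with hg'
  set c := ⁅f, g⁆ with hc
  have hcZ : c ∈ Z := s.comm f hf g q.mem
  have h1 : ⁅f, g'⁆ = c := by
    have : ⁅f, g'⁆ = x * ⁅f, g⁆ * x⁻¹ := by
      have hf' : x * f * x⁻¹ = f := conj_eq_self hxf
      calc ⁅f, g'⁆ = ⁅x * f * x⁻¹, x * g * x⁻¹⁆ := by rw [hf']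
        _ = _ := by simp only [commutatorElement_def]; group
    rw [this, conj_eq_self (s.zx hcZ)]
  have h2 : ⁅f, x * g' * x⁻¹⁆ = c := by
    have hf' : x * f * x⁻¹ = f := conj_eq_self hxf
    calc ⁅f, x * g' * x⁻¹⁆ = ⁅x * f * x⁻¹, x * g' * x⁻¹⁆ := by rw [hf']
      _ = x * ⁅f, g'⁆ * x⁻¹ := by simp only [commutatorElement_def]; group
      _ = c := by rw [h1, conj_eq_self (s.zx hcZ)]
  have h3 : c ^ 3 = 1 := by
    have e : ⁅f, g * g' * (x * g' * x⁻¹)⁆ =
        c * (g * (⁅f, g'⁆ * (g' * ⁅f, x * g' * x⁻¹⁆ * g'⁻¹)) * g⁻¹) := by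
      simp only [hc, commutatorElement_def]; group
    rw [q.prod, commutatorElement_one_right, h1, h2, conj_eq_self (s.zcomm (q.memX s) hcZ),
      conj_eq_self ((s.zcomm q.mem hcZ).mul_right (s.zcomm q.mem hcZ)), ← mul_assoc] at e
    rw [pow_succ, pow_two, ← e]
  obtain ⟨k, hk⟩ := s.two_pow (s.zle hcZ)
  have hc1 : c = 1 := pow_two_pow_eq_one h3 hk
  have hle : qgrp x g ≤ centralizer {f} := by
    rw [qgrp, closure_le]
    rintro _ (rfl | rfl) <;> refine mem_centralizer_singleton_iff.mpr ?_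
    · exact (commutatorElement_eq_one_iff_mul_comm.mp hc1).symm
    · exact (commutatorElement_eq_one_iff_mul_comm.mp (h1.trans hc1)).symm
  exact mem_centralizer_iff.mpr fun d hd => mem_centralizer_singleton_iff.mp (hle hd)

theorem values {f : G} (hf : f ∈ B) : ⁅f, g⁆ = 1 ∨ ⁅f, g⁆ = g * g := by
  haveI := Fact.mk Nat.prime_three
  set g' := x * g * x⁻¹ with hg'
  set W := mv V (g * g) with hW
  set c := ⁅f, g⁆ with hc
  have hcZ : c ∈ Z := s.comm f hf g q.mem
  have hg'B : g' ∈ B := q.memX s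
  set c' := ⁅f, g'⁆ with hc'
  have hc'Z : c' ∈ Z := s.comm f hf g' hg'B
  have hWV : W ≤ V := q.WV s
  have hgg' : g' * g' = g * g := by
    calc g' * g' = x * (g * g) * x⁻¹ := by simp only [hg']; group
      _ = g * g := conj_eq_self (q.xz s)
  have hsq : ∀ k ∈ B, k * k = g * g → ⁅f, k⁆ * ⁅f, k⁆ = 1 := fun k hk hkk => by
    have e : ⁅f, k * k⁆ = ⁅f, k⁆ * (k * ⁅f, k⁆ * k⁻¹) := by
      simp only [commutatorElement_def]; group
    rw [conj_eq_self (s.zcomm hk (s.comm f hf k hk)), hkk,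
      commutatorElement_eq_one_iff_mul_comm.mpr (s.zcomm hf q.zmem).eq] at e
    exact e.symm
  have hinvert : ∀ (d : G) (W₂ : Subgroup G), d * d = 1 → W₂ ≤ W →
      d ∈ normalizer (W₂ : Set G) → W₂ ⊓ centralizer {d} = ⊥ →
      ∀ w ∈ W₂, d * w * d⁻¹ = w⁻¹ := fun d W₂ hd hle hn hfree w hw => by
    refine (inv_eq_of_mul_eq_one_right (mem_bot.mp (hfree ▸
      ⟨W₂.mul_mem hw (conj_mem_of_normalizer hn hw), mem_centralizer_singleton_iff.mpr
        (mem_centralizer_conj.mp ?_).eq.symm⟩))).symm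
    calc d * (w * (d * w * d⁻¹)) * d⁻¹ = d * w * d⁻¹ * (d * d * w * (d * d)⁻¹) := by group
      _ = d * w * d⁻¹ * w := by rw [hd]; group
      _ = w * (d * w * d⁻¹) := Hyperplane.mem_comm s.elemV
        (hWV (hle (conj_mem_of_normalizer hn hw))) (hWV (hle hw))
  have hcc := hsq g q.mem rfl
  set W₂ := W ⊓ centralizer {c} with hW₂
  have hnorm : ∀ k ∈ B, k ∈ normalizer (W₂ : Set G) := fun k hk =>
    normalizer_fixed (q.normW' s hk) (s.zcomm hk hcZ)
  by_cases hbot : W₂ = ⊥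
  · right
    have hcn : ∀ w ∈ W, c * w * c⁻¹ = w⁻¹ :=
      hinvert c W hcc le_rfl (q.normW' s (s.zle hcZ)) hbot
    have hcC : c ∈ centralizer ((V ⊓ centralizer {g * g} : Subgroup G) : Set G) := by
      rw [hc, commutatorElement_def]
      exact mul_mem (conj_mem_of_normalizer (normalizer_le_centralizer' _
        (normalizer_fixed (s.normB hf) (s.zcomm hf q.zmem))) q.fixg) (inv_mem q.fixg)
    have hV : V ≤ centralizer {c * (g * g)} := by
      rw [← q.sup]
      refine sup_le (fun w hw => ?_) (fun v hv => mem_centralizer_singleton_iff.mpr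
        (mem_centralizer_iff.mp (mul_mem hcC (mul_mem q.fixg q.fixg)) v hv))
      refine mem_centralizer_singleton_iff.mpr (mem_centralizer_conj.mp ?_).eq.symm
      calc c * (g * g) * w * (c * (g * g))⁻¹ = c * (g * g * w * (g * g)⁻¹) * c⁻¹ := by group
        _ = w := by rw [q.neg w hw, hcn _ (W.inv_mem hw), inv_inv]
    have h3 := s.faith _ (B.mul_mem (s.zle hcZ) (q.zB s))
      (mem_centralizer_iff.mpr fun v hv => mem_centralizer_singleton_iff.mp (hV hv))
    rw [← inv_eq_of_mul_eq_one_left h3, q.zinv s]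
  left
  have hxW₂ : x ∈ normalizer (W₂ : Set G) := normalizer_fixed (q.normWx s) (s.zx hcZ)
  set Y := W₂ ⊓ centralizer {c'} with hY
  have hcfix : ∀ v ∈ W₂, c * v * c⁻¹ = v := fun v hv =>
    conj_eq_self (mem_centralizer_singleton_iff.mp hv.2).symm
  by_cases hYb : Y = ⊥
  · have hcc' := hsq g' hg'B hgg'
    have hc'n : ∀ v ∈ W₂, c' * v * c'⁻¹ = v⁻¹ :=
      hinvert c' W₂ hcc' inf_le_left (hnorm _ (s.zle hc'Z)) hYb
    have hhB : f * g ∈ B := B.mul_mem hf q.mem
    have hx := q.move s hhB inf_le_left hbot hxW₂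
      (q.commute_on s inf_le_left hxW₂ (hnorm _ q.mem) (hnorm _ hhB) (fun v hv => ?_)
        (fun v hv => ?_))
    · have h4 := mem_centralizer_iff.mp (q.cent s hhB hx) g (mem_qgrp x g)
      refine commutatorElement_eq_one_iff_mul_comm.mpr (mul_right_cancel (b := g) ?_)
      rw [← h4, mul_assoc]
    · have hgg : f * g * g = c * (g * (f * g)) := by
        simp only [hc, commutatorElement_def]; group
      calc f * g * g * v * (f * g * g)⁻¹
          = c * (g * (f * g) * v * (g * (f * g))⁻¹) * c⁻¹ := by rw [hgg]; group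
        _ = g * (f * g) * v * (g * (f * g))⁻¹ := hcfix _
            (conj_mem_of_normalizer (hnorm _ (B.mul_mem q.mem hhB)) hv)
    · have hswap : g * g' = g * g * (g' * g) := by
        rw [← q.comm]; simp only [← hg', commutatorElement_def]; group
      have hgg : f * g * g' = g * g * c' * (g' * (f * g)) := by
        calc f * g * g' = f * (g * g) * (g' * g) := by rw [mul_assoc, hswap]; group
          _ = g * g * (f * g') * g := by rw [(s.zcomm hf q.zmem).eq]; group
          _ = g * g * (c' * (g' * f)) * g := by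
            simp only [hc', commutatorElement_def]; group
          _ = _ := by group
      have hu : g' * (f * g) * v * (g' * (f * g))⁻¹ ∈ W₂ :=
        conj_mem_of_normalizer (hnorm _ (B.mul_mem hg'B hhB)) hv
      calc f * g * g' * v * (f * g * g')⁻¹
          = g * g * (c' * (g' * (f * g) * v * (g' * (f * g))⁻¹) * c'⁻¹) * (g * g)⁻¹ := by
            rw [hgg]; group
        _ = g' * (f * g) * v * (g' * (f * g))⁻¹ := by
            rw [hc'n _ hu, q.neg _ (W.inv_mem hu.1), inv_inv]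
  · have hnY : ∀ k ∈ B, k ∈ normalizer (Y : Set G) := fun k hk =>
      normalizer_fixed (hnorm k hk) (s.zcomm hk hc'Z)
    have hxY : x ∈ normalizer (Y : Set G) := normalizer_fixed hxW₂ (s.zx hc'Z)
    have hx := q.move s hf (inf_le_left.trans inf_le_left) hYb hxY
      (q.commute_on s (inf_le_left.trans inf_le_left) hxY (hnY _ q.mem) (hnY _ hf)
        (fun v hv => ?_) (fun v hv => ?_))
    · exact commutatorElement_eq_one_iff_mul_comm.mpr
        (mem_centralizer_iff.mp (q.cent s hf hx) g (mem_qgrp x g)).symm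
    · calc f * g * v * (f * g)⁻¹ = c * (g * f * v * (g * f)⁻¹) * c⁻¹ := by
            simp only [hc, commutatorElement_def]; group
        _ = g * f * v * (g * f)⁻¹ := hcfix _
            (conj_mem_of_normalizer (hnY _ (B.mul_mem q.mem hf)) hv).1
    · calc f * g' * v * (f * g')⁻¹ = c' * (g' * f * v * (g' * f)⁻¹) * c'⁻¹ := by
            simp only [hc', commutatorElement_def]; group
        _ = g' * f * v * (g' * f)⁻¹ := conj_eq_self (mem_centralizer_singleton_iff.mp
            (conj_mem_of_normalizer (hnY _ (B.mul_mem hg'B hf)) hv).2).symm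

theorem values' {f : G} (hf : f ∈ B) :
    ⁅f, x * g * x⁻¹⁆ = 1 ∨ ⁅f, x * g * x⁻¹⁆ = g * g := by
  have e : ⁅f, x * g * x⁻¹⁆ = x * ⁅x⁻¹ * f * x, g⁆ * x⁻¹ := by
    simp only [commutatorElement_def]; group
  rcases q.values s (conj_mem_of_normalizer' s.normX hf) with h | h <;> rw [e, h]
  · left; group
  · right; exact conj_eq_self (q.xz s)

/-- `B` is the product of the centraliser of `x` and the quaternion group. -/
theorem decomp {f : G} (hf : f ∈ B) : ∃ δ ∈ qgrp x g, Commute x (f * δ) := by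
  set g' := x * g * x⁻¹ with hg'
  have hg'B : g' ∈ B := q.memX s
  have hzc : ∀ b ∈ B, Commute b (g * g) := fun b hb => s.zcomm hb q.zmem
  have hg'g : ⁅g', g⁆ = g * g := by
    rw [← commutatorElement_inv g g', q.comm, q.zinv s]
  suffices h : ∃ δ ∈ qgrp x g, f * δ ∈ B ∧ Commute (f * δ) g ∧ Commute (f * δ) g' by
    obtain ⟨δ, hδ, hB, h1, h2⟩ := h
    refine ⟨δ, hδ, q.move s hB le_rfl (fun e => ?_) (q.normWx s)
      (q.commute_on s le_rfl (q.normWx s) (q.normW' s q.mem) (q.normW' s hB)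
        (fun v _ => conj_swap h1) (fun v _ => conj_swap h2))⟩
    have := q.cardW
    rw [e, card_bot] at this
    norm_num at this
  have hmul : ∀ δ k : G, δ ∈ B → k ∈ B → ⁅f * δ, k⁆ = ⁅δ, k⁆ * ⁅f, k⁆ := fun δ k hδ hk => by
    have e : ⁅f * δ, k⁆ = f * ⁅δ, k⁆ * f⁻¹ * ⁅f, k⁆ := by
      simp only [commutatorElement_def]; group
    rw [e, conj_eq_self (s.zcomm hf (s.comm δ hδ k hk))]
  have fin : ∀ δ ∈ qgrp x g, ⁅δ, g⁆ * ⁅f, g⁆ = 1 → ⁅δ, g'⁆ * ⁅f, g'⁆ = 1 →
      ∃ δ ∈ qgrp x g, f * δ ∈ B ∧ Commute (f * δ) g ∧ Commute (f * δ) g' :=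
    fun δ hδ e1 e2 =>
      have hδB : δ ∈ B := q.qgrp_le s hδ
      ⟨δ, hδ, B.mul_mem hf hδB,
        commutatorElement_eq_one_iff_mul_comm.mp ((hmul δ g hδB q.mem).trans e1),
        commutatorElement_eq_one_iff_mul_comm.mp ((hmul δ g' hδB hg'B).trans e2)⟩
  rcases q.values s hf with h1 | h1 <;> rcases q.values' s hf with h2 | h2
  · exact fin 1 (one_mem _) (by simp [h1]) (by simp [← hg'] at h2 ⊢; exact h2)
  · exact fin g (mem_qgrp x g) (by rw [h1, commutatorElement_self, one_mul])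
      (by rw [hg', h2, q.comm, q.ord])
  · exact fin g' (mem_qgrp' x g) (by rw [h1, hg'g, q.ord])
      (by rw [hg', h2, commutatorElement_self, one_mul])
  · refine fin (g * g') ((qgrp x g).mul_mem (mem_qgrp x g) (mem_qgrp' x g)) ?_ ?_
    · have e : ⁅g * g', g⁆ = g * ⁅g', g⁆ * g⁻¹ := by simp only [commutatorElement_def]; group
      rw [e, hg'g, conj_eq_self (hzc g q.mem), h1, q.ord]
    · have e : ⁅g * g', g'⁆ = ⁅g, g'⁆ := by simp only [commutatorElement_def]; group
      rw [e, hg', q.comm, h2, q.ord]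

/-- The elements of the quaternion group. -/
theorem qgrp_cases {d : G} (hd : d ∈ qgrp x g) :
    ∃ δ ∈ ({1, g, x * g * x⁻¹, g * (x * g * x⁻¹)} : Set G), d = δ ∨ d = δ * (g * g) := by
  set g' := x * g * x⁻¹ with hg'
  set z := g * g with hz
  have hgg' : g' * g' = z := by
    calc g' * g' = x * (g * g) * x⁻¹ := by simp only [hg']; group
      _ = g * g := conj_eq_self (q.xz s)
  have hswap : g' * g = g * g' * z := by
    calc g' * g = (⁅g, g'⁆)⁻¹ * (g * g') := by simp only [commutatorElement_def]; group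
      _ = z * (g * g') := by rw [q.comm, q.zinv s]
      _ = g * g' * z := ((s.zcomm (B.mul_mem q.mem (q.memX s)) q.zmem).eq).symm
  have hzc : ∀ b ∈ B, b * z = z * b := fun b hb => (s.zcomm hb q.zmem).eq
  have hz1 : z * z = 1 := q.ord
  -- the set is closed under multiplication by the generators
  let S : Set G := {d | ∃ δ ∈ ({1, g, g', g * g'} : Set G), d = δ ∨ d = δ * z}
  have hz' : ∀ δ ∈ ({1, g, g', g * g'} : Set G), δ ∈ B := by
    rintro _ (rfl | rfl | rfl | rfl)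
    exacts [B.one_mem, q.mem, q.memX s, B.mul_mem q.mem (q.memX s)]
  have key : ∀ k : G, (∀ δ ∈ ({1, g, g', g * g'} : Set G), δ * k ∈ S) → k ∈ B →
      ∀ d ∈ S, d * k ∈ S := by
    rintro k hk hkB d ⟨δ, hδ, e | e⟩ <;> rw [e]
    · exact hk δ hδ
    · obtain ⟨ε, hε, h | h⟩ := hk δ hδ
      · exact ⟨ε, hε, Or.inr (by rw [mul_assoc, ← hzc k hkB, ← mul_assoc, h])⟩
      · exact ⟨ε, hε, Or.inl (by
          rw [mul_assoc, ← hzc k hkB, ← mul_assoc, h, mul_assoc, hz1, mul_one])⟩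
  have hg1 : ∀ d ∈ S, d * g ∈ S := by
    refine key g ?_ q.mem
    rintro δ (e | e | e | e) <;> rw [e]
    · exact ⟨g, by simp, Or.inl (one_mul g)⟩
    · exact ⟨1, by simp, Or.inr (one_mul z).symm⟩
    · exact ⟨g * g', by simp, Or.inr hswap⟩
    · exact ⟨g', by simp, Or.inl (by
        calc g * g' * g = g * (g * g' * z) := by rw [mul_assoc, hswap]
          _ = g * g * (g' * z) := by group
          _ = z * (z * g') := by rw [hzc g' (q.memX s)]
          _ = g' := by rw [← mul_assoc, hz1, one_mul])⟩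
  have hg2 : ∀ d ∈ S, d * g' ∈ S := by
    refine key g' ?_ (q.memX s)
    rintro δ (e | e | e | e) <;> rw [e]
    · exact ⟨g', by simp, Or.inl (one_mul g')⟩
    · exact ⟨g * g', by simp, Or.inl rfl⟩
    · exact ⟨1, by simp, Or.inr (by rw [hgg', one_mul])⟩
    · exact ⟨g, by simp, Or.inr (by rw [mul_assoc, hgg'])⟩
  obtain ⟨l, hl, rfl⟩ : ∃ l : List G, (∀ y ∈ l, y = g ∨ y = g') ∧ l.prod = d := by
    have h := hd
    rw [qgrp, ← mem_toSubmonoid, closure_toSubmonoid_of_finite] at h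
    obtain ⟨l, hl, e⟩ := Submonoid.exists_list_of_mem_closure h
    exact ⟨l, fun y hy => by simpa using hl y hy, e⟩
  show l.prod ∈ S
  induction l using List.reverseRecOn with
  | nil => exact ⟨1, by simp, Or.inl rfl⟩
  | append_singleton l a ih =>
    have hl' : ∀ y ∈ l, y = g ∨ y = g' := fun y hy => hl y (by simp [hy])
    have hmem : l.prod ∈ qgrp x g := (qgrp x g).list_prod_mem fun y hy => by
      rcases hl' y hy with rfl | rfl
      exacts [mem_qgrp x _, mem_qgrp' x g]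
    rw [List.prod_append, List.prod_singleton]
    rcases hl a (by simp) with rfl | rfl
    · exact hg1 _ (ih hl' hmem)
    · exact hg2 _ (ih hl' hmem)

lemma card_qgrp : Nat.card (qgrp x g) ≤ 8 := by
  classical
  set g' := x * g * x⁻¹
  set z := g * g
  set F : Finset G := {1, g, g', g * g', 1 * z, g * z, g' * z, g * g' * z}
  have hsub : (qgrp x g : Set G) ⊆ (F : Set G) := by
    intro d hd
    obtain ⟨δ, hδ, h⟩ := q.qgrp_cases s hd
    rcases hδ with rfl | rfl | rfl | rfl <;> rcases h with rfl | rfl <;> simp [F, g', z]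
  calc Nat.card (qgrp x g) = (qgrp x g : Set G).ncard := Nat.card_coe_set_eq _
    _ ≤ (F : Set G).ncard := Set.ncard_le_ncard hsub F.finite_toSet
    _ ≤ 8 := by
      rw [Set.ncard_coe_finset]
      have h4 : ({1 * z, g * z, g' * z, g * g' * z} : Finset G).card ≤ 4 := Finset.card_le_four
      exact (Finset.card_insert_le _ _).trans (Nat.succ_le_succ ((Finset.card_insert_le _ _).trans
        (Nat.succ_le_succ ((Finset.card_insert_le _ _).trans
          (Nat.succ_le_succ ((Finset.card_insert_le _ _).trans (Nat.succ_le_succ h4)))))))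

end Quat

end Cfsg.Agent.SolvableSignalizer.Linear.Three
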