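import Cfsg.Agent.Lib.SolvableSignalizer.Linear.ThreeBlocks
import Cfsg.Agent.GroupStructure3.FrattiniAut

/-!
Two quadratic elements of order three moving little, in one `3`-group, and their quaternion groups.
-/

set_option autoImplicit false
set_option linter.style.haveILetI false
set_option linter.unusedSectionVars false

namespace Cfsg.Agent.SolvableSignalizer.Linear.Three

open Subgroup
open Cfsg.Agent.Components
open scoped commutatorElement Pointwise

variable {G : Type*} [Group G] [Finite G] {V B Z : Subgroup G} {x y g h : G}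

namespace Quat

variable (s : Setup V B Z x) (q : Quat V B Z x g)
include s q

lemma prod_eq : x * (x * g * x⁻¹) * x⁻¹ = (g * (x * g * x⁻¹))⁻¹ :=
  (inv_eq_of_mul_eq_one_right q.prod).symm

lemma norm_qgrp : x ∈ normalizer (qgrp x g : Set G) := by
  refine mem_normalizer_of_map_le fun d hd => ?_
  have hle : qgrp x g ≤ (qgrp x g).comap (MulAut.conj x).toMonoidHom := by
    refine (closure_le _).mpr ?_
    rintro _ (rfl | rfl)
    · exact mem_qgrp' x _
    · show x * (x * g * x⁻¹) * x⁻¹ ∈ qgrp x g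
      rw [q.prod_eq s]
      exact inv_mem (mul_mem (mem_qgrp x g) (mem_qgrp' x g))
  exact hle hd

lemma comm_qgrp {f : G} (hf : f ∈ B) : f⁻¹ * (x * f * x⁻¹) ∈ qgrp x g := by
  obtain ⟨δ, hδ, hc⟩ := q.decomp s hf
  have e : f⁻¹ * (x * f * x⁻¹) = δ * (f * δ)⁻¹ * (x * (f * δ) * x⁻¹) * (x * δ⁻¹ * x⁻¹) := by group
  rw [e, conj_eq_self hc]
  have h1 := conj_mem_of_normalizer (q.norm_qgrp s) (inv_mem hδ)
  have e2 : δ * (f * δ)⁻¹ * (f * δ) * (x * δ⁻¹ * x⁻¹) = δ * (x * δ⁻¹ * x⁻¹) := by group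
  rw [e2]
  exact mul_mem hδ h1

lemma zpow_cases {n : G} (hn : n ∈ zpowers (g * g)) : n = 1 ∨ n = g * g := by
  obtain ⟨i, rfl⟩ := mem_zpowers_iff.mp hn
  rw [← Int.mul_ediv_add_emod i 2, zpow_add, zpow_mul,
    show ((g * g) ^ (2 : ℤ)) = 1 by rw [zpow_two]; exact q.ord, one_zpow, one_mul]
  rcases (show i % 2 = 0 ∨ i % 2 = 1 by omega) with h | h <;> rw [h]
  · exact Or.inl (zpow_zero _)
  · exact Or.inr (zpow_one _)

variable (s' : Setup V B Z y) (q' : Quat V B Z y h)
include s' q'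

/-- The quaternion group of a differently placed element fixes `W`. -/
theorem translate_fix (hne : mv V (h * h) ≠ mv V (g * g)) :
    h ∈ centralizer (mv V (g * g) : Set G) := by
  haveI := Fact.mk Nat.prime_three
  set W := mv V (g * g) with hW
  set W' := mv V (h * h) with hW'
  have hWV : W ≤ V := q.WV s
  have hW'V : W' ≤ V := q'.WV s'
  have hzW : h * h ∈ normalizer (W : Set G) := q.normW' s (q'.zB s')
  have hxz : Commute x (h * h) := s.zx q'.zmem
  -- the central involution of `h` fixes part of `W`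
  set L₀ := W ⊓ centralizer {h * h} with hL₀
  have hL₀1 : L₀ ≠ ⊥ := by
    intro hbot
    refine hne (eq_of_le_of_card_ge (fun w hw => ?_) ?_).symm
    · obtain ⟨w₁, hw₁, c, hc, rfl⟩ := (Coprime.mem_sup_of_le_normalizer
        ((inf_le_left : V ⊓ centralizer {h * h} ≤ V).trans (abelian_le_normalizer s.elemV hW'V))).mp
        (q'.sup.ge (hWV hw))
      have hwfix : h * h * (w₁ * c) * (h * h)⁻¹ = (w₁ * c)⁻¹ := by
        refine (inv_eq_of_mul_eq_one_right (mem_bot.mp (hbot ▸ ⟨W.mul_mem hw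
          (conj_mem_of_normalizer hzW hw), mem_centralizer_singleton_iff.mpr
          (mem_centralizer_conj.mp ?_).eq.symm⟩))).symm
        calc h * h * (w₁ * c * (h * h * (w₁ * c) * (h * h)⁻¹)) * (h * h)⁻¹
            = h * h * (w₁ * c) * (h * h)⁻¹ *
              (h * h * (h * h) * (w₁ * c) * (h * h * (h * h))⁻¹) := by
                simp only [mul_assoc, mul_inv_rev, inv_mul_cancel_left]
          _ = h * h * (w₁ * c) * (h * h)⁻¹ * (w₁ * c) := by
            rw [q'.ord, one_mul, inv_one, mul_one]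
          _ = _ := Hyperplane.mem_comm s.elemV (hWV (conj_mem_of_normalizer hzW hw)) (hWV hw)
      have h1 : h * h * (w₁ * c) * (h * h)⁻¹ = w₁⁻¹ * c := by
        calc _ = h * h * w₁ * (h * h)⁻¹ * (h * h * c * (h * h)⁻¹) := by group
          _ = _ := by rw [q'.neg w₁ hw₁, conj_eq_self (mem_centralizer_singleton_iff.mp hc.2).symm]
      rw [hwfix, mul_inv_rev] at h1
      have h2 : c⁻¹ = c := by
        have h3 : c⁻¹ * w₁⁻¹ = w₁⁻¹ * c⁻¹ :=
          Hyperplane.mem_comm s.elemV (V.inv_mem hc.1) (V.inv_mem (hW'V hw₁))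
        exact mul_left_cancel (h3.symm.trans h1)
      have h4 : c ^ 2 = 1 := by rw [sq]; nth_rw 1 [← h2]; exact inv_mul_cancel c
      have h5 : c = 1 := by
        have h3 := s.elemV.2 c hc.1
        rwa [pow_succ, h4, one_mul] at h3
      rw [h5, mul_one]; exact hw₁
    · rw [q.cardW, q'.cardW]
  have hxL₀ : x ∈ normalizer (L₀ : Set G) := normalizer_fixed (q.normWx s) hxz
  have hfix : ∀ v ∈ L₀, h * v * h⁻¹ = v := fun v hv =>
    conj_eq_self (mem_centralizer_iff.mp q'.fixg v ⟨hWV hv.1, hv.2⟩).symm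
  have hxh : Commute x h := q.move s q'.mem inf_le_left hL₀1 hxL₀ fun v hv => by
    have hv' := conj_mem_of_normalizer hxL₀ hv
    calc x * h * v * (x * h)⁻¹ = x * (h * v * h⁻¹) * x⁻¹ := by group
      _ = x * v * x⁻¹ := by rw [hfix v hv]
      _ = h * (x * v * x⁻¹) * h⁻¹ := (hfix _ hv').symm
      _ = _ := by group
  set W₂ := W ⊓ W' with hW₂
  have hxW₂ : x ∈ normalizer (W₂ : Set G) := inf_normalizer_le_normalizer_inf
    ⟨q.normWx s, normalizer_mv (s.normB (q'.zB s')) s.normV hxz⟩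
  have hbot : W₂ = ⊥ := by
    by_contra hne2
    set L := W₂ ⊓ centralizer {x} with hL
    have hL1 : L ≠ ⊥ := s.fixed_inter (inf_le_left.trans hWV) hxW₂ hne2
    have hLI : L ≤ mv V x := fun v hv => q.fixed.le ⟨hv.1.1, hv.2⟩
    have hIne : L ≠ mv V x := by
      intro e
      refine hne (eq_of_le_of_card_ge ?_ (by rw [q.cardW, q'.cardW])).symm
      have hI : mv V x ≤ W' := e ▸ inf_le_left.trans inf_le_right
      show W ≤ W'
      rw [hW, q.span]
      exact sup_le hI ((pointwise_smul_le_pointwise_smul_iff.mpr hI).trans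
        (Coprime.conj_smul_eq_self_iff.mpr (q'.normW' s' q.mem)).le)
    have hL3 : Nat.card L = 3 := by
      have hd := card_dvd_of_le hLI
      rw [q.cardI] at hd
      obtain ⟨i, hi, e⟩ := (Nat.dvd_prime_pow Nat.prime_three).mp (show Nat.card L ∣ 3 ^ 2 from hd)
      interval_cases i
      · exact absurd (eq_bot_of_card_eq L e) hL1
      · exact e
      · exact absurd (eq_of_le_of_card_ge hLI (by rw [q.cardI, e]; norm_num)) hIne
    obtain ⟨i, hi, hi1⟩ : ∃ i ∈ L, i ≠ 1 := by
      by_contra hc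
      push Not at hc
      exact hL1 ((eq_bot_iff_forall _).mpr hc)
    have hhL : h ∈ normalizer (L : Set G) := normalizer_fixed (inf_normalizer_le_normalizer_inf
      ⟨q.normW' s q'.mem, q'.normW' s' q'.mem⟩) hxh.symm
    refine no_sqrt_inv hL3 (k := h) hi hi1 (conj_mem_of_normalizer hhL hi) ?_
    calc h * (h * i * h⁻¹) * h⁻¹ = h * h * i * (h * h)⁻¹ := by group
      _ = i⁻¹ := q'.neg i hi.1.2
  have hzfix : h * h ∈ centralizer (W : Set G) := by
    refine mv_eq_bot (le_bot_iff.mp (hbot ▸ le_inf ?_ ?_))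
    · exact mv_le_self hzW
    · exact mv_le fun v hv => comm_mem_mv (hWV hv)
  exact mem_centralizer_iff.mpr fun v hv => mem_centralizer_iff.mp q'.fixg v
    ⟨hWV hv, mem_centralizer_singleton_iff.mpr (mem_centralizer_iff.mp hzfix v hv)⟩

/-- Equal supports give equal central involutions. -/
theorem same_center (he : mv V (h * h) = mv V (g * g)) : h * h = g * g := by
  have hzC : ∀ c ∈ V ⊓ centralizer {g * g}, Commute (h * h) c := fun c hc => by
    refine commutatorElement_eq_one_iff_mul_comm.mp (mem_bot.mp (q.disj ▸ ⟨he ▸ comm_mem_mv hc.1,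
      comm_mem (normalizer_fixed (s.normB (q'.zB s')) (s.zcomm (q'.zB s') q.zmem)) hc⟩))
  have hV : V ≤ centralizer {h * h * (g * g)} := by
    rw [← q.sup]
    refine sup_le (fun w hw => ?_) fun c hc => ?_
    · refine mem_centralizer_singleton_iff.mpr (mem_centralizer_conj.mp ?_).eq.symm
      calc h * h * (g * g) * w * (h * h * (g * g))⁻¹
          = h * h * (g * g * w * (g * g)⁻¹) * (h * h)⁻¹ := by group
        _ = w := by rw [q.neg w hw, q'.neg _ (he ▸ inv_mem hw), inv_inv]
    · exact mem_centralizer_singleton_iff.mpr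
        ((hzC c hc).mul_left (mem_centralizer_singleton_iff.mp hc.2).symm).eq.symm
  have h3 := s.faith _ (B.mul_mem (q'.zB s') (q.zB s))
    (mem_centralizer_iff.mpr fun v hv => mem_centralizer_singleton_iff.mp (hV hv))
  rw [← inv_eq_of_mul_eq_one_left h3, q.zinv s]

/-- An element of the same `3`-group normalises the quaternion group. -/
theorem pair_normal (hz : h * h = g * g) (hP : IsPGroup 3 (closure ({x, y} : Set G))) :
    y ∈ normalizer (qgrp x g : Set G) := by
  classical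
  haveI := Fact.mk Nat.prime_three
  haveI := Fact.mk Nat.prime_two
  set D := qgrp x g with hD
  set D' := qgrp y h with hD'
  set N := zpowers (g * g) with hN
  set U := D ⊔ D' with hU
  have hUB : U ≤ B := sup_le (q.qgrp_le s) (q'.qgrp_le s')
  have hzB : g * g ∈ B := q.zB s
  have hNc : ∀ n ∈ N, ∀ b ∈ B, Commute b n := fun n hn b hb => by
    rcases q.zpow_cases s hn with rfl | rfl
    · exact Commute.one_right b
    · exact s.zcomm hb q.zmem
  have hND : N ≤ D := zpowers_le.mpr (q.zD s)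
  have hNU : N ≤ U := hND.trans le_sup_left
  have hxU : x ∈ normalizer (U : Set G) := mem_normalizer_of_map_le fun u hu => by
    have e : x * u * x⁻¹ = u * (u⁻¹ * (x * u * x⁻¹)) := by group
    rw [e]
    exact U.mul_mem hu (mem_sup_left (q.comm_qgrp s (hUB hu)))
  have hyU : y ∈ normalizer (U : Set G) := mem_normalizer_of_map_le fun u hu => by
    have e : y * u * y⁻¹ = u * (u⁻¹ * (y * u * y⁻¹)) := by group
    rw [e]
    exact U.mul_mem hu (mem_sup_right (q'.comm_qgrp s' (hUB hu)))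
  -- the group is elementary abelian modulo `N`
  let S : Subgroup G :=
    { carrier := {d | d ∈ B ∧ d * d ∈ N ∧ ∀ f ∈ B, ⁅f, d⁆ ∈ N}
      one_mem' := ⟨B.one_mem, by simp, fun f _ => by simp⟩
      mul_mem' := fun {a b} ha hb => ⟨B.mul_mem ha.1 hb.1, by
          have e : a * b * (a * b) = a * a * ⁅a⁻¹, b⁆ * (b * b) := by
            simp only [commutatorElement_def]; group
          rw [e]
          exact N.mul_mem (N.mul_mem ha.2.1 (hb.2.2 _ (B.inv_mem ha.1))) hb.2.1, fun f hf => by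
          have e : ⁅f, a * b⁆ = ⁅f, a⁆ * (a * ⁅f, b⁆ * a⁻¹) := by
            simp only [commutatorElement_def]; group
          rw [e]
          refine N.mul_mem (ha.2.2 f hf) ?_
          rw [conj_eq_self (hNc _ (hb.2.2 f hf) a ha.1)]
          exact hb.2.2 f hf⟩
      inv_mem' := fun {a} ha => ⟨B.inv_mem ha.1, by
          rw [← mul_inv_rev]; exact N.inv_mem ha.2.1, fun f hf => by
          have e : ⁅f, a⁻¹⁆ = a⁻¹ * (⁅f, a⁆)⁻¹ * a⁻¹⁻¹ := by
            simp only [commutatorElement_def]; group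
          rw [e, conj_eq_self (hNc _ (N.inv_mem (ha.2.2 f hf)) _ (B.inv_mem ha.1))]
          exact N.inv_mem (ha.2.2 f hf)⟩ }
  have hgen : ∀ {x₁ g₁ : G}, Setup V B Z x₁ → Quat V B Z x₁ g₁ → g₁ * g₁ = g * g →
      qgrp x₁ g₁ ≤ S := by
    intro x₁ g₁ s₁ q₁ e
    refine (closure_le _).mpr ?_
    have hin : ∀ a : G, a = 1 ∨ a = g₁ * g₁ → a ∈ N := by
      rintro a (rfl | rfl)
      exacts [N.one_mem, e.symm ▸ mem_zpowers _]
    rintro _ (rfl | rfl)
    · exact ⟨q₁.mem, e.symm ▸ mem_zpowers _, fun f hf => hin _ (q₁.values s₁ hf)⟩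
    · refine ⟨q₁.memX s₁, hin _ (Or.inr ?_), fun f hf => hin _ (q₁.values' s₁ hf)⟩
      calc x₁ * g₁ * x₁⁻¹ * (x₁ * g₁ * x₁⁻¹) = x₁ * (g₁ * g₁) * x₁⁻¹ := by group
        _ = g₁ * g₁ := conj_eq_self (q₁.xz s₁)
  have hUS : U ≤ S := sup_le (hgen s q rfl) (hgen s' q' hz)
  -- the quotient
  haveI hnorm : (N.subgroupOf U).Normal := ⟨fun n hn u => mem_subgroupOf.mpr (by
    show (u : G) * n * (u : G)⁻¹ ∈ N
    rw [conj_eq_self (hNc _ (mem_subgroupOf.mp hn) _ (hUB u.2))]
    exact mem_subgroupOf.mp hn)⟩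
  set π := QuotientGroup.mk' (N.subgroupOf U)
  haveI hcomm : IsMulCommutative (U ⧸ N.subgroupOf U) := ⟨⟨fun a b => by
    obtain ⟨a, rfl⟩ := QuotientGroup.mk'_surjective _ a
    obtain ⟨b, rfl⟩ := QuotientGroup.mk'_surjective _ b
    rw [← commutatorElement_eq_one_iff_mul_comm, ← map_commutatorElement]
    exact (QuotientGroup.eq_one_iff _).mpr (mem_subgroupOf.mpr ((hUS b.2).2.2 _ (hUB a.2)))⟩⟩
  letI : CommGroup (U ⧸ N.subgroupOf U) :=
    { (inferInstance : Group (U ⧸ N.subgroupOf U)) with mul_comm := hcomm.is_comm.comm }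
  have hexp : ∀ a : U ⧸ N.subgroupOf U, a ^ 2 = 1 := fun a => by
    obtain ⟨a, rfl⟩ := QuotientGroup.mk'_surjective _ a
    rw [← map_pow]
    refine (QuotientGroup.eq_one_iff _).mpr (mem_subgroupOf.mpr ?_)
    rw [SubgroupClass.coe_pow, pow_two]
    exact (hUS a.2).2.1
  have h4 : ∀ {x₁ g₁ : G}, Setup V B Z x₁ → Quat V B Z x₁ g₁ → g₁ * g₁ = g * g →
      qgrp x₁ g₁ ≤ U → Nat.card ↥(((qgrp x₁ g₁).subgroupOf U).map π) ≤ 4 := by
    intro x₁ g₁ s₁ q₁ e hle
    set a : U := ⟨g₁, hle (mem_qgrp _ _)⟩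
    set b : U := ⟨x₁ * g₁ * x₁⁻¹, hle (mem_qgrp' _ _)⟩
    have hsub : ((((qgrp x₁ g₁).subgroupOf U).map π : Subgroup (U ⧸ N.subgroupOf U)) :
        Set (U ⧸ N.subgroupOf U)) ⊆
        ({1, π a, π b, π (a * b)} : Finset (U ⧸ N.subgroupOf U)) := by
      rintro _ ⟨d, hd, rfl⟩
      obtain ⟨δ, hδ, h'⟩ := q₁.qgrp_cases s₁ (mem_subgroupOf.mp hd)
      have key : ∀ c : U, (c : G) = δ → π d = π c := fun c hc => by
        refine (QuotientGroup.eq.mpr (mem_subgroupOf.mpr ?_)).symm
        show ((c : G))⁻¹ * d ∈ N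
        rcases h' with h' | h' <;> rw [hc, h']
        · rw [inv_mul_cancel]; exact N.one_mem
        · rw [inv_mul_cancel_left, e]; exact mem_zpowers _
      simp only [Finset.coe_insert, Finset.coe_singleton, Set.mem_insert_iff, Set.mem_singleton_iff]
      rcases hδ with hδ | hδ | hδ | hδ
      · exact Or.inl ((key 1 hδ.symm).trans (map_one π))
      · exact Or.inr (Or.inl (key a hδ.symm))
      · exact Or.inr (Or.inr (Or.inl (key b hδ.symm)))
      · exact Or.inr (Or.inr (Or.inr (key (a * b) hδ.symm)))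
    rw [show Nat.card ↥(((qgrp x₁ g₁).subgroupOf U).map π) = _ from Nat.card_coe_set_eq _]
    exact (Set.ncard_le_ncard hsub (Finset.finite_toSet _)).trans
      ((Set.ncard_coe_finset _).trans_le Finset.card_le_four)
  obtain ⟨j, hj⟩ := (((s.pgroup.to_le hUB).to_quotient (N.subgroupOf U))).exists_card_eq
  have hj4 : j ≤ 4 := by
    have htop : (D.subgroupOf U).map π ⊔ (D'.subgroupOf U).map π = ⊤ := by
      rw [← Subgroup.map_sup, ← subgroupOf_sup le_sup_left le_sup_right, subgroupOf_self,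
        ← MonoidHom.range_eq_map, MonoidHom.range_eq_top.mpr (QuotientGroup.mk'_surjective _)]
    have h16 : Nat.card (U ⧸ N.subgroupOf U) ≤ 16 := by
      rw [← card_top (G := U ⧸ N.subgroupOf U), ← htop]
      refine (Nat.le_of_dvd (Nat.mul_pos Nat.card_pos Nat.card_pos)
        (Signalizer.card_sup_dvd le_normalizer_of_normal)).trans ?_
      exact Nat.mul_le_mul (h4 s q rfl le_sup_left) (h4 s' q' hz le_sup_right)
    rw [hj] at h16
    by_contra hc
    have : 2 ^ 5 ≤ 2 ^ j := Nat.pow_le_pow_right (by norm_num) (by omega)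
    omega
  -- the action on the quotient
  set K := normalizer (U : Set G) ⊓ centralizer {g * g}
  have hKmap : ∀ k : K, (N.subgroupOf U).map
      (normalizerMonoidHom U ⟨k, k.2.1⟩ : U →* U) = N.subgroupOf U := by
    intro k
    refine eq_of_le_of_card_ge ?_ (by
      rw [card_map_of_injective (MulEquiv.injective _)])
    rintro _ ⟨n, hn, rfl⟩
    refine mem_subgroupOf.mpr ?_
    show (k : G) * n * (k : G)⁻¹ ∈ N
    have hk : Commute (k : G) (g * g) := (mem_centralizer_singleton_iff.mp k.2.2)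
    rcases q.zpow_cases s (mem_subgroupOf.mp hn) with e | e <;> rw [e]
    · simp
    · rw [conj_eq_self hk]; exact mem_zpowers _
  let ρ : K →* MulAut (U ⧸ N.subgroupOf U) :=
    { toFun := fun k => QuotientGroup.congr (N.subgroupOf U) (N.subgroupOf U)
        (normalizerMonoidHom U ⟨k, k.2.1⟩) (hKmap k)
      map_one' := MulEquiv.ext fun a => by
        induction a using QuotientGroup.induction_on with
        | H a =>
          refine congrArg QuotientGroup.mk (Subtype.ext ?_)
          show (1 : G) * a * (1 : G)⁻¹ = a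
          simp
      map_mul' := fun k l => MulEquiv.ext fun a => by
        induction a using QuotientGroup.induction_on with
        | H a =>
          refine congrArg QuotientGroup.mk (Subtype.ext ?_)
          show (k : G) * l * a * ((k : G) * l)⁻¹ = k * (l * a * (l : G)⁻¹) * (k : G)⁻¹
          group }
  have hPK : closure ({x, y} : Set G) ≤ K := (closure_le _).mpr (by
    rintro _ (rfl | rfl)
    · exact ⟨hxU, mem_centralizer_singleton_iff.mpr (q.xz s).eq⟩
    · exact ⟨hyU, mem_centralizer_singleton_iff.mpr (s'.zx q.zmem).eq⟩)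
  set R := ((closure ({x, y} : Set G)).subgroupOf K).map ρ
  have hR : IsPGroup 3 R := (hP.of_equiv (subgroupOfEquivOfLe hPK).symm).map ρ
  obtain ⟨i, hi⟩ := hR.exists_card_eq
  have hi2 : i ≤ 2 := by
    have hd : 3 ^ i ∣ ∏ m ∈ Finset.range j, (2 ^ j - 2 ^ m) := by
      rw [← hi, ← GroupStructure3.FrattiniAut.card_mulAut_elementary (p := 2) (r := j) hj hexp]
      exact card_subgroup_dvd_card R
    by_contra hc
    have h27 := (Nat.pow_dvd_pow 3 (show 3 ≤ i by omega)).trans hd
    interval_cases j <;> norm_num [Finset.prod_range_succ] at h27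
  have hRc : IsMulCommutative R := by
    interval_cases i
    · exact eq_bot_of_card_eq R (by simpa using hi) ▸ inferInstance
    · haveI : IsCyclic R := isCyclic_of_prime_card (p := 3) (by simpa using hi)
      exact IsCyclic.isMulCommutative
    · exact IsPGroup.isMulCommutative_of_card_eq_prime_sq hi
  have hxK : x ∈ K := hPK (Subgroup.subset_closure (Set.mem_insert _ _))
  have hyK : y ∈ K := hPK (Subgroup.subset_closure (Set.mem_insert_of_mem _ (Set.mem_singleton y)))
  have hρ : ρ (⟨y, hyK⟩ * ⟨x, hxK⟩ * ⟨y, hyK⟩⁻¹) = ρ ⟨x, hxK⟩ := by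
    have h1 : ρ ⟨y, hyK⟩ * ρ ⟨x, hxK⟩ = ρ ⟨x, hxK⟩ * ρ ⟨y, hyK⟩ := congrArg Subtype.val
      (hRc.is_comm.comm
        ⟨_, mem_map_of_mem ρ (mem_subgroupOf.mpr (Subgroup.subset_closure (Set.mem_insert_of_mem _ (Set.mem_singleton y))))⟩
        ⟨_, mem_map_of_mem ρ (mem_subgroupOf.mpr (Subgroup.subset_closure (Set.mem_insert _ _)))⟩)
    rw [map_mul, map_mul, map_inv, h1, mul_inv_cancel_right]
  have htwist : ∀ u ∈ U, y * (u⁻¹ * (x * u * x⁻¹)) * y⁻¹ ∈ D := by
    intro u hu
    set u₁ := y * u * y⁻¹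
    have hu₁ : u₁ ∈ U := conj_mem_of_normalizer hyU hu
    have h1 := congrArg (fun α : MulAut (U ⧸ N.subgroupOf U) => α (π ⟨u₁, hu₁⟩)) hρ
    have h2 : (QuotientGroup.mk (⟨y * x * y⁻¹ * u₁ * (y * x * y⁻¹)⁻¹,
        conj_mem_of_normalizer (mul_mem (mul_mem hyU hxU) (inv_mem hyU)) hu₁⟩ : U) :
          U ⧸ N.subgroupOf U) =
        QuotientGroup.mk (⟨x * u₁ * x⁻¹, conj_mem_of_normalizer hxU hu₁⟩ : U) := h1
    have h3 := mem_subgroupOf.mp (QuotientGroup.eq.mp h2.symm)
    have e : y * (u⁻¹ * (x * u * x⁻¹)) * y⁻¹ = u₁⁻¹ * (x * u₁ * x⁻¹) *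
        ((x * u₁ * x⁻¹)⁻¹ * (y * x * y⁻¹ * u₁ * (y * x * y⁻¹)⁻¹)) := by simp only [u₁]; group
    rw [e]
    exact D.mul_mem (q.comm_qgrp s (hUB hu₁)) (hND h3)
  set g' := x * g * x⁻¹ with hg'
  have hyz : y * (g * g) * y⁻¹ = g * g := conj_eq_self (s'.zx q.zmem)
  have hyg : y * g * y⁻¹ ∈ D := by
    have h1 := htwist g' (mem_sup_left (mem_qgrp' x g))
    rw [show x * g' * x⁻¹ = (g * g')⁻¹ from q.prod_eq s] at h1
    have hg'g' : g'⁻¹ * g'⁻¹ = g * g := by
      rw [← mul_inv_rev]
      calc (g' * g')⁻¹ = (x * (g * g) * x⁻¹)⁻¹ := by simp only [hg']; group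
        _ = g * g := by rw [conj_eq_self (q.xz s), q.zinv s]
    have e : y * (g'⁻¹ * (g * g')⁻¹) * y⁻¹ = y * (g * g) * y⁻¹ * (y * g * y⁻¹)⁻¹ := by
      rw [← hg'g']; group
    rw [e, hyz] at h1
    have := D.mul_mem (D.inv_mem (q.zD s)) h1
    rw [inv_mul_cancel_left] at this
    exact inv_mem_iff.mp this
  refine mem_normalizer_of_map_le fun d hd => ?_
  have hle : D ≤ D.comap (MulAut.conj y).toMonoidHom := by
    refine (closure_le _).mpr ?_
    rintro _ (rfl | rfl)
    · exact hyg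
    · show y * g' * y⁻¹ ∈ D
      have e : y * g' * y⁻¹ = y * g * y⁻¹ * (y * (g⁻¹ * (x * g * x⁻¹)) * y⁻¹) := by
        simp only [hg']; group
      rw [e]
      exact D.mul_mem hyg (htwist g (mem_sup_left (mem_qgrp x g)))
  exact hle hd

/-- Either the quaternion groups are equal or they commute. -/
theorem eq_or_commute (hz : h * h = g * g) (hP : IsPGroup 3 (closure ({x, y} : Set G)))
    (hcard : Nat.card (qgrp y h) ≤ Nat.card (qgrp x g)) :
    qgrp y h = qgrp x g ∨ qgrp y h ≤ centralizer (qgrp x g : Set G) := by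
  set g' := x * g * x⁻¹ with hg'
  have hyD : y ∈ normalizer (qgrp x g : Set G) := q.pair_normal s s' q' hz hP
  have hxD' : x ∈ normalizer (qgrp y h : Set G) :=
    q'.pair_normal s' s q hz.symm (by rwa [Set.pair_comm])
  set L := qgrp x g ⊓ qgrp y h with hL
  have hxL : x ∈ normalizer (L : Set G) :=
    inf_normalizer_le_normalizer_inf ⟨q.norm_qgrp s, hxD'⟩
  have hzL : g * g ∈ L := ⟨q.zD s, hz ▸ q'.zD s'⟩
  by_cases hall : ∀ d ∈ qgrp x g, Commute y d
  · exact Or.inr (le_centralizer_iff.mp fun d hd =>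
      q'.cent s' (q.qgrp_le s hd) (hall d hd))
  left
  obtain ⟨d, hd, hnc⟩ : ∃ d ∈ qgrp x g, ¬ Commute y d := by simpa using hall
  set k := d⁻¹ * (y * d * y⁻¹) with hk
  have hkL : k ∈ L := ⟨(qgrp x g).mul_mem ((qgrp x g).inv_mem hd) (conj_mem_of_normalizer hyD hd),
    q'.comm_qgrp s' (q.qgrp_le s hd)⟩
  obtain ⟨δ, hδ, hkδ⟩ := q.qgrp_cases s hkL.1
  have hδL : δ ∈ L := by
    rcases hkδ with e | e
    · exact e ▸ hkL
    · have := L.mul_mem hkL hzL
      rwa [e, mul_assoc, q.ord, mul_one] at this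
  have hδ1 : δ ≠ 1 := by
    intro e
    subst e
    have hyk : y * k * y⁻¹ = k := by
      rcases hkδ with e | e <;> rw [e]
      · simp
      · rw [one_mul]; exact conj_eq_self (s'.zx q.zmem)
    have h1 : y * d * y⁻¹ = d * k := by rw [hk, mul_inv_cancel_left]
    have h3 : d = d * (k * k * k) := by
      have e1 : y * (d * k) * y⁻¹ = d * k * k := by
        rw [show y * (d * k) * y⁻¹ = y * d * y⁻¹ * (y * k * y⁻¹) by group, h1, hyk]
      have e2 : y * (d * k * k) * y⁻¹ = d * k * k * k := by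
        rw [show y * (d * k * k) * y⁻¹ = y * (d * k) * y⁻¹ * (y * k * y⁻¹) by group, e1, hyk]
      calc d = y ^ 3 * d * (y ^ 3)⁻¹ := by rw [s'.pow3]; group
        _ = y * (y * (y * d * y⁻¹) * y⁻¹) * y⁻¹ := by
          simp only [pow_succ, pow_zero, one_mul]; group
        _ = _ := by rw [h1, e1, e2]; group
    have hk3 : k * k * k = 1 := left_eq_mul.mp h3
    have hk2 : k * k = 1 := by
      rcases hkδ with e | e <;> rw [e]
      · simp
      · rw [one_mul]; exact q.ord
    rw [hk2, one_mul] at hk3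
    exact hnc (mem_centralizer_conj.mp (by rw [h1, hk3, mul_one]))
  have hgL : g ∈ L := by
    rcases hδ with e | e | e | e
    · exact absurd e hδ1
    · exact e ▸ hδL
    · have h0 : g' ∈ L := by rw [hg', ← e]; exact hδL
      have h1 := conj_mem_of_normalizer hxL h0
      rw [q.prod_eq s, inv_mem_iff] at h1
      have := L.mul_mem h1 (L.inv_mem h0)
      rwa [mul_inv_cancel_right] at this
    · have h0 : g * g' ∈ L := by rw [hg', ← Set.mem_singleton_iff.mp e]; exact hδL
      have h1 := conj_mem_of_normalizer hxL h0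
      have e2 : x * (g * g') * x⁻¹ = g' * (x * g' * x⁻¹) := by simp only [hg']; group
      rw [e2, q.prod_eq s, mul_inv_rev, mul_inv_cancel_left, inv_mem_iff] at h1
      exact h1
  have hle : qgrp x g ≤ qgrp y h := (closure_le _).mpr (by
    rintro _ (rfl | rfl)
    · exact hgL.2
    · exact (conj_mem_of_normalizer hxL hgL).2)
  exact (eq_of_le_of_card_ge hle hcard).symm

end Quat

end Cfsg.Agent.SolvableSignalizer.Linear.Three
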