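import Cfsg.Agent.Lib.SolvableSignalizer.Linear.Ops
import Mathlib.Tactic.LinearCombination

/-!
A quadratic element `x` of order three moving a `2`-group `B` of operators and little of `V`:
each moved element of `B` gives a quaternion group acting on a subgroup of order `81`.
-/

set_option autoImplicit false
set_option linter.style.haveILetI false
set_option linter.unusedSectionVars false

namespace Cfsg.Agent.SolvableSignalizer.Linear.Three

open Subgroup
open Cfsg.Agent.Components
open scoped commutatorElement Pointwise IsMulCommutative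

variable {G : Type*} [Group G] [Finite G] {V B Z : Subgroup G} {x g : G}

/-- The hypotheses. -/
structure Setup (V B Z : Subgroup G) (x : G) : Prop where
  elemV : Cfsg.IsElementaryAbelian 3 V
  normB : B ≤ normalizer (V : Set G)
  normV : x ∈ normalizer (V : Set G)
  normX : x ∈ normalizer (B : Set G)
  sq : Sq V x
  small : Nat.card (mv V x) ≤ 9
  faith : ∀ b ∈ B, b ∈ centralizer (V : Set G) → b = 1
  pgroup : IsPGroup 2 B
  zle : Z ≤ B
  zcentral : Z ≤ centralizer (B : Set G)
  zfix : x ∈ centralizer (Z : Set G)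
  comm : ∀ b ∈ B, ∀ c ∈ B, ⁅b, c⁆ ∈ Z
  pow : ∀ b ∈ B, b ^ 2 ∈ Z
  pow3 : x ^ 3 = 1
  plane : ∀ D : Subgroup G, D ≤ B → x ∈ normalizer (D : Set G) →
    Nat.card (⁅V, D⁆ : Subgroup G) = 9 → x ∈ centralizer (D : Set G)

/-- The element `g` of `B`, with its conjugates under `x`, on `W = ⁅V, g * g⁆`. -/
structure Quat (V B Z : Subgroup G) (x g : G) : Prop where
  mem : g ∈ B
  comm : ⁅g, x * g * x⁻¹⁆ = g * g
  prod : g * (x * g * x⁻¹) * (x * (x * g * x⁻¹) * x⁻¹) = 1
  ne : g * g ≠ 1
  ord : g * g * (g * g) = 1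
  zmem : g * g ∈ Z
  neg : ∀ w ∈ mv V (g * g), g * g * w * (g * g)⁻¹ = w⁻¹
  sup : mv V (g * g) ⊔ (V ⊓ centralizer {g * g}) = V
  disj : mv V (g * g) ⊓ (V ⊓ centralizer {g * g}) = ⊥
  fixg : g ∈ centralizer ((V ⊓ centralizer {g * g} : Subgroup G) : Set G)
  fixx : x ∈ centralizer ((V ⊓ centralizer {g * g} : Subgroup G) : Set G)
  span : mv V (g * g) = mv V x ⊔ MulAut.conj g • mv V x
  fixed : mv V (g * g) ⊓ centralizer {x} = mv V x
  cardI : Nat.card (mv V x) = 9
  cardW : Nat.card (mv V (g * g)) = 81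
  formula : ∀ w ∈ mv V (g * g), ⁅x, w⁆ =
    (x * g * x⁻¹ * (g * w * g⁻¹) * (x * g * x⁻¹)⁻¹ * (g * w * g⁻¹) *
      (x * g * x⁻¹ * w * (x * g * x⁻¹)⁻¹))⁻¹

lemma mem_normalizer_of_map_le {D : Subgroup G} {k : G}
    (h : ∀ d ∈ D, k * d * k⁻¹ ∈ D) : k ∈ normalizer (D : Set G) := by
  refine Coprime.conj_smul_eq_self_iff.mp (eq_of_le_of_card_ge ?_ ?_)
  · rintro _ ⟨d, hd, rfl⟩
    exact h d hd
  · rw [Coprime.card_conj_smul]

lemma normalizer_mv {k z : G} (hz : z ∈ normalizer (V : Set G)) (hk : k ∈ normalizer (V : Set G))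
    (h : Commute k z) : k ∈ normalizer ((mv V z : Subgroup G) : Set G) := by
  rw [← commutator_zpowers_eq hz]
  exact le_normalizer_commutator' hk (le_normalizer_of_comm h.eq)

lemma normalizer_fixed {k z : G} (hk : k ∈ normalizer (V : Set G)) (h : Commute k z) :
    k ∈ normalizer ((V ⊓ centralizer {z} : Subgroup G) : Set G) := by
  rw [← centralizer_zpowers]
  exact inf_normalizer_le_normalizer_inf
    ⟨hk, normalizer_le_centralizer' _ (le_normalizer_of_comm h.eq)⟩

lemma inv_of_unipotent {R : Type*} [Ring R] {X Y : R} (h1 : Y * X = 1)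
    (h2 : (X - 1) * (X - 1) = 0) : Y = 1 - (X - 1) := by
  calc Y = Y * (1 - (X - 1) * (X - 1)) := by rw [h2, sub_zero, mul_one]
    _ = Y * X * (1 - (X - 1)) := by noncomm_ring
    _ = 1 - (X - 1) := by rw [h1, one_mul]

lemma add_eq_zero_of_eq_neg_one_mul {R : Type*} [Ring R] {a b c : R} (h : c = -1) (hab : a = c * b) :
    a + b = 0 := by rw [hab, h, neg_one_mul, neg_add_cancel]

namespace Setup

variable (s : Setup V B Z x)
include s

lemma zcomm {b z : G} (hb : b ∈ B) (hz : z ∈ Z) : Commute b z :=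
  mem_centralizer_iff.mp (s.zcentral hz) b hb

lemma zx {z : G} (hz : z ∈ Z) : Commute x z := (mem_centralizer_iff.mp s.zfix z hz).symm

lemma two_pow {b : G} (hb : b ∈ B) : ∃ k : ℕ, b ^ 2 ^ k = 1 := by
  obtain ⟨k, hk⟩ := s.pgroup ⟨b, hb⟩
  exact ⟨k, congrArg Subtype.val hk⟩

lemma not_dvd {D : Subgroup G} (hD : D ≤ B) : ¬ 3 ∣ Nat.card D := by
  intro h
  obtain ⟨k, hk⟩ := (s.pgroup.to_le hD).exists_card_eq
  rw [hk] at h
  have := Nat.prime_three.dvd_of_dvd_pow h
  norm_num at this

lemma fixed_inter {Y : Subgroup G} (hY : Y ≤ V) (hx : x ∈ normalizer (Y : Set G)) (hY1 : Y ≠ ⊥) :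
    Y ⊓ centralizer {x} ≠ ⊥ := by
  haveI := Fact.mk Nat.prime_three
  rw [← centralizer_zpowers]
  refine fixed_ne_bot ((Hyperplane.isPGroup s.elemV).to_le hY) ?_ (zpowers_le.mpr hx) hY1
  rintro ⟨y, hy⟩
  obtain ⟨n, rfl⟩ := mem_zpowers_iff.mp hy
  refine ⟨1, Subtype.ext ?_⟩
  show (x ^ n) ^ 3 ^ 1 = 1
  rw [pow_one, ← zpow_natCast, ← zpow_mul, mul_comm, zpow_mul, zpow_natCast, s.pow3, one_zpow]

lemma quad_op {Y : Subgroup G} [IsMulCommutative Y] (hY : Y ≤ V) (hx : x ∈ normalizer (Y : Set G)) :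
    (op Y ⟨x, hx⟩ - 1) * (op Y ⟨x, hx⟩ - 1) = 0 := by
  have hval : ∀ v : Additive Y, (((op Y ⟨x, hx⟩ - 1) v).toMul : G) = ⁅x, (v.toMul : G)⁆ := fun v => by
    show x * (v.toMul : G) * x⁻¹ / (v.toMul : G) = _
    rw [div_eq_mul_inv, commutatorElement_def]
  ext v
  show (((op Y ⟨x, hx⟩ - 1) ((op Y ⟨x, hx⟩ - 1) v)).toMul : G) = 1
  rw [hval, hval]
  exact commutatorElement_eq_one_iff_mul_comm.mpr (s.sq _ (hY v.toMul.2)).eq

lemma op_inv {Y : Subgroup G} [IsMulCommutative Y] (hY : Y ≤ V) (hx : x ∈ normalizer (Y : Set G)) :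
    op Y ⟨x, hx⟩⁻¹ = 1 - (op Y ⟨x, hx⟩ - 1) := by
  exact inv_of_unipotent (by rw [← map_mul, inv_mul_cancel, map_one]) (s.quad_op hY hx)

lemma op_conj {Y : Subgroup G} [IsMulCommutative Y] (hY : Y ≤ V) (hx : x ∈ normalizer (Y : Set G))
    (k : normalizer (Y : Set G)) : op Y (⟨x, hx⟩ * k * ⟨x, hx⟩⁻¹) =
      (1 + (op Y ⟨x, hx⟩ - 1)) * op Y k * (1 - (op Y ⟨x, hx⟩ - 1)) := by
  rw [map_mul, map_mul, s.op_inv hY hx, add_sub_cancel]

lemma op_three {Y : Subgroup G} [IsMulCommutative Y] (hY : Y ≤ V) :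
    (3 : AddMonoid.End (Additive Y)) = 0 := by
  have h := op_natCast_eq_zero (Y := Y) (n := 3) fun v hv => s.elemV.2 v (hY hv)
  exact_mod_cast h

/-- An element commuting on `Y` with its `x`-conjugate centralises `Y`. -/
theorem fix_of_triple {Y : Subgroup G} (hY : Y ≤ V) (hx : x ∈ normalizer (Y : Set G)) (hg : g ∈ B)
    (hgY : g ∈ normalizer (Y : Set G))
    (hprod : g * (x * g * x⁻¹) * (x * (x * g * x⁻¹) * x⁻¹) = 1)
    (hcomm : ∀ v ∈ Y, g * (x * g * x⁻¹) * v * (g * (x * g * x⁻¹))⁻¹ =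
      x * g * x⁻¹ * g * v * (x * g * x⁻¹ * g)⁻¹) : g ∈ centralizer (Y : Set G) := by
  haveI : IsMulCommutative Y := (elem_le (hp := ⟨Nat.prime_three⟩) s.elemV hY).1
  set X : normalizer (Y : Set G) := ⟨x, hx⟩
  set gN : normalizer (Y : Set G) := ⟨g, hgY⟩
  obtain ⟨k, hk⟩ := s.two_pow hg
  refine (op_eq_one_iff (g := gN)).mp (triple_eq_one (s.op_three hY) (s.quad_op hY hx) ?_ ?_ ?_
    (k := k) ?_)
  · have h : X * (gN * gN) = gN * gN * X :=
      Subtype.ext (s.zx (by rw [← pow_two]; exact s.pow g hg)).eq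
    have h' := congrArg (op Y) h
    simp only [map_mul] at h'
    simp only [mul_sub, sub_mul, mul_one, one_mul]
    rw [h']
  · rw [← s.op_conj hY hx, ← map_mul, ← map_mul, op_eq_iff]
    exact hcomm
  · rw [← s.op_conj hY hx, ← s.op_conj hY hx, ← map_mul, ← map_mul]
    rw [show gN * (X * gN * X⁻¹) * (X * (X * gN * X⁻¹) * X⁻¹) = 1 from Subtype.ext hprod, map_one]
  · rw [← map_pow, show gN ^ 2 ^ k = 1 from Subtype.ext (by simpa using hk), map_one]

theorem exists_quat {e : G} (he : e ∈ B) (hxe : ¬ Commute x e) :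
    Quat V B Z x (e⁻¹ * x * e * x⁻¹) := by
  haveI := Fact.mk Nat.prime_three
  haveI : IsMulCommutative V := s.elemV.1
  set g := e⁻¹ * x * e * x⁻¹ with hg
  set g' := x * g * x⁻¹ with hg'
  have hx2 : x⁻¹ = x ^ 2 := inv_eq_of_mul_eq_one_right (by rw [← pow_succ', s.pow3])
  have hgB : g ∈ B := by
    rw [hg, mul_assoc, mul_assoc, ← mul_assoc x]
    exact B.mul_mem (B.inv_mem he) (conj_mem_of_normalizer s.normX he)
  have hg'B : g' ∈ B := conj_mem_of_normalizer s.normX hgB
  have hprod : g * g' * (x * g' * x⁻¹) = 1 := by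
    calc g * g' * (x * g' * x⁻¹) = e⁻¹ * x ^ 3 * e * x⁻¹ ^ 3 := by
          simp only [hg', hg, pow_succ, pow_zero, one_mul]; group
      _ = 1 := by rw [inv_pow, s.pow3]; group
  set z := ⁅g, g'⁆ with hz
  have hzZ : z ∈ Z := s.comm g hgB g' hg'B
  have hzB := s.zle hzZ
  have hggZ : g * g ∈ Z := by rw [← pow_two]; exact s.pow g hgB
  have hzz : z * z = 1 := by
    have h1 : ⁅g * g, g'⁆ = g * z * g⁻¹ * z := by simp only [hz, commutatorElement_def]; group
    rw [commutatorElement_eq_one_iff_mul_comm.mpr (s.zcomm hg'B hggZ).eq.symm,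
      conj_eq_self (s.zcomm hgB hzZ)] at h1
    exact h1.symm
  have hzi : z⁻¹ = z := inv_eq_of_mul_eq_one_right hzz
  have hgg' : g * g' = z * (g' * g) := by simp only [hz, commutatorElement_def]; group
  have hgV := s.normB hgB
  have hzV := s.normB hzB
  have hg'V := s.normB hg'B
  have hne : z ≠ 1 := by
    intro h
    have h1 := s.fix_of_triple le_rfl s.normV hgB hgV hprod fun v _ => by
      rw [← hg', hgg', h, one_mul]
    have h2 := s.faith g hgB h1
    apply hxe
    calc x * e = e * g * x := by simp only [hg]; group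
      _ = e * x := by rw [h2, mul_one]
  set W := mv V z with hW
  set Cz := V ⊓ centralizer {z} with hCz
  have hWV : W ≤ V := mv_le_self hzV
  have hsplit := split s.elemV (s.not_dvd (zpowers_le.mpr hzB)) (zpowers_le.mpr hzV)
  rw [commutator_zpowers_eq hzV, centralizer_zpowers, ← hCz, ← hW] at hsplit
  obtain ⟨hsup, hdisj, -⟩ := hsplit
  have hgW : g ∈ normalizer (W : Set G) := normalizer_mv hzV hgV (s.zcomm hgB hzZ)
  have hxW : x ∈ normalizer (W : Set G) := normalizer_mv hzV s.normV (s.zx hzZ)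
  have hzW : z ∈ normalizer (W : Set G) := normalizer_mv hzV hzV (Commute.refl z)
  have hgC : g ∈ normalizer (Cz : Set G) := normalizer_fixed hgV (s.zcomm hgB hzZ)
  have hxC : x ∈ normalizer (Cz : Set G) := normalizer_fixed s.normV (s.zx hzZ)
  have hfixg : g ∈ centralizer (Cz : Set G) := s.fix_of_triple inf_le_left hxC hgB hgC hprod
    fun v hv => by
      have hv' : z * v * z⁻¹ = v := conj_eq_self (mem_centralizer_singleton_iff.mp hv.2).symm
      rw [← hg', hgg', (((s.zcomm hg'B hzZ).mul_left (s.zcomm hgB hzZ))).eq.symm]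
      calc g' * g * z * v * (g' * g * z)⁻¹ = g' * g * (z * v * z⁻¹) * (g' * g)⁻¹ := by group
        _ = _ := by rw [hv']
  have hfree : ∀ w ∈ W, Commute z w → w = 1 := fun w hw h =>
    mem_bot.mp (hdisj ▸ ⟨hw, hWV hw, mem_centralizer_singleton_iff.mpr h.eq.symm⟩)
  have hneg : ∀ w ∈ W, z * w * z⁻¹ = w⁻¹ := fun w hw => by
    refine (inv_eq_of_mul_eq_one_right (hfree _ (W.mul_mem hw (conj_mem_of_normalizer hzW hw)) ?_)).symm
    refine mem_centralizer_conj.mp ?_
    calc z * (w * (z * w * z⁻¹)) * z⁻¹ = z * w * z⁻¹ * (z * z * w * (z * z)⁻¹) := by group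
      _ = z * w * z⁻¹ * w := by rw [hzz]; group
      _ = w * (z * w * z⁻¹) := Hyperplane.mem_comm s.elemV (conj_mem_of_normalizer hzV (hWV hw)) (hWV hw)
  -- everything happens inside the images of `x` and of its conjugate by `e`
  set I := mv V x
  set J := I ⊔ MulAut.conj e⁻¹ • I
  have hIV : I ≤ V := mv_le_self s.normV
  have heV := s.normB he
  have hJV : J ≤ V := sup_le hIV ((pointwise_smul_le_pointwise_smul_iff.mpr hIV).trans
    (Coprime.conj_smul_eq_self_iff.mpr (inv_mem heV)).le)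
  have hJ81 : Nat.card J ≤ 81 := by
    refine (Nat.le_of_dvd (Nat.mul_pos Nat.card_pos Nat.card_pos) (Signalizer.card_sup_dvd
      (((le_sup_right : MulAut.conj e⁻¹ • I ≤ J).trans hJV).trans
        (abelian_le_normalizer s.elemV hIV)))).trans ?_
    rw [Coprime.card_conj_smul]
    exact Nat.mul_le_mul s.small s.small
  have hWJ : W ≤ J := by
    let S : Subgroup G :=
      { carrier := {h | h ∈ normalizer (V : Set G) ∧ ∀ v ∈ V, ⁅h, v⁆ ∈ J}
        one_mem' := ⟨one_mem _, fun v _ => by simp⟩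
        mul_mem' := fun {a b} ha hb => ⟨mul_mem ha.1 hb.1, fun v hv => by
          have h1 : ⁅a * b, v⁆ = ⁅a, b * v * b⁻¹⁆ * ⁅b, v⁆ := by
            simp only [commutatorElement_def]; group
          rw [h1]
          exact J.mul_mem (ha.2 _ (conj_mem_of_normalizer hb.1 hv)) (hb.2 v hv)⟩
        inv_mem' := fun {a} ha => ⟨inv_mem ha.1, fun v hv => by
          have h1 : ⁅a⁻¹, v⁆ = (⁅a, a⁻¹ * v * a⁆)⁻¹ := by simp only [commutatorElement_def]; group
          rw [h1]
          exact J.inv_mem (ha.2 _ (conj_mem_of_normalizer' ha.1 hv))⟩ }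
    have hxS : x ∈ S := ⟨s.normV, fun v hv => mem_sup_left (comm_mem_mv hv)⟩
    have hkS : e⁻¹ * x * e ∈ S := ⟨mul_mem (mul_mem (inv_mem heV) s.normV) heV, fun v hv => by
      refine mem_sup_right ⟨_, comm_mem_mv (conj_mem_of_normalizer heV hv), ?_⟩
      show e⁻¹ * ⁅x, e * v * e⁻¹⁆ * e⁻¹⁻¹ = _
      simp only [commutatorElement_def]; group⟩
    have hgS : g ∈ S := S.mul_mem hkS (S.inv_mem hxS)
    have hg'S : g' ∈ S := S.mul_mem (S.mul_mem hxS hgS) (S.inv_mem hxS)
    have hzS : z ∈ S := by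
      rw [hz, commutatorElement_def]
      exact S.mul_mem (S.mul_mem (S.mul_mem hgS hg'S) (S.inv_mem hgS)) (S.inv_mem hg'S)
    exact mv_le hzS.2
  -- the fixed points of `x` on `W`
  set U := W ⊓ centralizer {x} with hU
  have hmeet : U ⊓ MulAut.conj g • U = ⊥ := by
    rw [eq_bot_iff]
    rintro _ ⟨hu, w, hw, rfl⟩
    have hu' : Commute x (g * w * g⁻¹) := (mem_centralizer_singleton_iff.mp hu.2).symm
    have hw' : Commute x w := (mem_centralizer_singleton_iff.mp hw.2).symm
    have h1 : g' * w * g'⁻¹ = g * w * g⁻¹ := by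
      calc g' * w * g'⁻¹ = x * (g * (x⁻¹ * w * x) * g⁻¹) * x⁻¹ := by simp only [hg']; group
        _ = x * (g * w * g⁻¹) * x⁻¹ := by
          rw [mul_assoc x⁻¹, ← hw'.eq, inv_mul_cancel_left]
        _ = g * w * g⁻¹ := conj_eq_self hu'
    have h2 : g' * (g * w * g⁻¹) * g'⁻¹ = g * (g * w * g⁻¹) * g⁻¹ := by
      have hgg : Commute x (g * g * w * (g * g)⁻¹) := by
        exact ((s.zx hggZ).mul_right hw').mul_right (s.zx hggZ).inv_right
      calc g' * (g * w * g⁻¹) * g'⁻¹ = x * (g * (x⁻¹ * (g * w * g⁻¹) * x) * g⁻¹) * x⁻¹ := by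
            simp only [hg']; group
        _ = x * (g * (g * w * g⁻¹) * g⁻¹) * x⁻¹ := by
          rw [mul_assoc x⁻¹, ← hu'.eq, inv_mul_cancel_left]
        _ = x * (g * g * w * (g * g)⁻¹) * x⁻¹ := by group
        _ = g * g * w * (g * g)⁻¹ := conj_eq_self hgg
        _ = _ := by group
    have h3 : z * (g * g * w * (g * g)⁻¹) * z⁻¹ = g * g * w * (g * g)⁻¹ := by
      calc z * (g * g * w * (g * g)⁻¹) * z⁻¹ = z * (g * (g * w * g⁻¹) * g⁻¹) * z⁻¹ := by group
        _ = z * (g' * (g * w * g⁻¹) * g'⁻¹) * z⁻¹ := by rw [h2]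
        _ = z * (g' * g) * w * (z * (g' * g))⁻¹ := by group
        _ = g * g' * w * (g * g')⁻¹ := by rw [hgg']
        _ = g * (g' * w * g'⁻¹) * g⁻¹ := by group
        _ = g * g * w * (g * g)⁻¹ := by rw [h1]; group
    have h4 := hfree _ (conj_mem_of_normalizer (mul_mem hgW hgW) hw.1) (mem_centralizer_conj.mp h3)
    rw [conj_eq_one_iff] at h4
    simp [h4]
  have hgU : MulAut.conj g • U ≤ W :=
    (pointwise_smul_le_pointwise_smul_iff.mpr inf_le_left).trans
      (Coprime.conj_smul_eq_self_iff.mpr hgW).le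
  have hWe := elem_le s.elemV hWV
  have hcardsup : Nat.card ↥(U ⊔ MulAut.conj g • U) = Nat.card U * Nat.card U := by
    rw [Coprime.card_sup_of_disjoint (hgU.trans (abelian_le_normalizer hWe inf_le_left))
      (disjoint_iff.mpr hmeet), Coprime.card_conj_smul]
  have hmvW : mv W x ≤ U := mv_le fun v hv =>
    ⟨comm_mem hxW hv, mem_centralizer_singleton_iff.mpr (s.sq v (hWV hv)).eq.symm⟩
  have hmvWI : mv W x ≤ I := mv_le fun v hv => comm_mem_mv (hWV hv)
  have hcardW : Nat.card W = Nat.card U * Nat.card U := by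
    refine le_antisymm ?_ (hcardsup ▸ card_le_of_le (sup_le inf_le_left hgU))
    rw [← card_mv hWe hxW]
    exact Nat.mul_le_mul_right _ (card_le_of_le hmvW)
  have hmvU : mv W x = U := by
    refine eq_of_le_of_card_ge hmvW ?_
    have h1 := card_mv hWe hxW
    rw [hcardW, ← hU] at h1
    exact (Nat.eq_of_mul_eq_mul_right Nat.card_pos h1).ge
  obtain ⟨k, hk⟩ := ((Hyperplane.isPGroup s.elemV).to_le
    ((inf_le_left : U ≤ W).trans hWV)).exists_card_eq
  have hk2 : k = 2 := by
    have h81 := (card_le_of_le hWJ).trans hJ81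
    rw [hcardW, hk] at h81
    rcases k with _ | _ | _ | k
    · exfalso
      rw [hk, pow_zero, mul_one] at hcardW
      exact hne (s.faith z hzB (mv_eq_bot (eq_bot_of_card_eq W hcardW)))
    · exfalso
      set D := closure ({g, g'} : Set G) with hD
      have hDB : D ≤ B := (closure_le _).mpr (by rintro _ (rfl | rfl) <;> assumption)
      have hgD : g ∈ D := subset_closure (Set.mem_insert _ _)
      have hg'D : g' ∈ D := subset_closure (Set.mem_insert_of_mem _ rfl)
      have hxD : x ∈ normalizer (D : Set G) := by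
        refine mem_normalizer_of_map_le fun d hd => ?_
        have hle : D ≤ D.comap (MulAut.conj x).toMonoidHom := by
          rw [hD, closure_le]
          rintro _ (rfl | rfl)
          · exact hg'D
          · show x * g' * x⁻¹ ∈ D
            rw [← inv_eq_of_mul_eq_one_right hprod]
            exact D.inv_mem (D.mul_mem hgD hg'D)
        exact hle hd
      have hDW : ⁅V, D⁆ = W := by
        refine le_antisymm ?_ ?_
        · have hg'fix : g' ∈ centralizer (Cz : Set G) :=
            conj_mem_of_normalizer (normalizer_le_centralizer' _ hxC) hfixg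
          have hg'W : g' ∈ normalizer (W : Set G) := normalizer_mv hzV hg'V (s.zcomm hg'B hzZ)
          have hDn : D ≤ normalizer (W : Set G) ⊓ centralizer (Cz : Set G) := by
            rw [hD, closure_le]
            rintro _ (rfl | rfl)
            exacts [⟨hgW, hfixg⟩, ⟨hg'W, hg'fix⟩]
          rw [commutator_le]
          intro v hv d hd
          obtain ⟨w, hw, c, hc, rfl⟩ := (Coprime.mem_sup_of_le_normalizer
            ((inf_le_left : Cz ≤ V).trans (abelian_le_normalizer s.elemV hWV))).mp (hsup.ge hv)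
          have h1 : ⁅w * c, d⁆ = w * (c * d * c⁻¹ * d⁻¹) * (w⁻¹ * ⁅w, d⁆) := by
            simp only [commutatorElement_def]; group
          rw [h1, show c * d * c⁻¹ * d⁻¹ = 1 from commutatorElement_eq_one_iff_mul_comm.mpr
            (mem_centralizer_iff.mp (hDn hd).2 c hc)]
          simp only [mul_one, mul_inv_cancel_left]
          rw [commutatorElement_def, mul_assoc, mul_assoc, ← mul_assoc d]
          exact W.mul_mem hw (conj_mem_of_normalizer (hDn hd).1 (W.inv_mem hw))
        · rw [hW, ← commutator_zpowers_eq hzV]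
          refine commutator_mono le_rfl (zpowers_le.mpr ?_)
          rw [hz, commutatorElement_def]
          exact D.mul_mem (D.mul_mem (D.mul_mem hgD hg'D) (D.inv_mem hgD)) (D.inv_mem hg'D)
      have h1 := mem_centralizer_iff.mp
        (s.plane D hDB hxD (by rw [hDW, hcardW, hk]; norm_num)) g hgD
      have h2 : g' = g := conj_eq_self (show Commute x g from h1.symm)
      exact hne (by rw [hz, h2]; exact commutatorElement_self g)
    · rfl
    · exfalso
      have h8 : 3 ^ 3 ≤ 3 ^ (k + 1 + 1 + 1) := Nat.pow_le_pow_right (by norm_num) (by omega)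
      have := (Nat.mul_le_mul h8 h8).trans h81
      norm_num at this
  subst hk2
  have hW81 : Nat.card W = 81 := by rw [hcardW, hk]; norm_num
  have hUI : U = I := eq_of_le_of_card_ge (hmvU ▸ hmvWI)
    (by rw [hk]; exact s.small.trans_eq (by norm_num))
  have hspan : W = I ⊔ MulAut.conj g • I := hUI ▸
    (eq_of_le_of_card_ge (sup_le inf_le_left hgU) (by rw [hcardsup, hcardW])).symm
  -- the operators
  haveI : IsMulCommutative W := hWe.1
  set X : normalizer (W : Set G) := ⟨x, hxW⟩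
  set gN : normalizer (W : Set G) := ⟨g, hgW⟩
  set zN : normalizer (W : Set G) := ⟨z, hzW⟩
  set M := op W X - 1
  have hopz : op W zN = -1 := by
    ext v
    show z * (v.toMul : G) * z⁻¹ = ((v.toMul : W) : G)⁻¹
    exact hneg _ v.toMul.2
  have hCM : op W gN * op W gN * M = M * (op W gN * op W gN) := by
    have h : X * (gN * gN) = gN * gN * X := Subtype.ext (s.zx hggZ).eq
    have h' := congrArg (op W) h
    simp only [map_mul] at h'
    simp only [M, mul_sub, sub_mul, mul_one, one_mul]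
    rw [h']
  have hanti : op W gN * ((1 + M) * op W gN * (1 - M)) + (1 + M) * op W gN * (1 - M) * op W gN = 0 := by
    rw [← s.op_conj hWV hxW, ← map_mul, ← map_mul]
    refine add_eq_zero_of_eq_neg_one_mul hopz ?_
    rw [← map_mul]
    exact congrArg (op W) (Subtype.ext hgg')
  obtain ⟨k, hgk⟩ := s.two_pow hgB
  obtain ⟨h1, h2⟩ := triple_quat (s.op_three hWV) (s.quad_op hWV hxW) hCM hanti (by
    rw [← s.op_conj hWV hxW, ← s.op_conj hWV hxW, ← map_mul, ← map_mul]
    rw [show gN * (X * gN * X⁻¹) * (X * (X * gN * X⁻¹) * X⁻¹) = 1 from Subtype.ext hprod, map_one])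
    (k := k) (by rw [← map_pow, show gN ^ 2 ^ k = 1 from Subtype.ext (by simpa using hgk), map_one])
  have hgg : g * g = z := by
    have hfixI : ∀ u ∈ U, g * g * u * (g * g)⁻¹ = u⁻¹ := by
      intro u hu
      rw [← hmvU, mv_eq_range hWe hxW] at hu
      obtain ⟨v, rfl⟩ := hu
      have h3 := congrArg (fun f : AddMonoid.End (Additive W) =>
        ((f (Additive.ofMul v)).toMul : G)) h1
      have h4 : g * (g * (x * (v : G) * x⁻¹ / (v : G)) * g⁻¹) * g⁻¹ =
          (x * (v : G) * x⁻¹ / (v : G))⁻¹ := h3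
      rw [div_eq_mul_inv] at h4
      simp only [moveHom_apply, commutatorElement_def]
      rw [← h4]
      group
    have hk : z * (g * g) ∈ centralizer (V : Set G) := by
      have hcg : Commute g (z * (g * g)) :=
        (s.zcomm hgB hzZ).mul_right ((Commute.refl g).mul_right (Commute.refl g))
      have hV : V ≤ centralizer {z * (g * g)} := by
        rw [← hsup]
        refine sup_le ?_ fun v hv => mem_centralizer_singleton_iff.mpr
          ((mem_centralizer_iff.mp (mul_mem (mem_centralizer_iff.mpr fun w hw =>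
            mem_centralizer_singleton_iff.mp hw.2) (mul_mem hfixg hfixg)) v hv))
        have hU' : U ≤ centralizer {z * (g * g)} := fun u hu => by
          refine mem_centralizer_singleton_iff.mpr (mem_centralizer_conj.mp ?_).eq.symm
          calc z * (g * g) * u * (z * (g * g))⁻¹ = z * (g * g * u * (g * g)⁻¹) * z⁻¹ := by group
            _ = u := by rw [hfixI u hu, hneg _ (W.inv_mem hu.1), inv_inv]
        rw [hspan, ← hUI]
        refine sup_le hU' ?_
        rintro _ ⟨u, hu, rfl⟩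
        refine mem_centralizer_singleton_iff.mpr (mem_centralizer_conj.mp ?_).eq.symm
        calc z * (g * g) * (g * u * g⁻¹) * (z * (g * g))⁻¹
            = z * (g * g) * g * u * (z * (g * g) * g)⁻¹ := by group
          _ = g * (z * (g * g)) * u * (g * (z * (g * g)))⁻¹ := by rw [hcg.eq]
          _ = g * (z * (g * g) * u * (z * (g * g))⁻¹) * g⁻¹ := by group
          _ = g * u * g⁻¹ := by
            rw [conj_eq_self (mem_centralizer_singleton_iff.mp (hU' hu)).symm]
      exact mem_centralizer_iff.mpr fun v hv => mem_centralizer_singleton_iff.mp (hV hv)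
    have h3 := s.faith _ (B.mul_mem hzB (B.mul_mem hgB hgB)) hk
    rw [← inv_eq_of_mul_eq_one_right h3, hzi]
  have hopgg : op W gN * op W gN = -1 := by
    rw [← map_mul, show gN * gN = zN from Subtype.ext hgg, hopz]
  have hform := quat_formula (s.op_three hWV) hopgg h2 hanti
  refine ⟨hgB, hgg.symm, hprod, hgg ▸ hne, by rw [hgg, hzz], hgg ▸ hzZ, ?_, ?_, ?_, ?_, ?_, ?_, ?_,
    ?_, ?_, ?_⟩
  all_goals try rw [hgg]
  · exact hneg
  · exact hsup
  · exact hdisj
  · exact hfixg
  · refine mem_centralizer_iff.mpr fun c hc => ?_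
    refine (commutatorElement_eq_one_iff_mul_comm.mp (mem_bot.mp (hdisj ▸ ⟨?_, comm_mem hxC hc⟩))).symm
    exact (hUI.ge.trans inf_le_left) (comm_mem_mv hc.1)
  · exact hspan
  · exact hUI
  · show Nat.card I = 9
    rw [← hUI, hk]; norm_num
  · exact hW81
  · intro w hw
    rw [← s.op_conj hWV hxW, ← map_mul] at hform
    have h3 := congrArg (fun f : AddMonoid.End (Additive W) =>
      ((f (Additive.ofMul ⟨w, hw⟩)).toMul : G)) hform
    have h4 : x * w * x⁻¹ / w = (x * g * x⁻¹ * g * w * (x * g * x⁻¹ * g)⁻¹ * (g * w * g⁻¹) *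
        (x * g * x⁻¹ * w * (x * g * x⁻¹)⁻¹))⁻¹ := h3
    rw [commutatorElement_def, ← div_eq_mul_inv, h4]
    group

end Setup

end Cfsg.Agent.SolvableSignalizer.Linear.Three
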